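import Cfsg.Agent.Lib.Small.ChevDominantCent
import Cfsg.Agent.Lib.Small.SteinbergValues

/-!
Tools for involutions in characteristic two: conjugating into U, coefficients of products of
commuting root elements, and their images under Weyl group representatives.
-/

set_option autoImplicit false

namespace Cfsg.Agent.Small.C2Inv

open Cfsg.Lie Cfsg.Agent.Lie
open scoped MatrixGroups

variable {D : ChevalleyDatum} {F : Type*} [Field F] (hF : Facts D)

/-- Conjugate inside the group. -/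
def CJ (D : ChevalleyDatum) (F : Type*) [Field F] (a b : GL D.Idx F) : Prop :=
  ∃ g ∈ D.group F, g * a * g⁻¹ = b

theorem CJ.refl (a : GL D.Idx F) : CJ D F a a := ⟨1, one_mem _, by simp⟩

theorem CJ.trans {a b c : GL D.Idx F} (h : CJ D F a b) (h' : CJ D F b c) : CJ D F a c := by
  obtain ⟨g, hg, rfl⟩ := h
  obtain ⟨g', hg', rfl⟩ := h'
  exact ⟨g' * g, mul_mem hg' hg, by group⟩

theorem CJ.symm {a b : GL D.Idx F} (h : CJ D F a b) : CJ D F b a := by
  obtain ⟨g, hg, rfl⟩ := h
  exact ⟨g⁻¹, inv_mem hg, by group⟩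

theorem cj_conj {g : GL D.Idx F} (hg : g ∈ D.group F) (a : GL D.Idx F) : CJ D F a (g * a * g⁻¹) :=
  ⟨g, hg, rfl⟩

include hF in
/-- In characteristic two an involution is conjugate to an element of U. -/
theorem exists_cj_U [Fintype F] [CharP F 2] {g : GL D.Idx F} (hg : g ∈ D.group F) (hg2 : g * g = 1) :
    ∃ u ∈ (hF.tsys F).U, CJ D F g u := by
  classical
  haveI : Fact (Nat.Prime 2) := ⟨Nat.prime_two⟩
  have hle : (hF.tsys F).U ≤ D.group F := fun u hu => hF.borel_le_group (by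
    rw [← hF.tsys_B]; exact (hF.tsys F).U_le_B hu)
  set U0 := ((hF.tsys F).U).subgroupOf (D.group F)
  have hU0 : Nat.card ↥U0 = 2 ^ (Nat.card ↥(D.group F)).factorization 2 := by
    rw [Nat.card_congr (Subgroup.subgroupOfEquivOfLe hle).toEquiv]
    exact StValues.card_U_eq hF
  set x : ↥(D.group F) := ⟨g, hg⟩
  have hx : IsPGroup 2 ↥(Subgroup.zpowers x) := by
    intro y
    refine ⟨1, ?_⟩
    obtain ⟨k, hk⟩ := Subgroup.mem_zpowers_iff.1 y.2
    refine Subtype.ext ?_
    show (y : ↥(D.group F)) ^ 2 ^ 1 = 1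
    rw [pow_one, ← hk, ← zpow_natCast, ← _root_.zpow_mul, mul_comm, _root_.zpow_mul]
    have : x ^ ((2 : ℕ) : ℤ) = 1 := by
      rw [zpow_natCast, pow_two]
      exact Subtype.ext hg2
    rw [this, _root_.one_zpow]
  obtain ⟨S, hS⟩ := hx.exists_le_sylow
  obtain ⟨a, ha⟩ := MulAction.exists_smul_eq ↥(D.group F) S (Sylow.ofCard U0 hU0)
  refine ⟨(a : GL D.Idx F) * g * (a : GL D.Idx F)⁻¹, ?_, cj_conj a.2 g⟩
  have h2 := congrArg Sylow.toSubgroup ha
  rw [Sylow.coe_subgroup_smul, Sylow.coe_ofCard] at h2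
  have h3 : a * x * a⁻¹ ∈ U0 := h2 ▸ Subgroup.mem_map.2 ⟨x, hS (Subgroup.mem_zpowers x), rfl⟩
  exact h3

include hF in
/-- A Weyl element fixing a dominant root has a reduced word in the letters orthogonal to it. -/
theorem fix_letters {h : ℕ} (hh : h < D.nroots) (hc : ∀ i, i < D.rank → 0 ≤ D.cartan i h)
    (hp : ∀ r, r < D.nroots / 2 → D.pairing r h ≤ 0)
    (hfix : ∀ i, i < D.rank → D.cartan i h = 0 → D.reflectRoot i h = h) :
    ∀ n (w : hF.weyl), hF.refSys.len w = n → w • (⟨h, hh⟩ : Fin D.nroots) = ⟨h, hh⟩ →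
      ∃ ω : List (Fin D.rank), hF.refSys.pr ω = w ∧ ω.length = n ∧ ∀ i ∈ ω, D.cartan i.val h = 0 := by
  intro n
  induction n using Nat.strong_induction_on with
  | _ n ih =>
    intro w hn hw
    obtain ⟨ω, hω, hlen⟩ := hF.refSys.exists_reduced w
    rcases List.eq_nil_or_concat' ω with rfl | ⟨ω', i, rfl⟩
    · exact ⟨[], hω, hlen.trans hn, by simp⟩
    rw [RefSystem.pr_append, RefSystem.pr_singleton] at hω
    rw [List.length_append, List.length_singleton] at hlen
    have h3 : w * hF.refSys.s i = hF.refSys.pr ω' := by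
      rw [← hω, mul_assoc, hF.refSys.sq, mul_one]
    have hlt : hF.refSys.len (w * hF.refSys.s i) < n := by
      rw [h3]
      have := hF.refSys.len_pr_le ω'
      omega
    have hneg : w • hF.refSys.α i ∉ hF.refSys.P := by
      intro hP
      have h1 := hF.refSys.len_mul_s_of_mem hP
      omega
    have hi0 : D.cartan i.val h = 0 := by
      have h1 := hF.weyl_pairing w (hF.refSys.α i) ⟨h, hh⟩
      rw [hw] at h1
      have h4 := hp _ (show (w • hF.refSys.α i : Fin D.nroots).val < D.nroots / 2 by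
        simpa [Facts.refSys] using hneg)
      rw [h1, show (hF.refSys.α i).val = D.simple i.val from rfl, hF.pairing_simple i.isLt] at h4
      exact le_antisymm h4 (hc _ i.isLt)
    have hs : hF.refSys.s i • (⟨h, hh⟩ : Fin D.nroots) = ⟨h, hh⟩ :=
      Fin.ext ((Facts.wS_smul hF i _).trans (hfix _ i.isLt hi0))
    obtain ⟨ω₀, h6, h6', h7⟩ := ih _ hlt _ rfl (by rw [mul_smul, hs, hw])
    have h8 := hF.refSys.len_mul_s_of_not_mem hneg
    refine ⟨ω₀ ++ [i], ?_, ?_, ?_⟩
    · rw [RefSystem.pr_append, RefSystem.pr_singleton, h6, mul_assoc, hF.refSys.sq, mul_one]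
    · rw [List.length_append, List.length_singleton]
      omega
    · simp only [List.mem_append, List.mem_singleton]
      rintro j (hj | rfl)
      exacts [h7 j hj, hi0]

/-- Sum of the parameters at a root. -/
def coef (ps : List (ℕ × F)) (r : ℕ) : F := ((ps.filter fun p => p.1 == r).map Prod.snd).sum

theorem prod_eq_prodOver {L : List ℕ} (hL : L.Nodup) :
    ∀ {ps : List (ℕ × F)}, (∀ p ∈ ps, p.1 ∈ L) →
      (∀ p ∈ ps, ∀ r, ∀ t : F, r ∈ ps.map Prod.fst → Commute (hF.xg p.1 p.2) (hF.xg r t)) →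
      (ps.map fun p => hF.xg p.1 p.2).prod = (hF.tsys F).prodOver L (coef ps)
  | [], _, _ => by
    rw [List.map_nil, List.prod_nil, eq_comm]
    refine List.prod_eq_one fun g hg => ?_
    obtain ⟨r, -, rfl⟩ := List.mem_map.1 hg
    exact (hF.tsys F).toCommSys.x_zero r
  | p :: ps, hmem, hcomm => by
    have ih := prod_eq_prodOver hL (ps := ps) (fun q hq => hmem q (List.mem_cons_of_mem _ hq))
      fun q hq r t hr => hcomm q (List.mem_cons_of_mem _ hq) r t (List.mem_cons_of_mem _ hr)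
    rw [List.map_cons, List.prod_cons, ih]
    obtain ⟨L1, L2, rfl⟩ := List.mem_iff_append.1 (hmem p (List.mem_cons_self ..))
    have h1 : p.1 ∉ L1 := fun h => (List.nodup_append.1 hL).2.2 _ h _ (List.mem_cons_self ..) rfl
    have h2 : p.1 ∉ L2 := (List.nodup_cons.1 (List.nodup_append.1 hL).2.1).1
    have hne : ∀ r, r ≠ p.1 → coef (p :: ps) r = coef ps r := fun r hr => by
      simp [coef, List.filter_cons, Ne.symm hr]
    have heq : coef (p :: ps) p.1 = p.2 + coef ps p.1 := by simp [coef, List.filter_cons]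
    have hc : Commute (hF.xg p.1 p.2) ((hF.tsys F).prodOver L1 (coef ps)) := by
      refine Commute.list_prod_right _ _ fun g hg => ?_
      obtain ⟨r, hr, rfl⟩ := List.mem_map.1 hg
      show Commute _ (hF.xg r (coef ps r))
      by_cases hin : r ∈ ps.map Prod.fst
      · exact hcomm p (List.mem_cons_self ..) r _ (List.mem_cons_of_mem _ hin)
      · rw [show coef ps r = 0 from ?_, hF.xg_zero]
        · exact Commute.one_right _
        · rw [coef, List.filter_eq_nil_iff.2, List.map_nil, List.sum_nil]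
          intro q hq hqr
          exact hin (List.mem_map.2 ⟨q, hq, by simpa using hqr⟩)
    simp only [CommSys.prodOver, List.map_append, List.map_cons, List.prod_append, List.prod_cons] at hc ⊢
    rw [← mul_assoc, hc.eq, mul_assoc, heq, ← mul_assoc (hF.xg p.1 p.2)]
    congr 1
    · exact congrArg List.prod (List.map_congr_left fun r hr => by rw [hne r fun e => h1 (e ▸ hr)])
    · congr 1
      · show hF.xg p.1 p.2 * hF.xg p.1 (coef ps p.1) = hF.xg p.1 _
        rw [← hF.xg_add]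
      · exact congrArg List.prod (List.map_congr_left fun r hr => by rw [hne r fun e => h2 (e ▸ hr)])

theorem coef_of_nodup {ps : List (ℕ × F)} (hnd : (ps.map Prod.fst).Nodup) {p : ℕ × F} (hp : p ∈ ps) :
    coef ps p.1 = p.2 := by
  induction ps with
  | nil => simp at hp
  | cons q ps ih =>
    rw [List.map_cons, List.nodup_cons] at hnd
    rcases List.mem_cons.1 hp with rfl | hp
    · have : (ps.filter fun r => r.1 == p.1) = [] := List.filter_eq_nil_iff.2 fun r hr he =>
        hnd.1 (List.mem_map.2 ⟨r, hr, by simpa using he⟩)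
      simp [coef, List.filter_cons, this]
    · have hne : q.1 ≠ p.1 := fun e => hnd.1 (List.mem_map.2 ⟨p, hp, e.symm⟩)
      rw [← ih hnd.2 hp]
      simp [coef, List.filter_cons, hne]

theorem map_eq_of_forall₂ {α β γ : Type*} {R : α → β → Prop} {f : α → γ} {g : β → γ}
    (hR : ∀ a b, R a b → g b = f a) {l : List α} {l' : List β} (h : List.Forall₂ R l l') :
    l'.map g = l.map f := by
  induction h with
  | nil => rfl
  | cons hab _ ih => rw [List.map_cons, List.map_cons, hR _ _ hab, ih]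

theorem exists_of_forall₂ {α β : Type*} {R : α → β → Prop} {l : List α} {l' : List β}
    (h : List.Forall₂ R l l') {a : α} (ha : a ∈ l) : ∃ b ∈ l', R a b := by
  induction h with
  | nil => simp at ha
  | cons hab _ ih =>
    rcases List.mem_cons.1 ha with rfl | hin
    · exact ⟨_, List.mem_cons_self .., hab⟩
    · obtain ⟨b, h1, h2⟩ := ih hin
      exact ⟨b, List.mem_cons_of_mem _ h1, h2⟩

/-- The image of a product of commuting root elements under a Weyl representative inside U. -/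
theorem image_coef {L : List ℕ} (hL : ClosedList D L) {ps : List (ℕ × F)}
    (hnd : (ps.map Prod.fst).Nodup) (hpos : ∀ p ∈ ps, D.nroots / 2 ≤ p.1 ∧ p.1 < D.nroots)
    (hcomm : ∀ r ∈ ps.map Prod.fst, ∀ s ∈ ps.map Prod.fst, ∀ t u : F, Commute (hF.xg r t) (hF.xg s u))
    {w : hF.weyl}
    (h : (hF.tsys F).nW w * (ps.map fun p => hF.xg p.1 p.2).prod * ((hF.tsys F).nW w)⁻¹ ∈ (hF.tsys F).US L)
    {p : ℕ × F} (hp : p ∈ ps) (hlt : p.1 < D.nroots) (hp0 : p.2 ≠ 0) :
    (w • (⟨p.1, hlt⟩ : Fin D.nroots) : Fin D.nroots).val ∈ L := by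
  classical
  set T := hF.tsys F with hT
  have hcpair : ∀ q ∈ ps, ∀ r, ∀ t : F, r ∈ ps.map Prod.fst → Commute (hF.xg q.1 q.2) (hF.xg r t) :=
    fun q hq r t hr => hcomm _ (List.mem_map.2 ⟨q, hq, rfl⟩) r hr _ _
  let im : ℕ → ℕ := fun r => if hr : r < D.nroots then (w • (⟨r, hr⟩ : Fin D.nroots) : Fin D.nroots).val else r
  have him : ∀ r (t : F), r < D.nroots → ∃ t', (t ≠ 0 → t' ≠ 0) ∧
      T.nW w * hF.xg r t * (T.nW w)⁻¹ = hF.xg (im r) t' := by
    intro r t hr
    obtain ⟨e, he, heq⟩ := hF.nW_conj (F := F) w ⟨r, hr⟩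
    refine ⟨e * t, fun ht => mul_ne_zero (left_ne_zero_of_mul_eq_one he) ht, ?_⟩
    simp only [im, dif_pos hr]
    exact heq t
  have hsub : ∀ q ∈ ps, q.1 < D.nroots := fun q hq => (hpos q hq).2
  set U1 := ps.filter fun q => decide (D.nroots / 2 ≤ im q.1) with hU1
  set V1 := ps.filter fun q => !decide (D.nroots / 2 ≤ im q.1) with hV1
  have hperm : (U1 ++ V1).Perm ps := List.filter_append_perm _ _
  have hprod : ((U1 ++ V1).map fun q => hF.xg q.1 q.2).prod = (ps.map fun q => hF.xg q.1 q.2).prod := by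
    refine (hperm.map _).prod_eq' (List.pairwise_of_forall_mem_list fun a ha b hb => ?_)
    obtain ⟨q, hq, rfl⟩ := List.mem_map.1 ha
    obtain ⟨q', hq', rfl⟩ := List.mem_map.1 hb
    exact hcpair q (hperm.mem_iff.1 hq) _ _ (List.mem_map.2 ⟨q', hperm.mem_iff.1 hq', rfl⟩)
  have hconjP : ∀ (qs : List (ℕ × F)) (K : Subgroup (GL D.Idx F)), (∀ q ∈ qs, q.1 < D.nroots) →
      (∀ q ∈ qs, ∀ t', hF.xg (im q.1) t' ∈ K) →
      T.nW w * (qs.map fun q => hF.xg q.1 q.2).prod * (T.nW w)⁻¹ ∈ K := by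
    intro qs K hq hK
    induction qs with
    | nil => simp
    | cons a qs ih =>
      rw [List.map_cons, List.prod_cons]
      obtain ⟨t', -, ht'⟩ := him a.1 a.2 (hq a (List.mem_cons_self ..))
      have h2 := ih (fun q hq' => hq q (List.mem_cons_of_mem _ hq'))
        fun q hq' => hK q (List.mem_cons_of_mem _ hq')
      rw [show T.nW w * (hF.xg a.1 a.2 * (qs.map fun q => hF.xg q.1 q.2).prod) * (T.nW w)⁻¹ =
        T.nW w * hF.xg a.1 a.2 * (T.nW w)⁻¹ * (T.nW w * (qs.map fun q => hF.xg q.1 q.2).prod * (T.nW w)⁻¹) by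
          group, ht']
      exact mul_mem (hK a (List.mem_cons_self ..) _) h2
  have hUle : T.US L ≤ T.U := CommSys.US_mono _ fun r hr => Facts.mem_posL.2 (hL.mem_pos r hr)
  rw [← hprod, List.map_append, List.prod_append] at h
  set Pu := (U1.map fun q => hF.xg q.1 q.2).prod with hPu
  set Pv := (V1.map fun q => hF.xg q.1 q.2).prod with hPv
  have hsplit : T.nW w * (Pu * Pv) * (T.nW w)⁻¹ =
      T.nW w * Pu * (T.nW w)⁻¹ * (T.nW w * Pv * (T.nW w)⁻¹) := by group
  have hu1 : T.nW w * Pu * (T.nW w)⁻¹ ∈ T.U := hconjP U1 T.U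
    (fun q hq => hsub q (List.mem_filter.1 hq).1) fun q hq t' => by
      have h1 := (List.mem_filter.1 hq).2
      rw [decide_eq_true_eq] at h1
      refine T.x_mem_U h1 ?_ t'
      simp only [im, dif_pos (hsub q (List.mem_filter.1 hq).1)]
      exact Fin.isLt _
  have hv1 : T.nW w * Pv * (T.nW w)⁻¹ ∈ D.negUnipotent F := hconjP V1 _
    (fun q hq => hsub q (List.mem_filter.1 hq).1) fun q hq t' => by
      have h1 := (List.mem_filter.1 hq).2
      rw [Bool.not_eq_true', decide_eq_false_iff_not, not_le] at h1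
      exact hF.x_mem_negUnipotent h1 t'
  rw [hsplit] at h
  have hone : T.nW w * Pv * (T.nW w)⁻¹ = 1 := by
    refine hF.B_inter_V (T.U_le_B ?_) hv1
    have := mul_mem (inv_mem hu1) (hUle h)
    rwa [inv_mul_cancel_left] at this
  have hPv1 : Pv = 1 := conj_eq_one_iff.1 hone
  have hsubnd : ∀ qs : List (ℕ × F), (qs.map Prod.fst).Sublist (ps.map Prod.fst) → (qs.map Prod.fst).Nodup :=
    fun qs hs => hnd.sublist hs
  have hV0 : ∀ q ∈ V1, q.2 = 0 := by
    intro q hq
    have hposV : ∀ r ∈ V1, r.1 ∈ Facts.posL D := fun r hr => Facts.mem_posL.2 (hpos r (List.mem_filter.1 hr).1)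
    have h3 := prod_eq_prodOver hF hF.closedList_posL.sorted.nodup (ps := V1) hposV fun a ha r t hr => by
      obtain ⟨b, hb, rfl⟩ := List.mem_map.1 hr
      exact hcpair a (List.mem_filter.1 ha).1 _ _ (List.mem_map.2 ⟨b, (List.mem_filter.1 hb).1, rfl⟩)
    rw [show (V1.map fun q => hF.xg q.1 q.2).prod = 1 from hPv1] at h3
    have hz : (1 : GL D.Idx F) = T.prodOver (Facts.posL D) fun _ => 0 := by
      rw [eq_comm]
      refine List.prod_eq_one fun g hg => ?_
      obtain ⟨r, -, rfl⟩ := List.mem_map.1 hg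
      exact T.toCommSys.x_zero r
    rw [hz] at h3
    have h4 := hF.prodOver_inj hF.closedList_posL h3 q.1 (hposV q hq)
    rw [coef_of_nodup (hsubnd V1 (List.filter_sublist.map _)) hq] at h4
    exact h4.symm
  have hpU : p ∈ U1 := by
    rw [hU1, List.mem_filter, decide_eq_true_eq]
    refine ⟨hp, ?_⟩
    by_contra hc
    exact hp0 (hV0 p (List.mem_filter.2 ⟨hp, by simp [hc]⟩))
  rw [hone, mul_one] at h
  obtain ⟨g, hg⟩ := T.exists_prodOver hL h
  have himg : ∀ qs : List (ℕ × F), (∀ q ∈ qs, q.1 < D.nroots) → ∃ qs' : List (ℕ × F),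
      List.Forall₂ (fun q q' => q'.1 = im q.1 ∧ (q.2 ≠ 0 → q'.2 ≠ 0) ∧
        T.nW w * hF.xg q.1 q.2 * (T.nW w)⁻¹ = hF.xg q'.1 q'.2) qs qs' ∧
      T.nW w * (qs.map fun q => hF.xg q.1 q.2).prod * (T.nW w)⁻¹ = (qs'.map fun q => hF.xg q.1 q.2).prod := by
    intro qs hq
    induction qs with
    | nil => exact ⟨[], List.Forall₂.nil, by simp⟩
    | cons a qs ih =>
      obtain ⟨qs', h1, h2⟩ := ih fun q hq' => hq q (List.mem_cons_of_mem _ hq')
      obtain ⟨t', hne, ht'⟩ := him a.1 a.2 (hq a (List.mem_cons_self ..))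
      refine ⟨(im a.1, t') :: qs', List.Forall₂.cons ⟨rfl, hne, ht'⟩ h1, ?_⟩
      rw [List.map_cons, List.prod_cons, List.map_cons, List.prod_cons, ← h2, ← ht']
      group
  obtain ⟨U2, hU2, hprod2⟩ := himg U1 fun q hq => hsub q (List.mem_filter.1 hq).1
  have hfst : U2.map Prod.fst = (U1.map Prod.fst).map im := by
    rw [List.map_map]
    exact map_eq_of_forall₂ (fun q q' hqq => hqq.1) hU2
  have hinjim : ∀ a b : ℕ, a < D.nroots → b < D.nroots → im a = im b → a = b := by
    intro a b ha hb hab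
    simp only [im, dif_pos ha, dif_pos hb] at hab
    exact congrArg Fin.val (MulAction.injective w (Fin.ext hab))
  have hnd2 : (U2.map Prod.fst).Nodup := by
    rw [hfst]
    refine List.Nodup.map_on (fun a ha b hb => ?_) (hsubnd U1 (List.filter_sublist.map _))
    obtain ⟨qa, hqa, rfl⟩ := List.mem_map.1 ha
    obtain ⟨qb, hqb, rfl⟩ := List.mem_map.1 hb
    exact hinjim _ _ (hsub qa (List.mem_filter.1 hqa).1) (hsub qb (List.mem_filter.1 hqb).1)
  obtain ⟨p', hp', hpe⟩ : ∃ p' ∈ U2, p'.1 = im p.1 ∧ p'.2 ≠ 0 := by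
    obtain ⟨p', h1, h2⟩ := exists_of_forall₂ hU2 hpU
    exact ⟨p', h1, h2.1, h2.2.1 hp0⟩
  have hcomm2 : ∀ a ∈ U2, ∀ r, ∀ t : F, r ∈ U2.map Prod.fst → Commute (hF.xg a.1 a.2) (hF.xg r t) := by
    intro a ha r t hr
    have ha' : a.1 ∈ (U1.map Prod.fst).map im := hfst ▸ List.mem_map.2 ⟨a, ha, rfl⟩
    rw [hfst] at hr
    obtain ⟨r0, hr0, rfl⟩ := List.mem_map.1 hr
    obtain ⟨a0, ha0, hae⟩ := List.mem_map.1 ha'
    obtain ⟨qa, hqa, rfl⟩ := List.mem_map.1 ha0
    obtain ⟨qr, hqr, rfl⟩ := List.mem_map.1 hr0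
    have hra := hsub qa (List.mem_filter.1 hqa).1
    have hrr := hsub qr (List.mem_filter.1 hqr).1
    obtain ⟨ea, hea, hea'⟩ := hF.nW_conj (F := F) w ⟨qa.1, hra⟩
    obtain ⟨er, her, her'⟩ := hF.nW_conj (F := F) w ⟨qr.1, hrr⟩
    have e1 : hF.xg a.1 a.2 = MulAut.conj (T.nW w) (hF.xg qa.1 (ea * a.2)) := by
      rw [← hae, MulAut.conj_apply, hea', ← mul_assoc, hea, one_mul]
      simp only [im, dif_pos hra]
    have e2 : hF.xg (im qr.1) t = MulAut.conj (T.nW w) (hF.xg qr.1 (er * t)) := by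
      rw [MulAut.conj_apply, her', ← mul_assoc, her, one_mul]
      simp only [im, dif_pos hrr]
    rw [e1, e2]
    exact (hcomm _ (List.mem_map.2 ⟨qa, (List.mem_filter.1 hqa).1, rfl⟩) _
      (List.mem_map.2 ⟨qr, (List.mem_filter.1 hqr).1, rfl⟩) _ _).map (MulAut.conj (T.nW w)).toMonoidHom
  have hposU2 : ∀ a ∈ U2, a.1 ∈ Facts.posL D := by
    intro a ha
    have ha' : a.1 ∈ (U1.map Prod.fst).map im := hfst ▸ List.mem_map.2 ⟨a, ha, rfl⟩
    obtain ⟨a0, ha0, hae⟩ := List.mem_map.1 ha'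
    obtain ⟨qa, hqa, rfl⟩ := List.mem_map.1 ha0
    have h1 := (List.mem_filter.1 hqa).2
    rw [decide_eq_true_eq] at h1
    rw [← hae]
    refine Facts.mem_posL.2 ⟨h1, ?_⟩
    simp only [im, dif_pos (hsub qa (List.mem_filter.1 hqa).1)]
    exact Fin.isLt _
  have h5 : (U2.map fun q => hF.xg q.1 q.2).prod = T.prodOver (Facts.posL D) (coef U2) :=
    prod_eq_prodOver hF hF.closedList_posL.sorted.nodup hposU2 hcomm2
  have hext : T.prodOver L g = T.prodOver (Facts.posL D) fun r => if r ∈ L then g r else 0 := by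
    have hmapf : (((Facts.posL D).map fun r => T.x r (if r ∈ L then g r else 0))).prod =
        (((Facts.posL D).filter fun r => decide (r ∈ L)).map fun r => T.x r (g r)).prod := by
      generalize Facts.posL D = M
      induction M with
      | nil => simp
      | cons a M ih =>
        by_cases ha : a ∈ L
        · simp [List.filter_cons, ha, ih]
        · simp [List.filter_cons, ha, ih, T.toCommSys.x_zero]
    show (L.map _).prod = _
    rw [CommSys.prodOver, hmapf]
    congr 2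
    refine (List.Perm.eq_of_pairwise (le := (· < ·)) (fun a b _ _ hab hba => absurd hba (lt_asymm hab))
      hL.sorted (hF.closedList_posL.sorted.filter _) ?_)
    refine (List.perm_ext_iff_of_nodup hL.sorted.nodup
      (hF.closedList_posL.sorted.nodup.filter _)).2 fun r => ?_
    rw [List.mem_filter, decide_eq_true_eq]
    exact ⟨fun hr => ⟨Facts.mem_posL.2 (hL.mem_pos r hr), hr⟩, fun hr => hr.2⟩
  rw [hPu, hprod2, h5, hext] at hg
  have h6 := hF.prodOver_inj hF.closedList_posL hg p'.1 (hposU2 p' hp')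
  rw [coef_of_nodup hnd2 hp'] at h6
  by_contra hnot
  have hnot' : p'.1 ∉ L := by
    rw [hpe.1]
    simp only [im, dif_pos hlt]
    exact hnot
  simp only [hnot', if_false] at h6
  exact hpe.2 h6

end Cfsg.Agent.Small.C2Inv
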