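import Cfsg.Agent.Lib.Small.Char2Invol.ClassF4
import Cfsg.Agent.Lib.Small.ChevF4RootCent

/-!
Centralizers of the two mixed involutions of F₄ in characteristic two.
-/

set_option autoImplicit false

namespace Cfsg.Agent.Small.C2Inv.Cert.F4

open Cfsg.Lie Cfsg.Agent.Lie Cfsg.Agent.Small.C2Inv.Cert
open scoped MatrixGroups

variable {F : Type*} [Field F] [CharP F 2] (hF : Facts chevF4)

theorem nr : chevF4.nroots = 48 := by decide +kernel

theorem okW : ChevDomCent.okDom chevF4 [47, 44] [20, 22] = true := by decide +kernel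

theorem long_iff (w : hF.weyl) {r : ℕ} (h : r < chevF4.nroots) :
    (w • (⟨r, h⟩ : Fin chevF4.nroots) : Fin chevF4.nroots).val ∈ longRoots ↔ r ∈ longRoots := by
  have key : ∀ (v : hF.weyl) (x : Fin chevF4.nroots), x.val ∈ longRoots →
      (v • x : Fin chevF4.nroots).val ∈ longRoots := by
    intro v x hx
    obtain ⟨ω, hω⟩ := hF.refSys.exists_word v
    rw [← hω]
    clear hω
    induction ω with
    | nil => rwa [RefSystem.pr_nil, one_smul]
    | cons i ω ih =>
      rw [RefSystem.pr_cons, mul_smul, show hF.refSys.s i = hF.wS i from rfl, Facts.wS_smul]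
      exact longRoots_closed i.val i.isLt _ ih
  refine ⟨fun hw => ?_, key w ⟨r, h⟩⟩
  have := key w⁻¹ _ hw
  rwa [inv_smul_smul] at this

theorem cand_two (a b : ℕ) : ChevDomCent.cand (F := F) (D := chevF4) [a, b] =
    chevF4.posUnipotent F ⊔ chevF4.rootSubgroup F a ⊔ chevF4.rootSubgroup F b := by
  unfold ChevDomCent.cand ChevalleyDatum.rootSubgroup
  rw [sup_assoc, ← Subgroup.closure_union]
  congr 2
  ext g
  simp

include hF in
/-- The product of the highest root and the highest short root. -/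
theorem cent_w (w : GL chevF4.Idx F)
    (hw : (w : Matrix chevF4.Idx chevF4.Idx F) = chevF4.x F 47 1 * chevF4.x F 44 1) :
    chevF4.group F ⊓ Subgroup.centralizer {w} =
      chevF4.posUnipotent F ⊔ chevF4.rootSubgroup F 20 ⊔ chevF4.rootSubgroup F 22 := by
  have hd := ChevDomCent.data_of_ok okW
  have he : w = ChevDomCent.zElt hF (F := F) [47, 44] := by
    refine Units.ext ?_
    rw [hw]
    simp [ChevDomCent.zElt]
  rw [he, ← cand_two]
  refine le_antisymm (ChevDomCent.cent_le_cand hF hd fun v β c hc hβ heq => ?_) (ChevDomCent.cand_le_cent hF hd)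
  have h47 : 47 < chevF4.nroots := (hd.rs 47 (by simp)).2
  have h44 : 44 < chevF4.nroots := (hd.rs 44 (by simp)).2
  have b47 := hβ 47 (by simp) h47
  have b44 := hβ 44 (by simp) h44
  have l1 : β 47 ∈ longRoots := by rw [b47, long_iff hF v h47]; decide +kernel
  have l2 : β 44 ∉ longRoots := by rw [b44, long_iff hF v h44]; decide +kernel
  have hlt1 : β 47 < chevF4.nroots := b47 ▸ Fin.isLt _
  have hlt2 : β 44 < chevF4.nroots := b44 ▸ Fin.isLt _
  simp only [List.map_cons, List.map_nil, List.prod_cons, List.prod_nil, mul_one] at heq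
  have hU : ∀ r, chevF4.nroots / 2 ≤ r → r < chevF4.nroots → ∀ t : F, hF.xg r t ∈ (hF.tsys F).U :=
    fun r h1 h2 t => (hF.tsys F).x_mem_U h1 h2 t
  have hR : hF.xg 47 (c 47) * hF.xg 44 (c 44) ∈ (hF.tsys F).U :=
    mul_mem (hU _ (hd.rs 47 (by simp)).1 h47 _) (hU _ (hd.rs 44 (by simp)).1 h44 _)
  rw [← heq] at hR
  have hneg : ∀ r, r < chevF4.nroots → r < chevF4.nroots / 2 → hF.xg r (1 : F) ∈ (hF.tsys F).U → False :=
    fun r h1 h2 h3 => ChevDomCent.xg_ne_one hF h1 (one_ne_zero (α := F))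
      (hF.B_inter_V ((hF.tsys F).U_le_B h3) (hF.x_mem_negUnipotent h2 1))
  rcases lt_or_ge (β 47) (chevF4.nroots / 2) with n1 | p1 <;>
    rcases lt_or_ge (β 44) (chevF4.nroots / 2) with n2 | p2
  · exfalso
    have h1 : hF.xg (β 47) (1 : F) * hF.xg (β 44) 1 = 1 :=
      hF.B_inter_V ((hF.tsys F).U_le_B hR) (mul_mem (hF.x_mem_negUnipotent n1 1) (hF.x_mem_negUnipotent n2 1))
    have h2 : hF.xg (β 47) (1 : F) = hF.xg (β 44) 1 := by
      rw [eq_comm, ← inv_inj, ← hF.xg_neg (β 47), CharTwo.neg_eq]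
      exact (eq_inv_of_mul_eq_one_left h1).symm
    obtain ⟨e, he1, hw1⟩ := hF.nW_conj (F := F) v ⟨47, h47⟩
    obtain ⟨e', he2, hw2⟩ := hF.nW_conj (F := F) v ⟨44, h44⟩
    rw [← b47] at hw1
    rw [← b44] at hw2
    have h3 : (hF.tsys F).nW v * hF.xg 47 e * ((hF.tsys F).nW v)⁻¹ =
        (hF.tsys F).nW v * hF.xg 44 e' * ((hF.tsys F).nW v)⁻¹ := by rw [hw1, hw2, he1, he2, h2]
    have h4 := mul_left_cancel (mul_right_cancel h3)
    have h5 := (ChevDomCent.root_eq hF h47 (hd.rs 44 (by simp)).1 h44 (left_ne_zero_of_mul_eq_one he1)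
      (left_ne_zero_of_mul_eq_one he2) h4).1
    exact absurd h5 (by norm_num)
  · exfalso
    refine hneg _ hlt1 n1 ?_
    have := mul_mem hR (inv_mem (hU _ p2 hlt2 (1 : F)))
    rwa [mul_inv_cancel_right] at this
  · exfalso
    refine hneg _ hlt2 n2 ?_
    have := mul_mem (inv_mem (hU _ p1 hlt1 (1 : F))) hR
    rwa [inv_mul_cancel_left] at this
  · have hne : β 47 ≠ β 44 := fun e => l2 (e ▸ l1)
    -- coefficients of both sides in the product form
    have hposL : ∀ a, chevF4.nroots / 2 ≤ a → a < chevF4.nroots → a ∈ Facts.posL chevF4 := fun a h1 h2 =>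
      Facts.mem_posL.2 ⟨h1, h2⟩
    have hel : ∀ (a b : ℕ) (x y : F), chevF4.nroots / 2 ≤ a → a < chevF4.nroots → chevF4.nroots / 2 ≤ b →
        b < chevF4.nroots → a ≠ b → (∀ t u : F, Commute (hF.xg a t) (hF.xg b u)) →
        hF.xg a x * hF.xg b y = el hF fun r => if r = a then x else if r = b then y else 0 := by
      intro a b x y ha ha' hb hb' hab hc'
      have h := prod_eq_prodOver hF hF.closedList_posL.sorted.nodup (ps := [(a, x), (b, y)])
        (fun p hp => by
          simp only [List.mem_cons, List.not_mem_nil, or_false] at hp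
          rcases hp with rfl | rfl
          exacts [hposL _ ha ha', hposL _ hb hb'])
        (fun p hp r t hr => by
          simp only [List.mem_cons, List.not_mem_nil, or_false] at hp
          simp only [List.map_cons, List.map_nil, List.mem_cons, List.not_mem_nil, or_false] at hr
          rcases hp with rfl | rfl <;> rcases hr with rfl | rfl
          · show _ = _
            rw [← hF.xg_add, ← hF.xg_add, add_comm]
          · exact hc' _ _
          · exact (hc' _ _).symm
          · show _ = _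
            rw [← hF.xg_add, ← hF.xg_add, add_comm])
      simp only [List.map_cons, List.map_nil, List.prod_cons, List.prod_nil, mul_one] at h
      rw [h]
      refine CommSys.prodOver_congr _ fun r _ => ?_
      by_cases e1 : r = a
      · subst e1; simp [coef, Ne.symm hab]
      · by_cases e2 : r = b
        · subst e2; simp [coef, hab, e1]
        · simp [coef, e1, e2, Ne.symm e1, Ne.symm e2]
    obtain ⟨e, he1, hw1⟩ := hF.nW_conj (F := F) v ⟨47, h47⟩
    obtain ⟨e', he2, hw2⟩ := hF.nW_conj (F := F) v ⟨44, h44⟩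
    rw [← b47] at hw1
    rw [← b44] at hw2
    have c4744 : ∀ t u : F, Commute (hF.xg 47 t) (hF.xg 44 u) := fun t u =>
      ChevDomCent.commute_of_even hF h47 h44 (by norm_num) (by decide +kernel) (by decide +kernel) t u
    have cβ : ∀ t u : F, Commute (hF.xg (β 47) t) (hF.xg (β 44) u) := fun t u => by
      have h1 := hw1 (e * t)
      have h2 := hw2 (e' * u)
      rw [← mul_assoc, he1, one_mul] at h1
      rw [← mul_assoc, he2, one_mul] at h2
      rw [← h1, ← h2]
      exact (c4744 _ _).map (MulAut.conj ((hF.tsys F).nW v)).toMonoidHom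
    rw [hel _ _ _ _ p1 hlt1 p2 hlt2 hne cβ, hel _ _ _ _ (hd.rs 47 (by simp)).1 h47 (hd.rs 44 (by simp)).1 h44
      (by norm_num) c4744] at heq
    have k1 := el_inj hF heq (β 47) p1 hlt1
    have k2 := el_inj hF heq (β 44) p2 hlt2
    beta_reduce at k1 k2
    rw [if_pos rfl] at k1
    rw [if_neg (Ne.symm hne), if_pos rfl] at k2
    have e1 : β 47 = 47 := by
      by_contra h
      rw [if_neg h] at k1
      by_cases h' : β 47 = 44
      · exact absurd (h' ▸ l1) (by decide +kernel)
      · rw [if_neg h'] at k1; exact one_ne_zero k1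
    have e2 : β 44 = 44 := by
      by_contra h
      by_cases h' : β 44 = 47
      · exact l2 (by rw [h']; decide +kernel)
      · rw [if_neg h', if_neg h] at k2; exact one_ne_zero k2
    rw [e1, if_pos rfl] at k1
    rw [e2, if_neg (show (44 : ℕ) ≠ 47 by norm_num), if_pos rfl] at k2
    intro h hh
    simp only [List.mem_cons, List.not_mem_nil, or_false] at hh
    rcases hh with rfl | rfl
    exacts [⟨e1, k1.symm⟩, ⟨e2, k2.symm⟩]

/-- The second mixed involution. -/
noncomputable def vEl : GL chevF4.Idx F := hF.xg 39 1 * hF.xg 45 1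

/-- The roots of the radical part of its centralizer, with the Levi roots. -/
def Ks : List ℕ := [24, 28, 29, 30, 31, 32, 33, 35, 36, 37, 38, 39, 40, 41, 42, 43, 44, 45, 46, 47, 14, 23]

/-- The generated subgroup. -/
noncomputable def KV : Subgroup (GL chevF4.Idx F) :=
  chevF4.rootSubgroup F 33 ⊔ chevF4.rootSubgroup F 14 ⊔ chevF4.rootSubgroup F 24 ⊔ chevF4.rootSubgroup F 23 ⊔
    Subgroup.closure {g : GL chevF4.Idx F | ∃ (r : ℕ) (c : F), chevF4.IsPosRoot r ∧ r ∉ [27, 25, 34, 26] ∧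
      (g : Matrix chevF4.Idx chevF4.Idx F) = chevF4.x F r c}

include hF in
omit [CharP F 2] in
theorem mem_KV {r : ℕ} (hr : r ∈ Ks) (c : F) : hF.xg r c ∈ KV (F := F) := by
  have h : r = 14 ∨ r = 23 ∨ (24 ≤ r ∧ r < 48 ∧ r ∉ [27, 25, 34, 26]) := by
    have key : ∀ x ∈ Ks, x = 14 ∨ x = 23 ∨ (24 ≤ x ∧ x < 48 ∧ x ∉ [27, 25, 34, 26]) := by decide +kernel
    exact key r hr
  rcases h with rfl | rfl | ⟨h1, h2, h3⟩
  · refine Subgroup.mem_sup_left (Subgroup.mem_sup_left (Subgroup.mem_sup_left (Subgroup.mem_sup_right ?_)))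
    exact Subgroup.subset_closure ⟨c, rfl⟩
  · refine Subgroup.mem_sup_left (Subgroup.mem_sup_right ?_)
    exact Subgroup.subset_closure ⟨c, rfl⟩
  · refine Subgroup.mem_sup_right (Subgroup.subset_closure ⟨r, c, ?_, h3, rfl⟩)
    rw [hF.isPosRoot_iff, nr]
    omega

include hF in
theorem KV_le : KV (F := F) ≤ chevF4.group F ⊓ Subgroup.centralizer ({vEl hF} : Set (GL chevF4.Idx F)) := by
  have key : ∀ r ∈ Ks, ∀ c : F, hF.xg r c ∈
      chevF4.group F ⊓ Subgroup.centralizer ({vEl hF} : Set (GL chevF4.Idx F)) := by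
    intro r hr c
    refine ⟨hF.xg_mem_group r c, Subgroup.mem_centralizer_singleton_iff.2 ?_⟩
    have hc : ∀ a ∈ [39, 45], Commute (hF.xg r c) (hF.xg a (1 : F)) := by
      intro a ha
      by_cases e : r = a
      · subst e
        show _ = _
        rw [← hF.xg_add, ← hF.xg_add, add_comm]
      · have hd : ∀ x ∈ Ks, ∀ y ∈ [39, 45], x ≠ y → x < 48 ∧ y < 48 ∧ y ≠ chevF4.neg x ∧
            ∀ k ∈ chevF4.commTerms x y, k.2.1 % 2 = 0 := by decide +kernel
        obtain ⟨h1, h2, h3, h4⟩ := hd r hr a ha e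
        exact ChevDomCent.commute_of_even hF (nr ▸ h1) (nr ▸ h2) (Ne.symm e) h3 h4 c 1
    exact ((hc 39 (by simp)).mul_right (hc 45 (by simp))).eq
  have hroot : ∀ r ∈ Ks, chevF4.rootSubgroup F r ≤
      chevF4.group F ⊓ Subgroup.centralizer ({vEl hF} : Set (GL chevF4.Idx F)) := by
    intro r hr
    refine (Subgroup.closure_le _).2 ?_
    rintro g ⟨t, ht⟩
    rw [hF.eq_xg.1 ht]
    exact key r hr t
  refine sup_le (sup_le (sup_le (sup_le (hroot 33 (by decide +kernel)) (hroot 14 (by decide +kernel)))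
    (hroot 24 (by decide +kernel))) (hroot 23 (by decide +kernel))) ((Subgroup.closure_le _).2 ?_)
  rintro g ⟨r, c, hp, hne, hg⟩
  rw [hF.eq_xg.1 hg]
  rw [hF.isPosRoot_iff, nr] at hp
  have hKs : ∀ x < 48, 24 ≤ x → x ∉ [27, 25, 34, 26] → x ∈ Ks := by decide +kernel
  exact key r (hKs r hp.2 hp.1 hne) c

/-- The mask of the roots met by the conjugates of the involution under U. -/
def L0 : ℕ := addBits 0 [39, 40, 44, 45, 46, 47]

include hF in
theorem closed_L0 : Closed chevF4 L0 :=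
  closed_ext hF tabOk ⟨fun r hr => by simp [has_eq] at hr, fun r s hr => by simp [has_eq] at hr⟩
    (by decide +kernel)

include hF in
/-- Conjugating L0 coefficients by a positive root element. -/
theorem step {p : ℕ} (hp : 24 ≤ p) (hp' : p < 48) (t : F) {c : ℕ → F} (hc : Supp chevF4 L0 c) :
    ∃ c' : ℕ → F, Supp chevF4 L0 c' ∧ hF.xg p t * el hF c * hF.xg p t = el hF c' ∧
      ∀ s, has L0 s = true → c' s = c s + valAt (entries tab p L0) t c s := by
  have hchk : ∀ p < 48, 24 ≤ p → has L0 (chevF4.neg p) = false ∧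
      (entries tab p L0).all (fun e => has L0 e.2.1) = true := by decide +kernel
  obtain ⟨h1, h2⟩ := hchk p hp' hp
  rw [List.all_eq_true] at h2
  obtain ⟨c', hc', he, hv⟩ := conj_step hF tabOk (nr ▸ hp') h1 (closed_L0 hF) (closed_L0 hF) (fun _ h => h) h2 hc t
  refine ⟨c', hc', he, fun s hs => hv s hs (indec_of_indecB hF tabOk (closed_L0 hF) ?_)⟩
  have hind : ∀ s ∈ [39, 40, 44, 45, 46, 47], indecB tab L0 s = true := by decide +kernel
  refine hind s ?_
  rw [L0, has_addBits, Bool.or_eq_true, decide_eq_true_eq] at hs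
  exact hs.resolve_left (by simp [has_eq])

include hF in
/-- A block of root elements acting trivially. -/
theorem block : ∀ (M : List ℕ), (∀ p ∈ M, 24 ≤ p ∧ p < 48 ∧ entries tab p L0 = []) → ∀ (d : ℕ → F) {c : ℕ → F},
    Supp chevF4 L0 c →
    (M.map fun p => hF.xg p (d p)).prod * el hF c * ((M.map fun p => hF.xg p (d p)).prod)⁻¹ = el hF c
  | [], _, d, c, _ => by simp
  | p :: M, h, d, c, hc => by
    obtain ⟨h1, h2, h3⟩ := h p (List.mem_cons_self ..)
    obtain ⟨c', hc', he, hv⟩ := step hF h1 h2 (d p) hc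
    have hcc : el hF c' = el hF c := by
      refine CommSys.prodOver_congr _ fun r hr => ?_
      obtain ⟨r1, r2⟩ := Facts.mem_posL.1 hr
      cases hr0 : has L0 r
      · rw [hc r r1 r2 hr0, hc' r r1 r2 hr0]
      · rw [hv r hr0, h3]
        simp [valAt, at']
    have hinv : (hF.xg p (d p))⁻¹ = hF.xg p (d p) := by rw [← hF.xg_neg, CharTwo.neg_eq]
    rw [List.map_cons, List.prod_cons, _root_.mul_inv_rev, hinv]
    have ih := block M (fun q hq => h q (List.mem_cons_of_mem _ hq)) d hc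
    calc hF.xg p (d p) * (M.map fun p => hF.xg p (d p)).prod * el hF c *
          (((M.map fun p => hF.xg p (d p)).prod)⁻¹ * hF.xg p (d p))
        = hF.xg p (d p) * ((M.map fun p => hF.xg p (d p)).prod * el hF c *
            ((M.map fun p => hF.xg p (d p)).prod)⁻¹) * hF.xg p (d p) := by group
      _ = _ := by rw [ih, he, hcc]

include hF in
/-- The conjugate of x₃₉(τ) x₄₅(τ') by an element of U. -/
theorem conj_formula (d : ℕ → F) {c : ℕ → F} (hc : Supp chevF4 L0 c)
    (h40 : c 40 = 0) (h44 : c 44 = 0) (h46 : c 46 = 0) (h47 : c 47 = 0) :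
    ∃ c' : ℕ → F, Supp chevF4 L0 c' ∧ el hF d * el hF c * (el hF d)⁻¹ = el hF c' ∧
      c' 39 = c 39 ∧ c' 45 = c 45 ∧ c' 40 = d 27 * c 39 ∧ c' 44 = d 34 * c 39 ∧ c' 46 = d 25 * c 45 ∧
      c' 47 = d 26 * c 45 + d 24 * (d 25 * c 45) := by
  have hL : ∀ s ∈ [39, 40, 44, 45, 46, 47], has L0 s = true := by decide +kernel
  have hb1 : ∀ p ∈ [35, 36, 37, 38, 39, 40, 41, 42, 43, 44, 45, 46, 47],
      24 ≤ p ∧ p < 48 ∧ entries tab p L0 = [] := by decide +kernel
  have hb2 : ∀ p ∈ [28, 29, 30, 31, 32], 24 ≤ p ∧ p < 48 ∧ entries tab p L0 = [] := by decide +kernel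
  have hE : entries tab 24 L0 = [(46, 47, 1, 1)] ∧ entries tab 25 L0 = [(45, 46, 1, 1)] ∧
      entries tab 26 L0 = [(45, 47, 1, 1)] ∧ entries tab 27 L0 = [(39, 40, 1, 1)] ∧
      entries tab 33 L0 = [(40, 44, 1, 1)] ∧ entries tab 34 L0 = [(39, 44, 1, 1)] := by decide +kernel
  obtain ⟨E24, E25, E26, E27, E33, E34⟩ := hE
  obtain ⟨a, ha, hae, hav⟩ := step hF (p := 34) (by norm_num) (by norm_num) (d 34) hc
  obtain ⟨b, hb, hbe, hbv⟩ := step hF (p := 33) (by norm_num) (by norm_num) (d 33) ha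
  obtain ⟨e, he, hee, hev⟩ := step hF (p := 27) (by norm_num) (by norm_num) (d 27) hb
  obtain ⟨f, hf, hfe, hfv⟩ := step hF (p := 26) (by norm_num) (by norm_num) (d 26) he
  obtain ⟨g, hg, hge, hgv⟩ := step hF (p := 25) (by norm_num) (by norm_num) (d 25) hf
  obtain ⟨k, hk, hke, hkv⟩ := step hF (p := 24) (by norm_num) (by norm_num) (d 24) hg
  refine ⟨k, hk, ?_, ?_⟩
  · have hsplit : el hF d = hF.xg 24 (d 24) * (hF.xg 25 (d 25) * (hF.xg 26 (d 26) * (hF.xg 27 (d 27) *
        ((([28, 29, 30, 31, 32] : List ℕ).map fun p => hF.xg p (d p)).prod * (hF.xg 33 (d 33) *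
          (hF.xg 34 (d 34) *
            (([35, 36, 37, 38, 39, 40, 41, 42, 43, 44, 45, 46, 47] : List ℕ).map fun p => hF.xg p (d p)).prod)))))) := by
      rw [el, CommSys.prodOver, show Facts.posL chevF4 = [24, 25, 26, 27] ++ [28, 29, 30, 31, 32] ++ [33, 34] ++
        [35, 36, 37, 38, 39, 40, 41, 42, 43, 44, 45, 46, 47] from by decide +kernel]
      simp only [List.map_append, List.prod_append, List.map_cons, List.map_nil, List.prod_cons, List.prod_nil,
        mul_one, mul_assoc, Facts.sys_x]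
    rw [hsplit]
    have hinv : ∀ (p : ℕ) (t : F), (hF.xg p t)⁻¹ = hF.xg p t := fun p t => by
      rw [← hF.xg_neg, CharTwo.neg_eq]
    have k1 := block hF _ hb1 d hc
    have k2 := block hF _ hb2 d hb
    generalize (([35, 36, 37, 38, 39, 40, 41, 42, 43, 44, 45, 46, 47] : List ℕ).map
      fun p => hF.xg p (d p)).prod = B1 at k1 ⊢
    generalize (([28, 29, 30, 31, 32] : List ℕ).map fun p => hF.xg p (d p)).prod = B2 at k2 ⊢
    rw [← hke, ← hge, ← hfe, ← hee, ← k2, ← hbe, ← hae]
    conv_rhs => rw [← k1]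
    simp only [_root_.mul_inv_rev, hinv, mul_assoc]
  · simp [hkv _ (hL 39 (by simp)), hkv _ (hL 40 (by simp)), hkv _ (hL 44 (by simp)), hkv _ (hL 45 (by simp)),
      hkv _ (hL 46 (by simp)), hkv _ (hL 47 (by simp)), hgv _ (hL 39 (by simp)), hgv _ (hL 40 (by simp)),
      hgv _ (hL 44 (by simp)), hgv _ (hL 45 (by simp)), hgv _ (hL 46 (by simp)), hgv _ (hL 47 (by simp)),
      hfv _ (hL 39 (by simp)), hfv _ (hL 40 (by simp)), hfv _ (hL 44 (by simp)), hfv _ (hL 45 (by simp)),
      hfv _ (hL 46 (by simp)), hfv _ (hL 47 (by simp)), hev _ (hL 39 (by simp)), hev _ (hL 40 (by simp)),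
      hev _ (hL 44 (by simp)), hev _ (hL 45 (by simp)), hev _ (hL 46 (by simp)), hev _ (hL 47 (by simp)),
      hbv _ (hL 39 (by simp)), hbv _ (hL 40 (by simp)), hbv _ (hL 44 (by simp)), hbv _ (hL 45 (by simp)),
      hbv _ (hL 46 (by simp)), hbv _ (hL 47 (by simp)), hav _ (hL 39 (by simp)), hav _ (hL 40 (by simp)),
      hav _ (hL 44 (by simp)), hav _ (hL 45 (by simp)), hav _ (hL 46 (by simp)), hav _ (hL 47 (by simp)),
      E24, E25, E26, E27, E33, E34, valAt, at', List.filter_cons, List.filter_nil, beq_nat,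
      h40, h44, h46, h47]

omit [CharP F 2] in
include hF in
/-- A Weyl element fixing both roots has a word in the first and last letters. -/
theorem fix_pair : ∀ n (w : hF.weyl), hF.refSys.len w = n →
    (∀ h : 39 < chevF4.nroots, w • (⟨39, h⟩ : Fin chevF4.nroots) = ⟨39, h⟩) →
    (∀ h : 45 < chevF4.nroots, w • (⟨45, h⟩ : Fin chevF4.nroots) = ⟨45, h⟩) →
    ∃ ω : List (Fin chevF4.rank), hF.refSys.pr ω = w ∧ ∀ i ∈ ω, i.val = 0 ∨ i.val = 3 := by
  intro n
  induction n using Nat.strong_induction_on with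
  | _ n ih =>
    intro w hn h1 h2
    have h39 : 39 < chevF4.nroots := by rw [nr]; norm_num
    have h45 : 45 < chevF4.nroots := by rw [nr]; norm_num
    obtain ⟨ω, hω, hlen⟩ := hF.refSys.exists_reduced w
    rcases List.eq_nil_or_concat' ω with rfl | ⟨ω', i, rfl⟩
    · exact ⟨[], hω, by simp⟩
    rw [RefSystem.pr_append, RefSystem.pr_singleton] at hω
    rw [List.length_append, List.length_singleton] at hlen
    have h3 : w * hF.refSys.s i = hF.refSys.pr ω' := by rw [← hω, mul_assoc, hF.refSys.sq, mul_one]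
    have hlt : hF.refSys.len (w * hF.refSys.s i) < n := by
      rw [h3]
      have := hF.refSys.len_pr_le ω'
      omega
    have hneg : w • hF.refSys.α i ∉ hF.refSys.P := by
      intro hP
      have := hF.refSys.len_mul_s_of_mem hP
      omega
    have hr : (w • hF.refSys.α i : Fin chevF4.nroots).val < chevF4.nroots / 2 := by
      simpa [Facts.refSys] using hneg
    have hp : ∀ r < 48, r < chevF4.nroots / 2 → 3 * chevF4.pairing r 39 + 2 * chevF4.pairing r 45 ≤ 0 := by
      decide +kernel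
    have h4 := hp _ (nr ▸ Fin.isLt _) hr
    have e1 := hF.weyl_pairing w (hF.refSys.α i) ⟨39, h39⟩
    have e2 := hF.weyl_pairing w (hF.refSys.α i) ⟨45, h45⟩
    rw [h1 h39] at e1
    rw [h2 h45] at e2
    simp only at e1 e2
    rw [e1, e2, show (hF.refSys.α i).val = chevF4.simple i.val from rfl, hF.pairing_simple i.isLt,
      hF.pairing_simple i.isLt] at h4
    have hd : ∀ j < chevF4.rank, 3 * chevF4.cartan j 39 + 2 * chevF4.cartan j 45 ≤ 0 →
        (j = 0 ∨ j = 3) ∧ chevF4.reflectRoot j 39 = 39 ∧ chevF4.reflectRoot j 45 = 45 := by decide +kernel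
    obtain ⟨hi, r1, r2⟩ := hd i.val i.isLt h4
    obtain ⟨ω₀, h6, h7⟩ := ih _ hlt _ rfl
      (fun h => by
        rw [mul_smul, show hF.refSys.s i • (⟨39, h⟩ : Fin chevF4.nroots) = ⟨39, h⟩ from
          Fin.ext ((Facts.wS_smul hF i _).trans r1), h1 h])
      (fun h => by
        rw [mul_smul, show hF.refSys.s i • (⟨45, h⟩ : Fin chevF4.nroots) = ⟨45, h⟩ from
          Fin.ext ((Facts.wS_smul hF i _).trans r2), h2 h])
    refine ⟨ω₀ ++ [i], ?_, ?_⟩
    · rw [RefSystem.pr_append, RefSystem.pr_singleton, h6, mul_assoc, hF.refSys.sq, mul_one]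
    · simp only [List.mem_append, List.mem_singleton]
      rintro j (hj | rfl)
      exacts [h7 j hj, hi]

include hF in
/-- x₃₉(τ) x₄₅(τ') as coefficients. -/
theorem el_pair (a b : F) : ∃ c : ℕ → F, Supp chevF4 L0 c ∧ el hF c = hF.xg 39 a * hF.xg 45 b ∧
    c 39 = a ∧ c 45 = b ∧ c 40 = 0 ∧ c 44 = 0 ∧ c 46 = 0 ∧ c 47 = 0 := by
  refine ⟨coef [(39, a), (45, b)], ?_, ?_, by simp [coef], by simp [coef], by simp [coef], by simp [coef],
    by simp [coef], by simp [coef]⟩
  · intro r _ _ hr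
    have h39 : r ≠ 39 := fun e => by
      rw [e] at hr
      exact absurd hr (by rw [show has L0 39 = true from by decide +kernel]; simp)
    have h45 : r ≠ 45 := fun e => by
      rw [e] at hr
      exact absurd hr (by rw [show has L0 45 = true from by decide +kernel]; simp)
    simp [coef, Ne.symm h39, Ne.symm h45]
  · have h := prod_eq_prodOver hF hF.closedList_posL.sorted.nodup (ps := [(39, a), (45, b)])
      (fun p hp => by
        simp only [List.mem_cons, List.not_mem_nil, or_false] at hp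
        rcases hp with rfl | rfl <;> exact Facts.mem_posL.2 (by rw [nr]; norm_num))
      (fun p hp r t hr => by
        have hk : ∀ (t u : F), Commute (hF.xg 39 t) (hF.xg 45 u) := fun t u =>
          ChevDomCent.commute_of_even hF (by rw [nr]; norm_num) (by rw [nr]; norm_num) (by norm_num)
            (by decide +kernel) (by decide +kernel) t u
        simp only [List.mem_cons, List.not_mem_nil, or_false] at hp
        simp only [List.map_cons, List.map_nil, List.mem_cons, List.not_mem_nil, or_false] at hr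
        rcases hp with rfl | rfl <;> rcases hr with rfl | rfl
        · show _ = _
          rw [← hF.xg_add, ← hF.xg_add, add_comm]
        · exact hk _ _
        · exact (hk _ _).symm
        · show _ = _
          rw [← hF.xg_add, ← hF.xg_add, add_comm])
    simp only [List.map_cons, List.map_nil, List.prod_cons, List.prod_nil, mul_one] at h
    exact h.symm

include hF in
/-- The centralizer of the second mixed involution. -/
theorem cent_v : chevF4.group F ⊓ Subgroup.centralizer ({vEl hF} : Set (GL chevF4.Idx F)) = KV (F := F) := by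
  refine le_antisymm (fun g hg => ?_) (KV_le hF)
  obtain ⟨hgG, hgC⟩ := hg
  obtain ⟨b, hb, w, u, hu, rfl⟩ := hF.mem_bnu hgG
  obtain ⟨v, hv, a, ha, rfl⟩ := (hF.tsys F).mem_B.1 hb
  have huU : u ∈ (hF.tsys F).U :=
    CommSys.US_mono _ (fun r hr => Facts.mem_posL.2 ((TorusSys.closed_invList w).mem_pos r hr)) hu
  have hcm := Subgroup.mem_centralizer_singleton_iff.1 hgC
  have helU : ∀ y ∈ (hF.tsys F).U, ∃ d : ℕ → F, y = el hF d := fun y hy => by
    obtain ⟨d, hd⟩ := (hF.sys F).exists_prodOver hF.closedList_posL (g := y) (by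
      rw [← hF.posUnipotent_eq F, ← hF.tsys_U]; exact hy)
    exact ⟨d, hd⟩
  obtain ⟨cv, hcv, hcve, cv39, cv45, cv40, cv44, cv46, cv47⟩ := el_pair hF (1 : F) 1
  have hcl : ClosedList chevF4 [39, 40, 44, 45, 46, 47] := by
    refine ⟨by simp, fun r hr => ?_, fun r hr s hs hne k hk => ?_⟩
    · have key : ∀ x ∈ [39, 40, 44, 45, 46, 47], 24 ≤ x ∧ x < 48 := by decide +kernel
      rw [nr]
      exact key r hr
    · have key : ∀ x ∈ [39, 40, 44, 45, 46, 47], ∀ y ∈ [39, 40, 44, 45, 46, 47], x ≠ y →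
          ∀ k ∈ chevF4.commTerms x y, k.1 ∈ [39, 40, 44, 45, 46, 47] := by decide +kernel
      exact key r hr s hs hne k hk
  have hlst : lst chevF4 L0 = [39, 40, 44, 45, 46, 47] := by decide +kernel
  have hL0mem : ∀ {c : ℕ → F}, Supp chevF4 L0 c → el hF c ∈ (hF.sys F).US [39, 40, 44, 45, 46, 47] := by
    intro c hc
    have := el_mem hF hc
    rwa [UL, hlst] at this
  -- the Weyl part
  obtain ⟨du, hdu⟩ := helU u huU
  obtain ⟨dv, hdv⟩ := helU v⁻¹ (inv_mem hv)
  obtain ⟨c1, hc1, he1, a39, a45, -⟩ := conj_formula hF du hcv cv40 cv44 cv46 cv47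
  obtain ⟨c2, hc2, he2, -⟩ := conj_formula hF dv hcv cv40 cv44 cv46 cv47
  rw [cv39] at a39
  rw [cv45] at a45
  rw [← hdu, hcve] at he1
  rw [← hdv, hcve, inv_inv] at he2
  have h1 : (hF.tsys F).nW w * el hF c1 * ((hF.tsys F).nW w)⁻¹ = a⁻¹ * el hF c2 * a := by
    rw [← he1, ← he2]
    calc (hF.tsys F).nW w * (u * (hF.xg 39 1 * hF.xg 45 1) * u⁻¹) * ((hF.tsys F).nW w)⁻¹
        = a⁻¹ * v⁻¹ * (v * a * (hF.tsys F).nW w * u * vEl hF) * u⁻¹ * ((hF.tsys F).nW w)⁻¹ := by
          rw [vEl]; group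
      _ = a⁻¹ * v⁻¹ * (vEl hF * (v * a * (hF.tsys F).nW w * u)) * u⁻¹ * ((hF.tsys F).nW w)⁻¹ := by rw [hcm]
      _ = _ := by rw [vEl]; group
  have hmem : (hF.tsys F).nW w * el hF c1 * ((hF.tsys F).nW w)⁻¹ ∈ (hF.tsys F).US [39, 40, 44, 45, 46, 47] := by
    rw [h1]
    have := (hF.tsys F).H_conj_US (inv_mem ha) (fun r hr => (hcl.mem_pos r hr).2) (hL0mem hc2)
    rwa [inv_inv] at this
  have himg : ∀ r ∈ [39, 40, 44, 45, 46, 47], c1 r ≠ 0 → ∀ h : r < chevF4.nroots,
      (w • (⟨r, h⟩ : Fin chevF4.nroots) : Fin chevF4.nroots).val ∈ [39, 40, 44, 45, 46, 47] := by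
    intro r hr hne h
    have hpr : (([39, 40, 44, 45, 46, 47] : List ℕ).map fun x => (x, c1 x)).map (fun q => hF.xg q.1 q.2) =
        ([39, 40, 44, 45, 46, 47] : List ℕ).map fun x => hF.xg x (c1 x) := by simp
    have hprod : el hF c1 = (([39, 40, 44, 45, 46, 47] : List ℕ).map fun x => hF.xg x (c1 x)).prod := by
      rw [← hlst]
      show el hF c1 = (hF.sys F).prodOver (lst chevF4 L0) c1
      rw [prodOver_lst]
      refine CommSys.prodOver_congr _ fun x hx => ?_
      cases hx0 : has L0 x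
      · simp [hc1 x (Facts.mem_posL.1 hx).1 (Facts.mem_posL.1 hx).2 hx0]
      · simp
    refine image_coef hF hcl (ps := ([39, 40, 44, 45, 46, 47] : List ℕ).map fun x => (x, c1 x))
      (by simp) (fun q hq => ?_) (fun x hx y hy t t' => ?_) ?_ (p := (r, c1 r))
      (List.mem_map.2 ⟨r, hr, rfl⟩) h hne
    · obtain ⟨x, hx, rfl⟩ := List.mem_map.1 hq
      exact hcl.mem_pos x hx
    · simp only [List.map_cons, List.map_nil] at hx hy
      by_cases exy : x = y
      · subst exy
        show _ = _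
        rw [← hF.xg_add, ← hF.xg_add, add_comm]
      · have key : ∀ a ∈ [39, 40, 44, 45, 46, 47], ∀ b ∈ [39, 40, 44, 45, 46, 47], a ≠ b → a < 48 ∧ b < 48 ∧
            b ≠ chevF4.neg a ∧ ∀ k ∈ chevF4.commTerms a b, k.2.1 % 2 = 0 := by decide +kernel
        obtain ⟨k1, k2, k3, k4⟩ := key x hx y hy exy
        exact ChevDomCent.commute_of_even hF (nr ▸ k1) (nr ▸ k2) (Ne.symm exy) k3 k4 t t'
    · rw [hpr, ← hprod]
      exact hmem
  have h39 : 39 < chevF4.nroots := by rw [nr]; norm_num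
  have h45 : 45 < chevF4.nroots := by rw [nr]; norm_num
  have i39 := himg 39 (by simp) (by rw [a39]; exact one_ne_zero) h39
  have i45 := himg 45 (by simp) (by rw [a45]; exact one_ne_zero) h45
  have hpair := hF.weyl_pairing w ⟨39, h39⟩ ⟨45, h45⟩
  simp only at hpair
  rw [show chevF4.pairing 39 45 = 0 from by decide +kernel] at hpair
  have l39 : (w • (⟨39, h39⟩ : Fin chevF4.nroots) : Fin chevF4.nroots).val ∉ longRoots := by
    rw [long_iff hF w h39]; decide +kernel
  have hfix : ∀ x ∈ [39, 40, 44, 45, 46, 47], ∀ y ∈ [39, 40, 44, 45, 46, 47],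
      chevF4.pairing x y = 0 → x ∉ longRoots → x = 39 ∧ y = 45 := by decide +kernel
  obtain ⟨f39, f45⟩ := hfix _ i39 _ i45 hpair l39
  obtain ⟨ω, hω, hlet⟩ := fix_pair hF _ w rfl (fun _ => Fin.ext f39) (fun _ => Fin.ext f45)
  have hn : ∀ i : Fin chevF4.rank, (i.val = 0 ∨ i.val = 3) → ∀ t : F,
      hF.ng (chevF4.simple i.val) t ∈ KV (F := F) := by
    intro i hi t
    have hd : ∀ j < chevF4.rank, (j = 0 ∨ j = 3) → chevF4.simple j ∈ Ks ∧ chevF4.neg (chevF4.simple j) ∈ Ks := by
      decide +kernel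
    obtain ⟨d1, d2⟩ := hd i.val i.isLt hi
    rw [hF.ng_eq]
    exact mul_mem (mul_mem (mem_KV hF d1 _) (mem_KV hF d2 _)) (mem_KV hF d1 _)
  have hnw : (hF.tsys F).nw ω ∈ KV (F := F) := by
    refine Subgroup.list_prod_mem _ fun y hy => ?_
    obtain ⟨i, hi, rfl⟩ := List.mem_map.1 hy
    rw [hF.tsys_nS]
    exact hn i (hlet i hi) 1
  have huK : u ∈ KV (F := F) := by
    refine CommSys.US_le _ (H := KV (F := F)) (fun r hr t => mem_KV hF ?_ t) hu
    obtain ⟨hr', hri⟩ := TorusSys.mem_invList.1 hr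
    rw [RefSystem.mem_inv, ← hω] at hri
    have hr24 : chevF4.nroots / 2 ≤ r := by simpa [Facts.refSys] using hri.1
    have hneg : ¬ chevF4.nroots / 2 ≤ (hF.refSys.pr ω • (⟨r, hr'⟩ : Fin chevF4.nroots) : Fin chevF4.nroots).val := by
      simpa [Facts.refSys] using hri.2
    by_contra hK
    refine hneg ?_
    suffices hsuff : ∀ ω : List (Fin chevF4.rank), (∀ i ∈ ω, i.val = 0 ∨ i.val = 3) →
        (hF.refSys.pr ω • (⟨r, hr'⟩ : Fin chevF4.nroots) : Fin chevF4.nroots).val ∈
          [25, 26, 27, 28, 29, 30, 31, 32, 34, 35, 36, 37, 38, 39, 40, 41, 42, 43, 44, 45, 46, 47] by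
      have key : ∀ x ∈ [25, 26, 27, 28, 29, 30, 31, 32, 34, 35, 36, 37, 38, 39, 40, 41, 42, 43, 44, 45, 46, 47],
          chevF4.nroots / 2 ≤ x := by decide +kernel
      exact key _ (hsuff ω hlet)
    intro ω hlet
    induction ω with
    | nil =>
      rw [RefSystem.pr_nil, one_smul]
      have key : ∀ x < 48, chevF4.nroots / 2 ≤ x → x ∉ Ks →
          x ∈ [25, 26, 27, 28, 29, 30, 31, 32, 34, 35, 36, 37, 38, 39, 40, 41, 42, 43, 44, 45, 46, 47] := by
        decide +kernel
      exact key r (nr ▸ hr') hr24 hK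
    | cons i ω ih =>
      rw [RefSystem.pr_cons, mul_smul, show hF.refSys.s i = hF.wS i from rfl, Facts.wS_smul]
      have key : ∀ j < chevF4.rank, (j = 0 ∨ j = 3) →
          ∀ x ∈ [25, 26, 27, 28, 29, 30, 31, 32, 34, 35, 36, 37, 38, 39, 40, 41, 42, 43, 44, 45, 46, 47],
          chevF4.reflectRoot j x ∈
            [25, 26, 27, 28, 29, 30, 31, 32, 34, 35, 36, 37, 38, 39, 40, 41, 42, 43, 44, 45, 46, 47] := by
        decide +kernel
      exact key i.val i.isLt (hlet i (List.mem_cons_self ..)) _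
        (ih fun j hj => hlet j (List.mem_cons_of_mem _ hj))
  obtain ⟨c, hc, hceq⟩ := (hF.tsys F).nw_eq (ω := ω) (w := w) hω
  have hsplit : v * a * (hF.tsys F).nW w * u = v * (a * c⁻¹) * (hF.tsys F).nw ω * u := by
    rw [hceq]; group
  rw [hsplit] at hcm ⊢
  refine mul_mem (mul_mem ?_ hnw) huK
  have hva : v * (a * c⁻¹) * vEl hF = vEl hF * (v * (a * c⁻¹)) := by
    have h1 := Subgroup.mem_centralizer_singleton_iff.1 (KV_le hF (mul_mem hnw huK)).2
    refine mul_right_cancel (b := (hF.tsys F).nw ω * u) ?_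
    calc v * (a * c⁻¹) * vEl hF * ((hF.tsys F).nw ω * u)
        = v * (a * c⁻¹) * ((hF.tsys F).nw ω * u * vEl hF) := by rw [h1]; group
      _ = v * (a * c⁻¹) * (hF.tsys F).nw ω * u * vEl hF := by group
      _ = vEl hF * (v * (a * c⁻¹) * (hF.tsys F).nw ω * u) := hcm
      _ = _ := by group
  have hH := mul_mem ha (inv_mem hc)
  rw [hF.tsys_H, hF.diagonalSubgroup_eq F] at hH
  obtain ⟨k, hk⟩ := hH
  rw [← hk] at hva ⊢
  obtain ⟨d, rfl⟩ := helU v hv
  obtain ⟨ct, hct, hcte, t39, t45, t40, t44, t46, t47⟩ :=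
    el_pair hF ((torChar chevF4 k 39 : Fˣ) : F) ((torChar chevF4 k 45 : Fˣ) : F)
  obtain ⟨c', hc', he', q39, q45, q40, q44, q46, q47⟩ := conj_formula hF d hct t40 t44 t46 t47
  have htv : torus chevF4 F k * vEl hF * (torus chevF4 F k)⁻¹ = el hF ct := by
    rw [hcte, vEl]
    have h1 := hF.torus_conj k h39 (1 : F)
    have h2 := hF.torus_conj k h45 (1 : F)
    rw [mul_one] at h1 h2
    rw [← h1, ← h2]
    group
  have hfin : el hF c' = el hF cv := by
    rw [← he', ← htv, hcve]
    calc el hF d * (torus chevF4 F k * vEl hF * (torus chevF4 F k)⁻¹) * (el hF d)⁻¹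
        = el hF d * torus chevF4 F k * vEl hF * (el hF d * torus chevF4 F k)⁻¹ := by group
      _ = vEl hF := by rw [hva, mul_inv_cancel_right]
  have hv' : ∀ s ∈ [39, 40, 44, 45, 46, 47], c' s = cv s := fun s hs =>
    el_inj hF hfin s (by rw [nr]; exact (show ∀ x ∈ [39, 40, 44, 45, 46, 47], 24 ≤ x by decide +kernel) s hs)
      (hcl.mem_pos s hs).2
  rw [hv' 39 (by simp), cv39, t39] at q39
  rw [hv' 45 (by simp), cv45, t45] at q45
  rw [hv' 40 (by simp), cv40, t39, ← q39, mul_one] at q40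
  rw [hv' 44 (by simp), cv44, t39, ← q39, mul_one] at q44
  rw [hv' 46 (by simp), cv46, t45, ← q45, mul_one] at q46
  rw [hv' 47 (by simp), cv47, t45, ← q45, ← q46, zero_mul, mul_zero, add_zero, mul_one] at q47
  refine mul_mem ?_ ?_
  · refine Subgroup.list_prod_mem _ fun y hy => ?_
    obtain ⟨r, hr, rfl⟩ := List.mem_map.1 hy
    obtain ⟨r1, r2⟩ := Facts.mem_posL.1 hr
    by_cases hK : r ∈ Ks
    · exact mem_KV hF hK _
    · have key : ∀ x < 48, chevF4.nroots / 2 ≤ x → x ∉ Ks → x = 25 ∨ x = 26 ∨ x = 27 ∨ x = 34 := by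
        decide +kernel
      have h0 : d r = 0 := by
        rcases key r (nr ▸ r2) r1 hK with rfl | rfl | rfl | rfl
        exacts [q46.symm, q47.symm, q40.symm, q44.symm]
      rw [Facts.sys_x, h0, hF.xg_zero]
      exact one_mem _
  · have hk12 : ∀ i : Fin chevF4.rank, (i.val = 1 ∨ i.val = 2) → k i = 1 := by
      have hc39 : (chevF4.cartan 0 39 = 0 ∧ chevF4.cartan 1 39 = -1) ∧ (chevF4.cartan 2 39 = 1 ∧
          chevF4.cartan 3 39 = 0) := by decide +kernel
      have hc45 : (chevF4.cartan 0 45 = 0 ∧ chevF4.cartan 1 45 = 2) ∧ (chevF4.cartan 2 45 = -1 ∧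
          chevF4.cartan 3 45 = 0) := by decide +kernel
      obtain ⟨⟨e0, e1⟩, e2, e3⟩ := hc39
      obtain ⟨⟨g0, g1⟩, g2, g3⟩ := hc45
      have p39 : torChar chevF4 k 39 = 1 := Units.ext q39.symm
      have p45 : torChar chevF4 k 45 = 1 := Units.ext q45.symm
      have hu : (Finset.univ : Finset (Fin chevF4.rank)) =
          {⟨0, by decide⟩, ⟨1, by decide⟩, ⟨2, by decide⟩, ⟨3, by decide⟩} := by decide +kernel
      rw [torChar, hu, Finset.prod_insert (by decide +kernel), Finset.prod_insert (by decide +kernel),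
        Finset.prod_insert (by decide +kernel), Finset.prod_singleton] at p39 p45
      simp only [e0, e1, e2, e3, g0, g1, g2, g3, zpow_zero, zpow_one, zpow_neg, zpow_ofNat, pow_zero, pow_one,
        mul_one, one_mul] at p39 p45
      have k21 : k ⟨2, by decide⟩ = k ⟨1, by decide⟩ := (inv_mul_eq_one.1 p39).symm
      rw [k21, pow_two, mul_inv_cancel_right] at p45
      intro i hi
      rcases hi with hi | hi
      · rw [show i = ⟨1, by decide⟩ from Fin.ext hi, p45]
      · rw [show i = ⟨2, by decide⟩ from Fin.ext hi, k21, p45]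
    refine Subgroup.pi_mem_of_mulSingle_mem (H := (KV (F := F)).comap (torus chevF4 F)) k fun i => ?_
    rw [Subgroup.mem_comap]
    have hi : i.val < 4 := i.isLt
    by_cases h12 : i.val = 1 ∨ i.val = 2
    · rw [hk12 i h12, Pi.mulSingle_one, map_one]
      exact one_mem _
    · rw [hF.torus_single, hF.hg_eq]
      have h03 : i.val = 0 ∨ i.val = 3 := by omega
      exact mul_mem (hn i h03 _) (hn i h03 _)

end Cfsg.Agent.Small.C2Inv.Cert.F4
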