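import Cfsg.Agent.Lib.Small.Char2Invol.Step

/-!
A checker for certificates that every involution of U is conjugate to a product over one of
finitely many root sets.
-/

set_option autoImplicit false

namespace Cfsg.Agent.Small.C2Inv.Cert

open Cfsg.Lie Cfsg.Agent.Lie
open scoped MatrixGroups

/-- A step of a certificate. -/
inductive Stp where
  | one
  | sq (a b s kind child : ℕ)
  | br (a c0 c1 : ℕ)
  | w (i child : ℕ)
  | kill (p r : ℕ) (new : List ℕ) (child : ℕ)
  | dbl (p q r1 r2 : ℕ) (new1 new2 : List ℕ) (child : ℕ)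
  | rep (j : ℕ)

/-- A node: a mask, roots with nonzero coefficient, a step. -/
structure Node where
  L : ℕ
  nz : List ℕ
  step : Stp

/-- Membership. -/
def mem' (s : ℕ) : List ℕ → Bool
  | [] => false
  | x :: xs => Nat.beq x s || mem' s xs

theorem mem_iff {s : ℕ} : ∀ {l : List ℕ}, mem' s l = true ↔ s ∈ l
  | [] => by simp [mem']
  | x :: xs => by
    rw [mem', Bool.or_eq_true, mem_iff, List.mem_cons, beq_nat, beq_iff_eq]
    exact or_congr eq_comm Iff.rfl

/-- Only positive roots. -/
def posMask (D : ChevalleyDatum) (L : ℕ) : Bool :=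
  Nat.beq (Nat.shiftLeft (Nat.shiftRight L (D.nroots / 2)) (D.nroots / 2)) L &&
    Nat.ble (L + 1) (2 ^ D.nroots)

theorem pos_of_posMask {D : ChevalleyDatum} {L : ℕ} (h : posMask D L = true) {r : ℕ} (hr : has L r = true) :
    D.nroots / 2 ≤ r ∧ r < D.nroots := by
  rw [posMask, Bool.and_eq_true] at h
  rw [has_eq] at hr
  constructor
  · have h1 : (L >>> (D.nroots / 2)) <<< (D.nroots / 2) = L := Nat.eq_of_beq_eq_true h.1
    rw [← h1, Nat.testBit_shiftLeft] at hr
    simp only [Bool.and_eq_true, decide_eq_true_eq, ge_iff_le] at hr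
    exact hr.1
  · by_contra hc
    have h2 : L < 2 ^ r := lt_of_lt_of_le (Nat.le_of_ble_eq_true h.2)
      (Nat.pow_le_pow_right (by norm_num) (not_lt.1 hc))
    rw [Nat.testBit_lt_two_pow h2] at hr
    cases hr

/-- No entry at a root. -/
def noneAt (E : List Entry) (s : ℕ) : Bool := (at' E s).isEmpty

/-- The only entry at a root. -/
def oneAt (E : List Entry) (s : ℕ) : Option Entry :=
  match at' E s with
  | [e] => some e
  | _ => none

theorem oneAt_eq {E : List Entry} {s : ℕ} {e : Entry} (h : oneAt E s = some e) : at' E s = [e] := by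
  unfold oneAt at h
  split at h
  next e' he => rw [he, Option.some.inj h]
  next => cases h

/-- An old coefficient surviving the first of two steps. -/
def oldB (T : Tab) (L1 : ℕ) (nz : List ℕ) (E1 : List Entry) (s : ℕ) : Bool :=
  noneAt E1 s && mem' s nz && has L1 s && indecB T L1 s

/-- A coefficient created by the first of two steps. -/
def newB (T : Tab) (L L1 : ℕ) (nz : List ℕ) (E1 : List Entry) (s : ℕ) : Bool :=
  !(has L s) && has L1 s && indecB T L1 s &&
    match oneAt E1 s with
    | some e => mem' e.1 nz && Nat.beq e.2.2.1 1 && Nat.beq e.2.2.2 1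
    | none => false

/-- One node. -/
def okNode (D : ChevalleyDatum) (T : Tab) (reps : List (List ℕ)) (nodes : Tr Node) (n i : ℕ) : Bool :=
  let nd := nodes.get i
  let L := nd.L
  let nz := nd.nz
  match nd.step with
  | .one => Nat.beq L 0
  | .sq a b s kind child =>
    has L a && has L b && has L s && Nat.ble (a + 1) b && indecB T L a && indecB T L b &&
    ((T.dec.get s).all fun m => !(sub m L) || Nat.beq m (Nat.lor (2 ^ a) (2 ^ b))) &&
    (match (at' (T.row.get a) s).filter (fun e => Nat.beq e.1 b) with | [_] => true | _ => false) &&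
    (match kind with
      | 0 => mem' a nz && mem' b nz
      | 1 => mem' a nz && Nat.ble (i + 1) child && Nat.ble (child + 1) n &&
          Nat.beq (nodes.get child).L (rem L b) && (nodes.get child).nz.all fun x => mem' x nz
      | _ => mem' b nz && Nat.ble (i + 1) child && Nat.ble (child + 1) n &&
          Nat.beq (nodes.get child).L (rem L a) && (nodes.get child).nz.all fun x => mem' x nz)
  | .br a c0 c1 =>
    indecB T L a && Nat.ble (i + 1) c0 && Nat.ble (c0 + 1) n && Nat.ble (i + 1) c1 && Nat.ble (c1 + 1) n &&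
    Nat.beq (nodes.get c0).L (rem L a) && ((nodes.get c0).nz.all fun x => mem' x nz) &&
    Nat.beq (nodes.get c1).L L && (nodes.get c1).nz.all fun x => mem' x (a :: nz)
  | .w k child =>
    Nat.ble (k + 1) D.rank && !(has L (D.simple k)) && Nat.ble (i + 1) child && Nat.ble (child + 1) n &&
    posMask D (nodes.get child).L &&
    ((Facts.posL D).all fun s => has (nodes.get child).L s == has L (T.R D k s)) &&
    (nodes.get child).nz.all fun s =>
      has (nodes.get child).L s && indecB T (nodes.get child).L s && mem' (T.R D k s) nz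
  | .kill p r new child =>
    let L' := addBits L new
    let E := entries T p L
    Nat.ble (p + 1) D.nroots && !(has L (D.neg p)) && Nat.ble (i + 1) child && Nat.ble (child + 1) n &&
    extB D T L new && (E.all fun e => has L' e.2.1) && has L' r && indecB T L' r &&
    (match oneAt E r with
      | some e => mem' e.1 nz && (Nat.beq e.2.2.1 1 || Nat.beq e.2.2.1 2)
      | none => false) &&
    Nat.beq (nodes.get child).L (rem L' r) &&
    (nodes.get child).nz.all fun s => !(Nat.beq r s) && has L' s && indecB T L' s &&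
      ((noneAt E s && mem' s nz) || (mem' r nz && !(has L s) &&
        match oneAt E s with | some e => mem' e.1 nz | none => false))
  | .dbl p q r1 r2 new1 new2 child =>
    let L1 := addBits L new1
    let E1 := entries T p L
    let L2 := addBits L1 new2
    let E2 := entries T q L1
    Nat.ble (p + 1) D.nroots && !(has L (D.neg p)) && Nat.ble (i + 1) child && Nat.ble (child + 1) n &&
    Nat.ble (q + 1) D.nroots && !(has L1 (D.neg q)) &&
    extB D T L new1 && (E1.all fun e => has L1 e.2.1) &&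
    extB D T L1 new2 && (E2.all fun e => has L2 e.2.1) &&
    has L2 r1 && indecB T L2 r1 && has L2 r2 && indecB T L2 r2 && !(Nat.beq r1 r2) &&
    oldB T L1 nz E1 r1 && newB T L L1 nz E1 r2 &&
    (match oneAt E2 r1 with
      | some e => newB T L L1 nz E1 e.1 && Nat.beq e.2.2.1 1 && Nat.beq e.2.2.2 1
      | none => false) &&
    (match oneAt E2 r2 with
      | some e => oldB T L1 nz E1 e.1 && Nat.beq e.2.2.1 1 && Nat.beq e.2.2.2 1
      | none => false) &&
    Nat.beq (nodes.get child).L (rem (rem L2 r1) r2) &&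
    (nodes.get child).nz.all fun s => !(Nat.beq r1 s) && !(Nat.beq r2 s) && has L2 s && indecB T L2 s &&
      ((noneAt E2 s && (oldB T L1 nz E1 s || newB T L L1 nz E1 s)) || (!(has L1 s) &&
        match oneAt E2 s with
        | some e => oldB T L1 nz E1 e.1 || newB T L L1 nz E1 e.1
        | none => false))
  | .rep j =>
    Nat.ble (j + 1) reps.length && Nat.beq L (addBits 0 (reps.getD j [])) &&
      (reps.getD j []).all fun x => mem' x nz

/-- The root node. -/
def rootOk (D : ChevalleyDatum) (T : Tab) (nodes : Tr Node) : Bool :=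
  Nat.beq (nodes.get 0).L (addBits 0 (Facts.posL D)) && (nodes.get 0).nz.isEmpty &&
    extB D T 0 (Facts.posL D)

variable {D : ChevalleyDatum} {T : Tab} {F : Type*} [Field F] [CharP F 2] (hF : Facts D)

theorem sqrt2 [Finite F] (a : F) : ∃ z, z ^ 2 = a := by
  have hr : ringChar F = 2 := by rw [ringChar.eq F 2]
  obtain ⟨z, hz⟩ := FiniteField.isSquare_of_char_two hr a
  exact ⟨z, by rw [pow_two]; exact hz.symm⟩

omit [CharP F 2] in
theorem valAt_none {E : List Entry} {s : ℕ} (h : noneAt E s = true) (t : F) (c : ℕ → F) :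
    valAt E t c s = 0 := by
  rw [valAt, List.isEmpty_iff.1 h]
  simp

omit [CharP F 2] in
theorem valAt_one {E : List Entry} {s : ℕ} {e : Entry} (h : oneAt E s = some e) (t : F) (c : ℕ → F) :
    valAt E t c s = t ^ e.2.2.1 * c e.1 ^ e.2.2.2 := by
  rw [valAt, oneAt_eq h]
  simp

theorem oldB_spec {L1 : ℕ} {nz : List ℕ} {E1 : List Entry} {s : ℕ} (h : oldB T L1 nz E1 s = true) :
    noneAt E1 s = true ∧ s ∈ nz ∧ has L1 s = true ∧ indecB T L1 s = true := by
  simp only [oldB, Bool.and_eq_true, mem_iff] at h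
  exact ⟨h.1.1.1, h.1.1.2, h.1.2, h.2⟩

theorem newB_spec {L L1 : ℕ} {nz : List ℕ} {E1 : List Entry} {s : ℕ} (h : newB T L L1 nz E1 s = true) :
    has L s = false ∧ has L1 s = true ∧ indecB T L1 s = true ∧
      ∃ e, oneAt E1 s = some e ∧ e.1 ∈ nz ∧ e.2.2.1 = 1 ∧ e.2.2.2 = 1 := by
  simp only [newB, Bool.and_eq_true, Bool.not_eq_true'] at h
  obtain ⟨⟨⟨h1, h2⟩, h3⟩, h4⟩ := h
  split at h4
  next e he =>
    simp only [Bool.and_eq_true, mem_iff] at h4
    exact ⟨h1, h2, h3, e, he, h4.1.1, Nat.eq_of_beq_eq_true h4.1.2, Nat.eq_of_beq_eq_true h4.2⟩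
  next => cases h4

/-- A predicate on involutions invariant under conjugation. -/
structure Target (D : ChevalleyDatum) (F : Type*) [Field F] (hF : Facts D) (reps : List (List ℕ)) where
  Std : GL D.Idx F → Prop
  of_cj : ∀ {u v : GL D.Idx F}, CJ D F u v → Std v → Std u
  of_rep : ∀ j, j < reps.length → ∀ c : ℕ → F, Supp D (addBits 0 (reps.getD j [])) c →
    (∀ x ∈ reps.getD j [], c x ≠ 0) → Std (el hF c)

/-- The meaning of a node. -/
def Good {reps : List (List ℕ)} (P : Target D F hF reps) (nd : Node) : Prop :=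
  Closed D nd.L → ∀ c : ℕ → F, Supp D nd.L c → el hF c * el hF c = 1 → el hF c ≠ 1 →
    (∀ x ∈ nd.nz, c x ≠ 0) → P.Std (el hF c)

omit [CharP F 2] in
theorem rem_supp {L a : ℕ} {c : ℕ → F} (hc : Supp D L c) (h : c a = 0) : Supp D (rem L a) c := by
  intro r h1 h2 hr
  by_cases e : a = r
  · exact e ▸ h
  · refine hc r h1 h2 ?_
    rw [has_rem, decide_eq_false e] at hr
    simpa using hr

omit [CharP F 2] in
theorem invol_conj {g u : GL D.Idx F} (h : u * u = 1) (h1 : u ≠ 1) :
    g * u * g⁻¹ * (g * u * g⁻¹) = 1 ∧ g * u * g⁻¹ ≠ 1 := by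
  refine ⟨?_, fun e => h1 (conj_eq_one_iff.1 e)⟩
  calc g * u * g⁻¹ * (g * u * g⁻¹) = g * (u * u) * g⁻¹ := by group
    _ = 1 := by rw [h]; group

theorem good_node [Finite F] (hT : TabOk D T) {reps : List (List ℕ)} (P : Target D F hF reps)
    (nodes : Tr Node) (n : ℕ) (i : ℕ) (hok : okNode D T reps nodes n i = true)
    (ih : ∀ k, i < k → k < n → Good hF P (nodes.get k)) : Good hF P (nodes.get i) := by
  intro hL c hc hsq hne hnz
  have hinv : ∀ (r : ℕ) (t : F), (hF.xg r t)⁻¹ = hF.xg r t := fun r t => by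
    rw [← hF.xg_neg, CharTwo.neg_eq]
  unfold okNode at hok
  generalize hnd : nodes.get i = nd at *
  obtain ⟨L, nz, step⟩ := nd
  simp only at hL hc hnz hok ⊢
  cases step with
  | one =>
    have h0 : L = 0 := Nat.eq_of_beq_eq_true hok
    refine absurd ?_ hne
    rw [← el_zero hF]
    exact CommSys.prodOver_congr _ fun r hr => hc r (Facts.mem_posL.1 hr).1 (Facts.mem_posL.1 hr).2 (by
      simp [h0, has_eq])
  | sq a b s kind child =>
    simp only [Bool.and_eq_true] at hok
    obtain ⟨⟨⟨⟨⟨⟨⟨⟨ha, hb⟩, hs⟩, hab⟩, hia⟩, hib⟩, hdec⟩, hone⟩, hkind⟩ := hok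
    split at hone
    next e he =>
      have hd : ∀ r r', has L r = true → has L r' = true → r ≠ r' → ∀ k ∈ oddTerms D r r', k.1 = s →
          (r = a ∧ r' = b) ∨ (r = b ∧ r' = a) := by
        intro r r' hr hr' hne' k hk hks
        have hpr := hL.pos r hr
        have hpr' := hL.pos r' hr'
        have he' := entry_of_term hF hT hpr.1 hpr.2 hpr'.1 hpr'.2 hne' hk
        have h1 := hT.pos_ok r hpr.1 hpr.2
        simp only [posOk, hasPair_eq, force_eq, Bool.and_eq_true, List.all_eq_true] at h1
        have h2 := h1.1 _ he'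
        rw [Bool.or_eq_true, decide_eq_true_eq] at h2
        rcases h2 with h2 | h2
        · exact absurd h2 (not_lt.2 hpr'.1)
        rw [Bool.and_eq_true, List.contains_iff_mem] at h2
        rw [List.all_eq_true] at hdec
        have h3 := hdec _ (hks ▸ h2.1)
        rw [Bool.or_eq_true, Bool.not_eq_true'] at h3
        have h4 : sub (Nat.lor (2 ^ r) (2 ^ r')) L = true := by
          have : (2 ^ r ||| 2 ^ r') &&& L = 2 ^ r ||| 2 ^ r' := by
            refine Nat.eq_of_testBit_eq fun x => ?_
            rw [Nat.testBit_and, Nat.testBit_or, Nat.testBit_two_pow, Nat.testBit_two_pow]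
            by_cases e1 : r = x
            · subst e1; rw [← has_eq, hr]; simp
            · by_cases e2 : r' = x
              · subst e2; rw [← has_eq, hr']; simp
              · simp [e1, e2]
          show Nat.beq ((2 ^ r ||| 2 ^ r') &&& L) (2 ^ r ||| 2 ^ r') = true
          rw [this]
          exact Nat.beq_refl _
        rcases h3 with h3 | h3
        · rw [h4] at h3; cases h3
        have h5 : 2 ^ r ||| 2 ^ r' = 2 ^ a ||| 2 ^ b := Nat.eq_of_beq_eq_true h3
        have key : ∀ x, (r = x ∨ r' = x) ↔ (a = x ∨ b = x) := fun x => by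
          have := congrArg (fun m => Nat.testBit m x) h5
          simp only [Nat.testBit_or, Nat.testBit_two_pow] at this
          simpa using congrArg (· = true) this
        rcases (key r).1 (Or.inl rfl) with e1 | e1 <;> rcases (key r').1 (Or.inr rfl) with e2 | e2
        · exact absurd (e1.symm.trans e2) hne'
        · exact Or.inl ⟨e1.symm, e2.symm⟩
        · exact Or.inr ⟨e1.symm, e2.symm⟩
        · exact absurd (e1.symm.trans e2) hne'
      have hzero := square_step hF hT hL ha hb hs (Nat.le_of_ble_eq_true hab) (indec_of_indecB hF hT hL hia)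
        (indec_of_indecB hF hT hL hib) hd he hc hsq
      have go : ∀ x, (nodes.get child).L = rem L x → Closed D (rem L x) →
          i < child → child < n → ((nodes.get child).nz.all fun z => mem' z nz) = true → c x = 0 →
            P.Std (el hF c) := by
        intro x hLx hcx h1 h2 h3 h0
        refine ih child h1 h2 (hLx ▸ hcx) c (hLx ▸ rem_supp hc h0) hsq hne fun z hz => hnz z ?_
        rw [List.all_eq_true] at h3
        exact mem_iff.1 (h3 z hz)
      split at hkind
      · rw [Bool.and_eq_true, mem_iff, mem_iff] at hkind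
        rcases hzero with h | h
        exacts [absurd h (hnz a hkind.1), absurd h (hnz b hkind.2)]
      · simp only [Bool.and_eq_true] at hkind
        obtain ⟨⟨⟨⟨k1, k2⟩, k3⟩, k4⟩, k5⟩ := hkind
        exact go b (Nat.eq_of_beq_eq_true k4) (hL.remove (indec_of_indecB hF hT hL hib))
          (Nat.le_of_ble_eq_true k2) (Nat.le_of_ble_eq_true k3) k5
          (hzero.resolve_left (hnz a (mem_iff.1 k1)))
      · simp only [Bool.and_eq_true] at hkind
        obtain ⟨⟨⟨⟨k1, k2⟩, k3⟩, k4⟩, k5⟩ := hkind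
        exact go a (Nat.eq_of_beq_eq_true k4) (hL.remove (indec_of_indecB hF hT hL hia))
          (Nat.le_of_ble_eq_true k2) (Nat.le_of_ble_eq_true k3) k5
          (hzero.resolve_right (hnz b (mem_iff.1 k1)))
    next => cases hone
  | br a c0 c1 =>
    simp only [Bool.and_eq_true, List.all_eq_true, mem_iff] at hok
    obtain ⟨⟨⟨⟨⟨⟨⟨⟨hi, l0⟩, u0⟩, l1⟩, u1⟩, m0⟩, z0⟩, m1⟩, z1⟩ := hok
    by_cases h : c a = 0
    · have e : (nodes.get c0).L = rem L a := Nat.eq_of_beq_eq_true m0
      exact ih c0 (Nat.le_of_ble_eq_true l0) (Nat.le_of_ble_eq_true u0)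
        (e ▸ hL.remove (indec_of_indecB hF hT hL hi)) c (e ▸ rem_supp hc h) hsq hne
        fun z hz => hnz z (z0 z hz)
    · have e : (nodes.get c1).L = L := Nat.eq_of_beq_eq_true m1
      refine ih c1 (Nat.le_of_ble_eq_true l1) (Nat.le_of_ble_eq_true u1)
        (e.symm ▸ hL) c (e.symm ▸ hc) hsq hne fun z hz => ?_
      rcases List.mem_cons.1 (z1 z hz) with rfl | hz'
      exacts [h, hnz z hz']
  | w k child =>
    simp only [Bool.and_eq_true, Bool.not_eq_true', List.all_eq_true, beq_iff_eq, mem_iff] at hok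
    obtain ⟨⟨⟨⟨⟨⟨hk, hs⟩, l1⟩, u1⟩, hp⟩, himg⟩, hz⟩ := hok
    obtain ⟨hcl, c', hc', heq, hval⟩ := refl_step hF hT (Nat.le_of_ble_eq_true hk) hs hL
      (fun s h1 h2 => himg s (Facts.mem_posL.2 ⟨h1, h2⟩)) (fun s hs' => pos_of_posMask hp hs') hc
    have hg : hF.ng (D.simple k) (1 : F) ∈ D.group F := hF.wg_mem_group _
    obtain ⟨h1, h2⟩ := invol_conj (g := hF.ng (D.simple k) (1 : F)) hsq hne
    refine P.of_cj (cj_conj hg _) ?_
    rw [heq] at h1 h2 ⊢
    refine ih child (Nat.le_of_ble_eq_true l1) (Nat.le_of_ble_eq_true u1) hcl c' hc' h1 h2 fun s hs' => ?_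
    obtain ⟨⟨a1, a2⟩, a3⟩ := hz s hs'
    rw [hval s a1 (indec_of_indecB hF hT hcl a2)]
    exact hnz _ a3
  | kill p r new child =>
    simp only [Bool.and_eq_true, Bool.not_eq_true', List.all_eq_true] at hok
    obtain ⟨⟨⟨⟨⟨⟨⟨⟨⟨⟨hp, hneg⟩, l1⟩, u1⟩, hext⟩, hE⟩, hr⟩, hir⟩, hone⟩, hLc⟩, hz⟩ := hok
    split at hone
    next e he =>
      simp only [Bool.and_eq_true, Bool.or_eq_true, mem_iff] at hone
      have hL' := closed_ext hF hT hL hext
      have hea : c e.1 ≠ 0 := hnz _ hone.1
      obtain ⟨t, ht⟩ : ∃ t : F, t ^ e.2.2.1 = c r / c e.1 ^ e.2.2.2 := by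
        rcases hone.2 with h | h
        · exact ⟨_, by rw [Nat.eq_of_beq_eq_true h, pow_one]⟩
        · rw [Nat.eq_of_beq_eq_true h]; exact sqrt2 _
      obtain ⟨c', hc', heq, hval⟩ := conj_step hF hT (Nat.le_of_ble_eq_true hp) hneg hL hL'
        (fun x hx => by rw [has_addBits, hx, Bool.true_or]) hE hc t
      have hr0 : c' r = 0 := by
        rw [hval r hr (indec_of_indecB hF hT hL' hir), valAt_one he, ht, div_mul_cancel₀ _ (pow_ne_zero _ hea),
          CharTwo.add_self_eq_zero]
      obtain ⟨h1, h2⟩ := invol_conj (g := hF.xg p t) hsq hne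
      rw [hinv, heq] at h1 h2
      refine P.of_cj (v := el hF c') ⟨_, hF.xg_mem_group p t, by rw [hinv, heq]⟩ ?_
      have e' : (nodes.get child).L = rem (addBits L new) r := Nat.eq_of_beq_eq_true hLc
      refine ih child (Nat.le_of_ble_eq_true l1) (Nat.le_of_ble_eq_true u1)
        (e' ▸ hL'.remove (indec_of_indecB hF hT hL' hir)) c' (e' ▸ rem_supp hc' hr0) h1 h2 fun s hs => ?_
      obtain ⟨⟨⟨-, a1⟩, a2⟩, a3⟩ := hz s hs
      rw [hval s a1 (indec_of_indecB hF hT hL' a2)]
      rw [Bool.or_eq_true] at a3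
      rcases a3 with a3 | a3
      · rw [Bool.and_eq_true, mem_iff] at a3
        rw [valAt_none a3.1, add_zero]
        exact hnz s a3.2
      · simp only [Bool.and_eq_true, Bool.not_eq_true', mem_iff] at a3
        obtain ⟨⟨b1, b2⟩, b3⟩ := a3
        split at b3
        next e2 he2 =>
          rw [hc s (hL'.pos s a1).1 (hL'.pos s a1).2 b2, zero_add, valAt_one he2]
          refine mul_ne_zero (pow_ne_zero _ fun h0 => ?_) (pow_ne_zero _ (hnz _ (mem_iff.1 b3)))
          have hi0 : e.2.2.1 ≠ 0 := by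
            rcases hone.2 with h | h <;> rw [Nat.eq_of_beq_eq_true h] <;> norm_num
          rw [h0, zero_pow hi0, eq_comm, div_eq_zero_iff] at ht
          rcases ht with h | h
          exacts [hnz r b1 h, pow_ne_zero _ hea h]
        next => cases b3
    next => cases hone
  | dbl p q r1 r2 new1 new2 child =>
    simp only [Bool.and_eq_true, Bool.not_eq_true', List.all_eq_true] at hok
    obtain ⟨⟨⟨⟨⟨⟨⟨⟨⟨⟨⟨⟨⟨⟨⟨⟨⟨⟨⟨⟨hp, hneg⟩, l1⟩, u1⟩, hq⟩, hnegq⟩, hext1⟩, hE1⟩, hext2⟩, hE2⟩,
      hr1⟩, hir1⟩, hr2⟩, hir2⟩, h12⟩, hold⟩, hnew⟩, hone1⟩, hone2⟩, hLc⟩, hz⟩ := hok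
    split at hone1
    next e1 he1 =>
      split at hone2
      next e2 he2 =>
        simp only [Bool.and_eq_true] at hone1 hone2
        obtain ⟨o1, o2, -, o4⟩ := oldB_spec hold
        obtain ⟨n1, n2, n3, a, ha, han, hai, haj⟩ := newB_spec hnew
        obtain ⟨⟨q1, q1i⟩, q1j⟩ := hone1
        obtain ⟨⟨q2, q2i⟩, q2j⟩ := hone2
        obtain ⟨m1, m2, m3, b, hb, hbn, hbi, hbj⟩ := newB_spec q1
        obtain ⟨p1, p2, p3, p4⟩ := oldB_spec q2
        have hC : c r1 ≠ 0 := hnz _ o2
        have hA : c a.1 ≠ 0 := hnz _ han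
        have hB : c b.1 ≠ 0 := hnz _ hbn
        have hDd : c e2.1 ≠ 0 := hnz _ p2
        obtain ⟨y, hy⟩ := sqrt2 (c r1 * c e2.1 / (c a.1 * c b.1))
        have hy0 : y ≠ 0 := by
          intro h
          rw [h, zero_pow (by norm_num), eq_comm, div_eq_zero_iff] at hy
          rcases hy with h' | h'
          exacts [mul_ne_zero hC hDd h', mul_ne_zero hA hB h']
        set t := c r1 / (y * c b.1) with ht
        have ht0 : t ≠ 0 := div_ne_zero hC (mul_ne_zero hy0 hB)
        have hL1 := closed_ext hF hT hL hext1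
        have hL2 := closed_ext hF hT hL1 hext2
        obtain ⟨c1, hc1, heq1, hval1⟩ := conj_step hF hT (Nat.le_of_ble_eq_true hp) hneg hL hL1
          (fun x hx => by rw [has_addBits, hx, Bool.true_or]) hE1 hc y
        obtain ⟨c2, hc2, heq2, hval2⟩ := conj_step hF hT (Nat.le_of_ble_eq_true hq) hnegq hL1 hL2
          (fun x hx => by rw [has_addBits, hx, Bool.true_or]) hE2 hc1 t
        have hold' : ∀ s, oldB T (addBits L new1) nz (entries T p L) s = true → c1 s = c s := fun s h => by
          obtain ⟨x1, -, x3, x4⟩ := oldB_spec h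
          rw [hval1 s x3 (indec_of_indecB hF hT hL1 x4), valAt_none x1, add_zero]
        have hnew' : ∀ s e, newB T L (addBits L new1) nz (entries T p L) s = true →
            oneAt (entries T p L) s = some e → e.2.2.1 = 1 → e.2.2.2 = 1 → c1 s = y * c e.1 := by
          intro s e h he hi hj
          obtain ⟨x1, x2, x3, -⟩ := newB_spec h
          rw [hval1 s x2 (indec_of_indecB hF hT hL1 x3), hc s (hL1.pos s x2).1 (hL1.pos s x2).2 x1,
            valAt_one he, hi, hj, pow_one, pow_one, zero_add]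
        have hmono : ∀ s, (oldB T (addBits L new1) nz (entries T p L) s ||
            newB T L (addBits L new1) nz (entries T p L) s) = true → c1 s ≠ 0 := by
          intro s h
          rw [Bool.or_eq_true] at h
          rcases h with h | h
          · rw [hold' s h]; exact hnz _ (oldB_spec h).2.1
          · obtain ⟨-, -, -, e, he, hen, hi, hj⟩ := newB_spec h
            rw [hnew' s e h he hi hj]
            exact mul_ne_zero hy0 (hnz _ hen)
        have z1 : c2 r1 = 0 := by
          rw [hval2 r1 hr1 (indec_of_indecB hF hT hL2 hir1), valAt_one he1, hold' r1 hold,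
            hnew' e1.1 b q1 hb hbi hbj, Nat.eq_of_beq_eq_true q1i, Nat.eq_of_beq_eq_true q1j, pow_one, pow_one,
            ht, div_mul_cancel₀ _ (mul_ne_zero hy0 hB), CharTwo.add_self_eq_zero]
        have z2 : c2 r2 = 0 := by
          rw [hval2 r2 hr2 (indec_of_indecB hF hT hL2 hir2), valAt_one he2, hnew' r2 a hnew ha hai haj,
            hold' e2.1 q2, Nat.eq_of_beq_eq_true q2i, Nat.eq_of_beq_eq_true q2j, pow_one, pow_one, ht,
            CharTwo.add_eq_zero, div_mul_eq_mul_div, eq_div_iff (mul_ne_zero hy0 hB)]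
          rw [eq_div_iff (mul_ne_zero hA hB)] at hy
          linear_combination hy
        obtain ⟨h1, h2⟩ := invol_conj (g := hF.xg p y) hsq hne
        rw [hinv, heq1] at h1 h2
        obtain ⟨h3, h4⟩ := invol_conj (g := hF.xg q t) h1 h2
        rw [hinv, heq2] at h3 h4
        refine P.of_cj (v := el hF c1) ⟨_, hF.xg_mem_group p y, by rw [hinv, heq1]⟩
          (P.of_cj (v := el hF c2) ⟨_, hF.xg_mem_group q t, by rw [hinv, heq2]⟩ ?_)
        have e' : (nodes.get child).L = rem (rem (addBits (addBits L new1) new2) r1) r2 :=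
          Nat.eq_of_beq_eq_true hLc
        have hi2 := indec_of_indecB hF hT hL2 hir2
        have hcl := (hL2.remove (indec_of_indecB hF hT hL2 hir1)).remove
          fun x x' hx hx' => hi2 x x' (has_rem_iff.1 hx).2 (has_rem_iff.1 hx').2
        refine ih child (Nat.le_of_ble_eq_true l1) (Nat.le_of_ble_eq_true u1) (e' ▸ hcl) c2
          (e' ▸ rem_supp (rem_supp hc2 z1) z2) h3 h4 fun s hs => ?_
        obtain ⟨⟨⟨-, a1⟩, a2⟩, a3⟩ := hz s hs
        rw [hval2 s a1 (indec_of_indecB hF hT hL2 a2)]
        rw [Bool.or_eq_true] at a3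
        rcases a3 with a3 | a3
        · rw [Bool.and_eq_true] at a3
          rw [valAt_none a3.1, add_zero]
          exact hmono s a3.2
        · rw [Bool.and_eq_true, Bool.not_eq_true'] at a3
          obtain ⟨b1, b2⟩ := a3
          split at b2
          next e3 he3 =>
            rw [hc1 s (hL2.pos s a1).1 (hL2.pos s a1).2 b1, zero_add, valAt_one he3]
            exact mul_ne_zero (pow_ne_zero _ ht0) (pow_ne_zero _ (hmono _ b2))
          next => cases b2
      next => cases hone2
    next => cases hone1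
  | rep j =>
    simp only [Bool.and_eq_true, List.all_eq_true, mem_iff] at hok
    obtain ⟨⟨hj, hL0⟩, hz⟩ := hok
    exact P.of_rep j (Nat.le_of_ble_eq_true hj) c (Nat.eq_of_beq_eq_true hL0 ▸ hc) fun x hx => hnz x (hz x hx)

/-- A checked certificate classifies the involutions of the group. -/
theorem classify [Fintype F] (hT : TabOk D T) {reps : List (List ℕ)} (P : Target D F hF reps)
    (nodes : Tr Node) (n : ℕ) (hn : 0 < n) (hroot : rootOk D T nodes = true)
    (hok : ∀ i, i < n → okNode D T reps nodes n i = true)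
    {g : GL D.Idx F} (hg : g ∈ D.group F) (hg2 : g * g = 1) (hg1 : g ≠ 1) : P.Std g := by
  have hall : ∀ m i, n - i = m → i < n → Good hF P (nodes.get i) := by
    intro m
    induction m using Nat.strong_induction_on with
    | _ m ihm =>
      intro i hm hi
      exact good_node hF hT P nodes n i (hok i hi) fun k hk hk' => ihm (n - k) (by omega) k rfl hk'
  obtain ⟨u, hu, hcj⟩ := exists_cj_U hF hg hg2
  refine P.of_cj hcj ?_
  obtain ⟨x, -, hx⟩ := hcj
  have h := invol_conj (g := x) hg2 hg1
  rw [hx] at h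
  simp only [rootOk, Bool.and_eq_true, List.isEmpty_iff] at hroot
  obtain ⟨⟨hL0, hnz0⟩, hext⟩ := hroot
  have hcl : Closed D (addBits 0 (Facts.posL D)) := closed_ext hF hT
    ⟨fun r hr => by simp [has_eq] at hr, fun r s hr => by simp [has_eq] at hr⟩ hext
  obtain ⟨c, hc⟩ := (hF.sys F).exists_prodOver hF.closedList_posL (g := u) (by
    rw [← hF.posUnipotent_eq F, ← hF.tsys_U]; exact hu)
  rw [show u = el hF c from hc] at h ⊢
  have e0 : (nodes.get 0).L = addBits 0 (Facts.posL D) := Nat.eq_of_beq_eq_true hL0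
  refine hall n 0 (by omega) hn (e0.symm ▸ hcl) c ?_ h.1 h.2 (by simp [hnz0])
  intro r h1 h2 hr
  rw [e0, has_addBits, decide_eq_true (Facts.mem_posL.2 ⟨h1, h2⟩), Bool.or_true] at hr
  cases hr

end Cfsg.Agent.Small.C2Inv.Cert

namespace Cfsg.Agent.Small.C2Inv.Cert

theorem chunk {P : ℕ → Bool} {lo len n : ℕ} (h : (List.range' lo len).all P = true)
    (h' : ∀ i, lo + len ≤ i → i < n → P i = true) : ∀ i, lo ≤ i → i < n → P i = true := by
  intro i h1 h2
  rw [List.all_eq_true] at h
  by_cases h3 : i < lo + len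
  · exact h i (List.mem_range'_1.2 ⟨h1, h3⟩)
  · exact h' i (not_lt.1 h3) h2

theorem chunk_end {P : ℕ → Bool} {lo n : ℕ} (hlo : n ≤ lo) : ∀ i, lo ≤ i → i < n → P i = true :=
  fun i h1 h2 => absurd h2 (by omega)

end Cfsg.Agent.Small.C2Inv.Cert

namespace Cfsg.Agent.Small.C2Inv.Cert

theorem chunkF {P : ℕ → Bool} {lo len n : ℕ} (h : ((List.range' lo len).all fun p => force p P) = true)
    (h' : ∀ i, lo + len ≤ i → i < n → P i = true) : ∀ i, lo ≤ i → i < n → P i = true := by
  simp only [force_eq] at h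
  exact chunk h h'

end Cfsg.Agent.Small.C2Inv.Cert
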