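import Cfsg.Agent.Lib.Small.Char2Invol.Classes
import Cfsg.Agent.Lib.Small.Char2Invol.Data.RankE7

/-!
The classes of involutions of type E7 in characteristic two.
-/

set_option autoImplicit false

namespace Cfsg.Agent.Small.C2Inv.Cert.E7

open Cfsg.Lie Cfsg.Agent.Lie Cfsg.Agent.Small.C2Inv.Cert

theorem nodes_pos : 0 < 1820 := by norm_num

/-- The checked data. -/
def data : ClassData chevE7 where
  tab := tab
  tabOk := tabOk
  reps := reps
  nodes := nodes
  n := 1820
  npos := nodes_pos
  root_ok := root_ok
  node_ok := node_ok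
  lam := fun _ => coLam chevE7
  es := fun _ => 1
  rep_ok := by decide +kernel

variable {F : Type*} [Field F] [CharP F 2]

/-- The ranks of u − 1. -/
def ranks : List ℕ := [34, 52, 53, 62, 63]

theorem rank_eq (hF : Facts chevE7) {j : ℕ} (hj : j < data.reps.length) :
    (((repEl hF (data.reps.getD j []) : GL chevE7.Idx F) : Matrix chevE7.Idx chevE7.Idx F) - 1).rank =
      ranks.getD j 0 := by
  have hj' : j < 5 := hj
  interval_cases j
  · exact (rank_repEl hF rc0_ok).trans rc0_len
  · exact (rank_repEl hF rc1_ok).trans rc1_len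
  · exact (rank_repEl hF rc2_ok).trans rc2_len
  · exact (rank_repEl hF rc3_ok).trans rc3_len
  · exact (rank_repEl hF rc4_ok).trans rc4_len

theorem rank_ne (hF : Facts chevE7) (j : ℕ) (hj : j < data.reps.length) :
    (((repEl hF (data.reps.getD j []) : GL chevE7.Idx F) : Matrix chevE7.Idx chevE7.Idx F) - 1).rank ≠ 0 := by
  rw [rank_eq hF hj]
  have hj' : j < 5 := hj
  interval_cases j <;> decide

theorem dist (hF : Facts chevE7) (j k : ℕ) (hj : j < data.reps.length) (hk : k < data.reps.length)
    (h : CJ chevE7 F (repEl hF (data.reps.getD j [])) (repEl hF (data.reps.getD k []))) : j = k := by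
  have e := rank_of_cj h
  rw [rank_eq hF hj, rank_eq hF hk] at e
  have hj' : j < 5 := hj
  have hk' : k < 5 := hk
  interval_cases j <;> interval_cases k <;> first | rfl | exact absurd e (by decide)

end Cfsg.Agent.Small.C2Inv.Cert.E7
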