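import Cfsg.Agent.Lib.Small.Char2Invol.Classes
import Cfsg.Agent.Lib.Small.ChevF4RootCent
import Cfsg.Agent.Lib.Small.Char2Invol.Data.RankF4

/-!
The classes of involutions of type F4 in characteristic two.
-/

set_option autoImplicit false

namespace Cfsg.Agent.Small.C2Inv.Cert.F4

open Cfsg.Lie Cfsg.Agent.Lie Cfsg.Agent.Small.C2Inv.Cert

theorem nodes_pos : 0 < 238 := by norm_num

/-- The checked data. -/
def data : ClassData chevF4 where
  tab := tab
  tabOk := tabOk
  reps := reps
  nodes := nodes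
  n := 238
  npos := nodes_pos
  root_ok := root_ok
  node_ok := node_ok
  lam := fun j x i => if j = 2 then (if x = 44 then ([1, 0, 0, 0] : List ℤ) else [0, 0, 0, 1]).getD i 0 else coLam chevF4 x i
  es := fun j => if j = 2 then 0 else 1
  rep_ok := by decide +kernel

variable {F : Type*} [Field F] [CharP F 2]

/-- The ranks of u − 1. -/
def ranks : List ℕ := [16, 16, 21, 24]

theorem rank_eq (hF : Facts chevF4) {j : ℕ} (hj : j < data.reps.length) :
    (((repEl hF (data.reps.getD j []) : GL chevF4.Idx F) : Matrix chevF4.Idx chevF4.Idx F) - 1).rank =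
      ranks.getD j 0 := by
  have hj' : j < 4 := hj
  interval_cases j
  · exact (rank_repEl hF rc0_ok).trans rc0_len
  · exact (rank_repEl hF rc1_ok).trans rc1_len
  · exact (rank_repEl hF rc2_ok).trans rc2_len
  · exact (rank_repEl hF rc3_ok).trans rc3_len

theorem rank_ne (hF : Facts chevF4) (j : ℕ) (hj : j < data.reps.length) :
    (((repEl hF (data.reps.getD j []) : GL chevF4.Idx F) : Matrix chevF4.Idx chevF4.Idx F) - 1).rank ≠ 0 := by
  rw [rank_eq hF hj]
  have hj' : j < 4 := hj
  interval_cases j <;> decide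

/-- The long roots. -/
def longRoots : List ℕ := [0, 1, 2, 4, 5, 6, 15, 16, 17, 21, 22, 23, 24, 25, 26, 30, 31, 32, 41, 42, 43, 45, 46, 47]

theorem longRoots_closed : ∀ i < chevF4.rank, ∀ r ∈ longRoots, chevF4.reflectRoot i r ∈ longRoots := by
  decide +kernel

/-- Weyl images of the highest root are long. -/
theorem long_image (hF : Facts chevF4) (w : hF.weyl) (h : 47 < chevF4.nroots) :
    (w • (⟨47, h⟩ : Fin chevF4.nroots) : Fin chevF4.nroots).val ≠ 44 := by
  have key : ∀ r : ℕ, r ∈ longRoots → r ≠ 44 := by decide +kernel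
  refine key _ ?_
  obtain ⟨ω, hω⟩ := hF.refSys.exists_word w
  rw [← hω]
  clear hω
  induction ω with
  | nil =>
    rw [RefSystem.pr_nil, one_smul]
    show 47 ∈ longRoots
    decide +kernel
  | cons i ω ih =>
    rw [RefSystem.pr_cons, mul_smul, show hF.refSys.s i = hF.wS i from rfl, Facts.wS_smul]
    exact longRoots_closed i.val i.isLt _ ih

theorem not_cj (hF : Facts chevF4) : ¬ CJ chevF4 F (hF.xg 47 (1 : F)) (hF.xg 44 (1 : F)) := by
  rintro ⟨g, hg, he⟩
  have hd := ChevDomCent.data_of_ok ChevF4RootCent.ok47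
  have hd' := ChevDomCent.data_of_ok ChevF4RootCent.ok44
  obtain ⟨b, hb, w, u, hu, rfl⟩ := hF.mem_bnu hg
  obtain ⟨v, hv, a, ha, rfl⟩ := (hF.tsys F).mem_B.1 hb
  have huU : u ∈ (hF.tsys F).U :=
    CommSys.US_mono _ (fun r hr => Facts.mem_posL.2 ((TorusSys.closed_invList w).mem_pos r hr)) hu
  have hu47 := (ChevDomCent.cand_comm hF hd (List.mem_singleton_self 47) (ChevDomCent.U_le_cand hF huU) (1 : F)).eq
  have hv44 := (ChevDomCent.cand_comm hF hd' (List.mem_singleton_self 44)
    (ChevDomCent.U_le_cand hF (inv_mem hv)) (1 : F)).eq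
  rw [hF.tsys_H, hF.diagonalSubgroup_eq F] at ha
  obtain ⟨c, rfl⟩ := ha
  have hn : 47 < chevF4.nroots := (hd.rs 47 (List.mem_singleton_self 47)).2
  have hm := hd'.rs 44 (List.mem_singleton_self 44)
  obtain ⟨e, hee, hw⟩ := hF.nW_conj (F := F) w ⟨47, hn⟩
  have hw1 := hw 1
  have htc := hF.torus_conj c⁻¹ hm.2 (1 : F)
  rw [map_inv, inv_inv, mul_one] at htc
  have key : hF.xg (w • (⟨47, hn⟩ : Fin chevF4.nroots) : Fin chevF4.nroots).val (e * 1) =
      hF.xg 44 ((torChar chevF4 c⁻¹ 44 : Fˣ) : F) := by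
    rw [← hw1, ← htc]
    calc (hF.tsys F).nW w * hF.xg 47 (1 : F) * ((hF.tsys F).nW w)⁻¹
        = (torus chevF4 F c)⁻¹ * v⁻¹ * (v * torus chevF4 F c * (hF.tsys F).nW w * (hF.xg 47 1 * u) * u⁻¹ *
            ((hF.tsys F).nW w)⁻¹ * (torus chevF4 F c)⁻¹ * v⁻¹) * v * torus chevF4 F c := by group
      _ = (torus chevF4 F c)⁻¹ * v⁻¹ * (v * torus chevF4 F c * (hF.tsys F).nW w * u * hF.xg 47 1 *
            (v * torus chevF4 F c * (hF.tsys F).nW w * u)⁻¹) * v * torus chevF4 F c := by
          rw [hu47]; group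
      _ = (torus chevF4 F c)⁻¹ * (v⁻¹ * hF.xg 44 1 * v) * torus chevF4 F c := by rw [he]; group
      _ = _ := by rw [← hv44, inv_mul_cancel_right]
  have he0 : e * 1 ≠ 0 := by rw [mul_one]; exact left_ne_zero_of_mul_eq_one hee
  exact long_image hF w hn (ChevDomCent.root_eq hF (Fin.isLt _) hm.1 hm.2 he0 (Units.ne_zero _) key).1

theorem dist (hF : Facts chevF4) (j k : ℕ) (hj : j < data.reps.length) (hk : k < data.reps.length)
    (h : CJ chevF4 F (repEl hF (data.reps.getD j [])) (repEl hF (data.reps.getD k []))) : j = k := by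
  have e := rank_of_cj h
  rw [rank_eq hF hj, rank_eq hF hk] at e
  have r47 : repEl (F := F) hF (data.reps.getD 0 []) = hF.xg 47 (1 : F) := by
    rw [show data.reps.getD 0 [] = [47] from rfl, repEl, List.map_singleton, List.prod_singleton]
  have r44 : repEl (F := F) hF (data.reps.getD 1 []) = hF.xg 44 (1 : F) := by
    rw [show data.reps.getD 1 [] = [44] from rfl, repEl, List.map_singleton, List.prod_singleton]
  have hj' : j < 4 := hj
  have hk' : k < 4 := hk
  have key : j = k ∨ (j = 0 ∧ k = 1) ∨ (j = 1 ∧ k = 0) := by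
    interval_cases j <;> interval_cases k <;> first
      | exact Or.inl rfl
      | exact absurd e (by decide)
      | omega
  rcases key with rfl | ⟨rfl, rfl⟩ | ⟨rfl, rfl⟩
  · rfl
  · rw [r47, r44] at h
    exact absurd h (not_cj hF)
  · rw [r47, r44] at h
    exact absurd h.symm (not_cj hF)

end Cfsg.Agent.Small.C2Inv.Cert.F4
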