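import Cfsg.Agent.Lib.Small.Char2Invol.Rep

/-!
From a certificate to the list of classes of involutions.
-/

set_option autoImplicit false

namespace Cfsg.Agent.Small.C2Inv.Cert

open Cfsg.Lie Cfsg.Agent.Lie
open scoped MatrixGroups

/-- Cocharacters given by coroots. -/
def coLam (D : ChevalleyDatum) (x i : ℕ) : ℤ := co D x i

/-- Everything checked for a type: tables, certificate, representatives. -/
structure ClassData (D : ChevalleyDatum) where
  tab : Tab
  tabOk : TabOk D tab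
  reps : List (List ℕ)
  nodes : Tr Node
  n : ℕ
  npos : 0 < n
  root_ok : rootOk D tab nodes = true
  node_ok : ∀ i, i < n → okNode D tab reps nodes n i = true
  lam : ℕ → ℕ → ℕ → ℤ
  es : ℕ → ℕ
  rep_ok : ∀ j, j < reps.length → repOk D (reps.getD j []) (lam j) (es j) = true

variable {D : ChevalleyDatum} {F : Type*} [Field F] [CharP F 2]

theorem exists_rep (C : ClassData D) (hF : Facts D) [Fintype F] {g : GL D.Idx F} (hg : g ∈ D.group F)
    (h2 : orderOf g = 2) :
    ∃ j, j < C.reps.length ∧ CJ D F g (repEl hF (C.reps.getD j [])) := by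
  have hsq : g * g = 1 := by
    have := pow_orderOf_eq_one g
    rwa [h2, sq] at this
  exact classify hF C.tabOk (target hF C.reps C.lam C.es C.rep_ok) C.nodes C.n C.npos C.root_ok C.node_ok
    hg hsq fun e => by simp [e] at h2

theorem order_rep (C : ClassData D) (hF : Facts D) {j : ℕ} (hj : j < C.reps.length)
    (hr : (((repEl hF (C.reps.getD j []) : GL D.Idx F) : Matrix D.Idx D.Idx F) - 1).rank ≠ 0) :
    orderOf (repEl (F := F) hF (C.reps.getD j [])) = 2 := by
  refine orderOf_eq_prime ?_ fun e => hr ?_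
  · rw [sq]; exact repEl_sq hF (C.rep_ok j hj)
  · rw [e, Units.val_one, sub_self, Matrix.rank_zero]

/-- The three clauses for the matrices of the representatives. -/
theorem classes (C : ClassData D) (hF : Facts D) [Fintype F] (mats : List (Matrix D.Idx D.Idx F))
    (hlen : mats.length = C.reps.length)
    (hm : ∀ j, j < C.reps.length →
      mats.getD j 0 = ((repEl hF (C.reps.getD j []) : GL D.Idx F) : Matrix D.Idx D.Idx F))
    (hr : ∀ j, j < C.reps.length →
      (((repEl hF (C.reps.getD j []) : GL D.Idx F) : Matrix D.Idx D.Idx F) - 1).rank ≠ 0)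
    (hdist : ∀ j k, j < C.reps.length → k < C.reps.length →
      CJ D F (repEl hF (C.reps.getD j [])) (repEl hF (C.reps.getD k [])) → j = k) :
    (∀ y : GL D.Idx F, (y : Matrix D.Idx D.Idx F) ∈ mats → y ∈ D.group F ∧ orderOf y = 2) ∧
    (∀ g ∈ D.group F, orderOf g = 2 → ∃ y ∈ D.group F, (y : Matrix D.Idx D.Idx F) ∈ mats ∧
      ∃ h ∈ D.group F, h * g * h⁻¹ = y) ∧
    (∀ y₁ ∈ D.group F, ∀ y₂ ∈ D.group F, (y₁ : Matrix D.Idx D.Idx F) ∈ mats →
      (y₂ : Matrix D.Idx D.Idx F) ∈ mats → (∃ h ∈ D.group F, h * y₁ * h⁻¹ = y₂) →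
      (y₁ : Matrix D.Idx D.Idx F) = (y₂ : Matrix D.Idx D.Idx F)) := by
  have hmem : ∀ y : GL D.Idx F, (y : Matrix D.Idx D.Idx F) ∈ mats →
      ∃ j, j < C.reps.length ∧ y = repEl hF (C.reps.getD j []) := by
    intro y hy
    obtain ⟨j, hj, hjy⟩ := List.getElem_of_mem hy
    refine ⟨j, hlen ▸ hj, Units.ext ?_⟩
    rw [← hm j (hlen ▸ hj), List.getD_eq_getElem _ _ hj, hjy]
  refine ⟨fun y hy => ?_, fun g hg h2 => ?_, fun y₁ _ y₂ _ h1 h2 hc => ?_⟩
  · obtain ⟨j, hj, rfl⟩ := hmem y hy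
    exact ⟨repEl_mem hF _, order_rep C hF hj (hr j hj)⟩
  · obtain ⟨j, hj, x, hx, hxe⟩ := exists_rep C hF hg h2
    refine ⟨_, repEl_mem hF _, ?_, x, hx, hxe⟩
    rw [← hm j hj, List.getD_eq_getElem _ _ (hlen.symm ▸ hj)]
    exact List.getElem_mem _
  · obtain ⟨j, hj, rfl⟩ := hmem y₁ h1
    obtain ⟨k, hk, rfl⟩ := hmem y₂ h2
    rw [hdist j k hj hk hc]

/-- The number of classes. -/
theorem count (C : ClassData D) (hF : Facts D) [Fintype F]
    (hr : ∀ j, j < C.reps.length →
      (((repEl hF (C.reps.getD j []) : GL D.Idx F) : Matrix D.Idx D.Idx F) - 1).rank ≠ 0)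
    (hdist : ∀ j k, j < C.reps.length → k < C.reps.length →
      CJ D F (repEl hF (C.reps.getD j [])) (repEl hF (C.reps.getD k [])) → j = k) :
    (ConjClasses.mk '' {g : ↥(D.group F) | orderOf g = 2}).ncard = C.reps.length := by
  classical
  let f : Fin C.reps.length → ConjClasses ↥(D.group F) := fun j =>
    ConjClasses.mk ⟨repEl hF (C.reps.getD j.val []), repEl_mem hF _⟩
  have himg : ConjClasses.mk '' {g : ↥(D.group F) | orderOf g = 2} = Set.range f := by
    ext q
    constructor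
    · rintro ⟨g, hg, rfl⟩
      have hg' : orderOf (g : GL D.Idx F) = 2 := by rw [Subgroup.orderOf_coe]; exact hg
      obtain ⟨j, hj, x, hx, hxe⟩ := exists_rep C hF g.2 hg'
      refine ⟨⟨j, hj⟩, (ConjClasses.mk_eq_mk_iff_isConj.2 (isConj_iff.2 ⟨⟨x, hx⟩, Subtype.ext ?_⟩)).symm⟩
      exact hxe
    · rintro ⟨j, rfl⟩
      refine ⟨⟨_, repEl_mem hF _⟩, ?_, rfl⟩
      show orderOf _ = 2
      rw [← Subgroup.orderOf_coe]
      exact order_rep C hF j.isLt (hr _ j.isLt)
  have hinj : Function.Injective f := by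
    intro j k he
    obtain ⟨x, hx⟩ := isConj_iff.1 (ConjClasses.mk_eq_mk_iff_isConj.1 he)
    exact Fin.ext (hdist _ _ j.isLt k.isLt ⟨x, x.2, congrArg Subtype.val hx⟩)
  rw [himg, Set.ncard_range_of_injective hinj, Nat.card_eq_fintype_card, Fintype.card_fin]

end Cfsg.Agent.Small.C2Inv.Cert
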