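import Cfsg.Agent.Lib.Lie.TwistPair
import Cfsg.Agent.Lib.Lie.Tits

/-!
Minimal parabolic subgroups of twisted groups and their orders.
-/

set_option autoImplicit false
set_option linter.unusedSectionVars false

namespace Cfsg.Agent.Small.C2Inv.TwPara

open Cfsg.Lie Cfsg.Agent.Lie
open scoped MatrixGroups

variable {D : ChevalleyDatum} {F : Type*} [Field F] [Finite F] {hF : Facts D}
variable {T : Twist hF F} {Os : List (List (Fin D.rank))} (X : TwData T Os)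

/-- The generator of an orbit in the twisted group. -/
noncomputable def sO (ω : {ω : List (Fin D.rank) // ω ∈ Os}) : ↥X.G1 := ⟨X.nO ω, (X.nO_spec ω).1⟩

theorem sO_mem (ω : {ω : List (Fin D.rank) // ω ∈ Os}) : sO X ω ∈ X.bnPair.S := ⟨ω, rfl⟩

theorem mem_bnB {g : ↥X.G1} : g ∈ X.bnPair.B ↔ (g : GL D.Idx F) ∈ (hF.tsys F).B := by
  show g ∈ (D.borelSubgroup F ⊓ X.G1).subgroupOf X.G1 ↔ _
  rw [Subgroup.mem_subgroupOf, hF.tsys_B]
  exact ⟨fun h => h.1, fun h => ⟨h, g.2⟩⟩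

/-- A minimal parabolic subgroup. -/
noncomputable def par (ω : {ω : List (Fin D.rank) // ω ∈ Os}) : Subgroup ↥X.G1 where
  carrier := {g | g ∈ X.bnPair.B ∨ g ∈ Tits.DC X.bnPair (sO X ω)}
  one_mem' := Or.inl (one_mem _)
  inv_mem' := by
    rintro g (hg | hg)
    · exact Or.inl (inv_mem hg)
    · right
      have h := Tits.DC_inv hg
      rwa [← Tits.DC_congr (Tits.S_inv (sO_mem X ω))] at h
  mul_mem' := by
    rintro g h (hg | hg) (hh | hh)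
    · exact Or.inl (mul_mem hg hh)
    · exact Or.inr (Tits.DC_mul_left hg hh)
    · exact Or.inr (Tits.DC_mul_right hh hg)
    · obtain ⟨x, hx, y, hy, rfl⟩ := DoubleCoset.mem_doubleCoset.1 hg
      rw [show x * sO X ω * y * h = x * (sO X ω * y * h) by group]
      rcases Tits.left_mul_DC (sO_mem X ω) (Tits.S_N (sO_mem X ω)) hy hh with h' | h'
      · left
        exact mul_mem hx ((Tits.mem_DC_iff_B (X.bnPair.sq_mem _ (sO_mem X ω))).1 h')
      · exact Or.inr (Tits.DC_mul_left hx h')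

include X in
theorem wO_ne_one (ω : {ω : List (Fin D.rank) // ω ∈ Os}) : T.wO ω.1 ≠ 1 := by
  intro h
  refine T.orbL_ne_nil X.hOs ω.2 (List.eq_nil_of_length_eq_zero ?_)
  rw [← T.invList_wO X.hOs ω.2, h, TorusSys.length_invList, RefSystem.len_one]

theorem mem_par {g u v a : GL D.Idx F} (hg : g ∈ X.G1) {w : hF.weyl} (ω : {ω : List (Fin D.rank) // ω ∈ Os})
    (hw : w = 1 ∨ w = T.wO ω.1) (hu : u ∈ (hF.tsys F).U) (huG : u ∈ X.G1) (hv : v ∈ (hF.tsys F).U)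
    (hvG : v ∈ X.G1) (ha : a ∈ (hF.tsys F).H) (he : g = u * (a * (hF.tsys F).nW w) * v) :
    (⟨g, hg⟩ : ↥X.G1) ∈ par X ω := by
  rcases hw with rfl | rfl
  · left
    rw [mem_bnB]
    show g ∈ _
    rw [he]
    exact mul_mem (mul_mem ((hF.tsys F).U_le_B hu) (mul_mem ((hF.tsys F).H_le_B ha)
      ((hF.tsys F).H_le_B (hF.tsys F).nW_one))) ((hF.tsys F).U_le_B hv)
  · right
    obtain ⟨hnG, b, hb, hne⟩ := X.nO_spec ω
    have hc : a * b⁻¹ ∈ X.G1 := by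
      have h1 : a * b⁻¹ = u⁻¹ * g * v⁻¹ * (X.nO ω)⁻¹ := by rw [he, hne]; group
      rw [h1]
      exact mul_mem (mul_mem (mul_mem (inv_mem huG) hg) (inv_mem hvG)) (inv_mem hnG)
    refine DoubleCoset.mem_doubleCoset.2 ⟨⟨u * (a * b⁻¹), mul_mem huG hc⟩, ?_, ⟨v, hvG⟩, ?_, Subtype.ext ?_⟩
    · exact (mem_bnB X).2 (mul_mem ((hF.tsys F).U_le_B hu) ((hF.tsys F).H_le_B (mul_mem ha (inv_mem hb))))
    · exact (mem_bnB X).2 ((hF.tsys F).U_le_B hv)
    · show g = u * (a * b⁻¹) * X.nO ω * v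
      rw [he, hne]; group

theorem card_par (ω : {ω : List (Fin D.rank) // ω ∈ Os}) :
    Nat.card ↥(par X ω) = Nat.card ↥(D.borelSubgroup F ⊓ X.G1) *
      (1 + Nat.card ↥((hF.tsys F).US (orbL D (ω.1.map Fin.val)) ⊓ T.fix)) := by
  classical
  obtain ⟨hnG, a, ha, hne⟩ := X.nO_spec ω
  set B1 := ↥(D.borelSubgroup F ⊓ X.G1)
  set L1 := ↥((hF.tsys F).US (orbL D (ω.1.map Fin.val)) ⊓ T.fix)
  have hinv := T.invList_wO X.hOs ω.2
  have hB : ∀ b : B1, b.1 ∈ (hF.tsys F).B := fun b => by rw [hF.tsys_B]; exact b.2.1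
  have hL : ∀ x : L1, x.1 ∈ (hF.tsys F).US (TorusSys.invList (T.wO ω.1)) ∧ x.1 ∈ X.G1 ∧ x.1 ∈ (hF.tsys F).B :=
    fun x => ⟨by rw [hinv]; exact x.2.1, X.orb_le ω.1 ω.2 x.2,
      X.inv_B (w := T.wO ω.1) (by rw [hinv]; exact x.2.1)⟩
  let f : B1 ⊕ (B1 × L1) → ↥(par X ω) := fun p => match p with
    | Sum.inl b => ⟨⟨b.1, b.2.2⟩, Or.inl ((mem_bnB X).2 (hB b))⟩
    | Sum.inr (b, x) => ⟨⟨b.1, b.2.2⟩ * sO X ω * ⟨x.1, (hL x).2.1⟩,
        Or.inr (DoubleCoset.mem_doubleCoset.2 ⟨_, (mem_bnB X).2 (hB b), _, (mem_bnB X).2 (hL x).2.2, rfl⟩)⟩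
  have hmid : ∀ b : B1, b.1 * a ∈ (hF.tsys F).B := fun b => mul_mem (hB b) ((hF.tsys F).H_le_B ha)
  have key : ∀ (b : B1) (x : L1) (c : B1), b.1 * X.nO ω * x.1 ≠ c.1 := by
    intro b x c h
    refine wO_ne_one X ω (hF.bruhat_unique (v := 1) (hmid b)
      (mul_mem (hB c) (inv_mem ((hF.tsys F).H_le_B (hF.tsys F).nW_one))) (hL x).1 (one_mem _) ?_).1
    rw [inv_mul_cancel_right, mul_one, ← h, hne]; group
  rw [mul_add, mul_one, ← Nat.card_prod, ← Nat.card_sum]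
  refine (Nat.card_eq_of_bijective f ⟨?_, ?_⟩).symm
  · rintro (b | ⟨b, x⟩) (b' | ⟨b', x'⟩) h
    · exact congrArg Sum.inl (Subtype.ext (congrArg (fun g : ↥(par X ω) => (g.1.1 : GL D.Idx F)) h))
    · exact absurd (congrArg (fun g : ↥(par X ω) => (g.1.1 : GL D.Idx F)) h).symm (key b' x' b)
    · exact absurd (congrArg (fun g : ↥(par X ω) => (g.1.1 : GL D.Idx F)) h) (key b x b')
    · have h' : b.1 * X.nO ω * x.1 = b'.1 * X.nO ω * x'.1 :=
        congrArg (fun g : ↥(par X ω) => (g.1.1 : GL D.Idx F)) h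
      obtain ⟨-, h1, h2⟩ := hF.bruhat_unique (hmid b) (hmid b') (hL x).1 (hL x').1
        (by rw [hne] at h'; simpa [mul_assoc] using h')
      obtain rfl : b = b' := Subtype.ext (mul_right_cancel h1)
      obtain rfl : x = x' := Subtype.ext h2
      rfl
  · rintro ⟨⟨g, hg⟩, hP | hP⟩
    · refine ⟨Sum.inl ⟨g, ?_, hg⟩, rfl⟩
      rw [← hF.tsys_B]; exact (mem_bnB X).1 hP
    · obtain ⟨w, hw, u, hu, huG, c, hc, hn, v, hv, hvG, he⟩ := X.decomp hg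
      have hN : (⟨c * (hF.tsys F).nW w, hn⟩ : ↥X.G1) ∈ X.bnPair.N :=
        ⟨by
          show c * (hF.tsys F).nW w ∈ D.monomialSubgroup F
          rw [← hF.tsys_N]; exact mul_mem ((hF.tsys F).H_le_N hc) ((hF.tsys F).nW_mem_N w), hn⟩
      have hmem : (⟨g, hg⟩ : ↥X.G1) ∈ Tits.DC X.bnPair ⟨c * (hF.tsys F).nW w, hn⟩ :=
        DoubleCoset.mem_doubleCoset.2 ⟨⟨u, huG⟩, (mem_bnB X).2 ((hF.tsys F).U_le_B hu), ⟨v, hvG⟩,
          (mem_bnB X).2 (X.inv_B hv), Subtype.ext he⟩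
      have hcg := Tits.Cong_of_mem (Tits.S_N (sO_mem X ω)) hN hP hmem
      have hH : (X.nO ω)⁻¹ * (c * (hF.tsys F).nW w) ∈ (hF.tsys F).H :=
        hF.B_inter_N ((mem_bnB X).1 hcg.1)
          (mul_mem (inv_mem (X.nO_mem_N ω)) (mul_mem ((hF.tsys F).H_le_N hc) ((hF.tsys F).nW_mem_N w)))
      have hH2 := (hF.tsys F).H_normal_in_N (X.nO_mem_N ω) hH
      rw [← mul_assoc, mul_inv_cancel, one_mul] at hH2
      have hwe : T.wO ω.1 = w := hF.nW_eq_of_mul (F := F) (mul_mem hH2 ha) hc (by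
        rw [mul_assoc, ← hne, inv_mul_cancel_right])
      subst hwe
      have hca : c * a⁻¹ ∈ X.G1 := by
        rw [show c * a⁻¹ = c * (hF.tsys F).nW (T.wO ω.1) * (a * (hF.tsys F).nW (T.wO ω.1))⁻¹ by group]
        exact mul_mem hn (inv_mem (hne ▸ hnG))
      refine ⟨Sum.inr (⟨u * (c * a⁻¹), ?_, mul_mem huG hca⟩, ⟨v, by rw [← hinv]; exact ⟨hv, X.le_fix hvG⟩⟩), ?_⟩
      · rw [← hF.tsys_B]
        exact mul_mem ((hF.tsys F).U_le_B hu) ((hF.tsys F).H_le_B (mul_mem hc (inv_mem ha)))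
      · apply Subtype.ext; apply Subtype.ext
        show u * (c * a⁻¹) * X.nO ω * v = g
        rw [he, hne]; group

end Cfsg.Agent.Small.C2Inv.TwPara
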