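import Cfsg.Agent.Lib.Lie.TwistF4W
import Mathlib.GroupTheory.SpecificGroups.Alternating
import Mathlib.GroupTheory.Sylow

/-!
No element of ²F₄ of 3-power order induces an automorphism of order 3 of a 7-subgroup.
-/

set_option autoImplicit false
set_option maxRecDepth 4000
set_option linter.unusedSectionVars false

namespace Cfsg.Agent.Small.AltSection

open Cfsg.Lie Cfsg.Agent.Lie
open scoped MatrixGroups

/-- An automorphism of order dividing 3 without eigenvalues 2 and 4 is trivial in exponent 7. -/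
theorem three_seven {P : Type*} [CommGroup P] (f : P →* P) {x : P} (hx : x ^ 7 = 1) (h3 : f (f (f x)) = x)
    (hno : ∀ z : P, z ^ 7 = 1 → (f z = z ^ 2 ∨ f z = z ^ 4) → z = 1) : f x = x := by
  have e1 : (f x) ^ 7 = 1 := by rw [← map_pow, hx, map_one]
  have e2 : (f (f x)) ^ 7 = 1 := by rw [← map_pow, e1, map_one]
  have hp : ∀ {y : P} {n : ℕ}, y ^ 7 = 1 → (y ^ n) ^ 7 = 1 := fun hy => by
    rw [← pow_mul, mul_comm, pow_mul, hy, one_pow]
  have hz : f (f x) * (f x) ^ 2 * x ^ 4 = 1 := by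
    refine hno _ (by rw [mul_pow, mul_pow, hp e1, hp hx, e2, one_mul, one_mul]) (Or.inl ?_)
    rw [map_mul, map_mul, map_pow, map_pow, h3]
    calc x * f (f x) ^ 2 * f x ^ 4 = x * f (f x) ^ 2 * f x ^ 4 * x ^ 7 := by rw [hx, mul_one]
      _ = f (f x) ^ 2 * f x ^ 4 * x ^ 8 := by rw [pow_succ' x 7]; ac_rfl
      _ = _ := by rw [mul_pow, mul_pow, ← pow_mul, ← pow_mul]
  have hz' : f (f x) * (f x) ^ 4 * x ^ 2 = 1 := by
    refine hno _ (by rw [mul_pow, mul_pow, hp e1, hp hx, e2, one_mul, one_mul]) (Or.inr ?_)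
    rw [map_mul, map_mul, map_pow, map_pow, h3]
    calc x * f (f x) ^ 4 * f x ^ 2 = x * f (f x) ^ 4 * f x ^ 2 * ((f x) ^ 7) ^ 2 * x ^ 7 := by
          rw [hx, e1, one_pow, mul_one, mul_one]
      _ = f (f x) ^ 4 * f x ^ 16 * x ^ 8 := by
          rw [pow_succ' x 7, ← pow_mul, show (f x) ^ 16 = f x ^ 2 * f x ^ (7 * 2) by rw [← pow_add]]; ac_rfl
      _ = _ := by rw [mul_pow, mul_pow, ← pow_mul, ← pow_mul]
  have h : f (f x) * (f x) ^ 2 * x ^ 2 * x ^ 2 = f (f x) * (f x) ^ 2 * x ^ 2 * (f x) ^ 2 := by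
    calc _ = f (f x) * (f x) ^ 2 * x ^ 4 := by rw [mul_assoc _ (x ^ 2), ← pow_add]
      _ = f (f x) * (f x) ^ 4 * x ^ 2 := hz.trans hz'.symm
      _ = _ := by rw [show (f x) ^ 4 = f x ^ 2 * f x ^ 2 by rw [← pow_add]]; ac_rfl
  have h2 := mul_left_cancel h
  calc f x = f x * ((f x) ^ 7) := by rw [e1, mul_one]
    _ = ((f x) ^ 2) ^ 4 := by rw [← pow_mul, ← pow_succ']
    _ = (x ^ 2) ^ 4 := by rw [h2]
    _ = x := by rw [← pow_mul, pow_succ, hx, one_mul]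

theorem fix_of_three {P : Type*} [CommGroup P] (hP : IsPGroup 7 P) : ∀ (k : ℕ) (f : P →* P),
    (∀ x : P, (fun y => f y)^[3 ^ k] x = x) →
    (∀ n : ℕ, ∀ z : P, z ^ 7 = 1 → ((fun y => f y)^[n] z = z ^ 2 ∨ (fun y => f y)^[n] z = z ^ 4) → z = 1) →
    ∀ x : P, f x = x
  | 0, f, hf, _ => fun x => by simpa using hf x
  | k + 1, f, hf, hno => by
    let g : P →* P := (f.comp f).comp f
    have hg : ∀ n : ℕ, ∀ x, (fun y => g y)^[n] x = (fun y => f y)^[3 * n] x := fun n x => by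
      rw [Function.iterate_mul]; rfl
    have h3 := fix_of_three hP k g (fun x => by rw [hg, ← pow_succ']; exact hf x)
      (fun n z h7 h => hno (3 * n) z h7 (by rwa [hg] at h))
    have key : ∀ x : P, x ^ 7 = 1 → f x = x := fun x hx =>
      three_seven f hx (h3 x) fun z hz h => hno 1 z hz h
    suffices h : ∀ j : ℕ, ∀ x : P, x ^ 7 ^ j = 1 → f x = x by
      intro x
      obtain ⟨j, hj⟩ := hP x
      exact h j x hj
    intro j
    induction j with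
    | zero => intro x hx; rw [pow_zero, pow_one] at hx; rw [hx, map_one]
    | succ j ih =>
      intro x hx
      have h7 : f (x ^ 7) = x ^ 7 := ih _ (by rw [← pow_mul, ← pow_succ']; exact hx)
      obtain ⟨c, hc, hfx⟩ : ∃ c : P, c ^ 7 = 1 ∧ f x = x * c :=
        ⟨x⁻¹ * f x, by rw [mul_pow, ← map_pow, h7, inv_pow, inv_mul_cancel], by rw [mul_inv_cancel_left]⟩
      have hfc : f c = c := key c hc
      have e := h3 x
      simp only [g, MonoidHom.coe_comp, Function.comp_apply, hfx, map_mul, hfc] at e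
      have hc3 : c ^ 3 = 1 := by
        rw [mul_assoc, mul_assoc, mul_eq_left] at e
        rw [pow_succ, pow_two, mul_assoc]; exact e
      have : c = 1 := by
        calc c = c * (c ^ 3) ^ 2 := by rw [hc3, one_pow, mul_one]
          _ = c ^ 7 := by rw [← pow_mul, ← pow_succ']
          _ = 1 := hc
      rw [hfx, this, mul_one]

section F4

variable {K : Type*} [Field K] [Fintype K] {m : ℕ} (S : F4.Setup K m)

include S in
theorem torus_comm {x y : GL chevF4.Idx K} (hx : x ∈ (factsF4.tsys K).H) (hxG : x ∈ twistedF4 K (2 ^ m))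
    (hy : y ∈ (factsF4.tsys K).H) (hyG : y ∈ twistedF4 K (2 ^ m)) : x * y = y * x := by
  rw [factsF4.tsys_H] at hx hy
  obtain ⟨t, u, rfl⟩ := S.exists_crd hx (S.le_fix hxG)
  obtain ⟨t', u', rfl⟩ := S.exists_crd hy (S.le_fix hyG)
  rw [← map_mul, mul_comm, map_mul]

include S in
theorem fusion {g x x' : GL chevF4.Idx K} (hg : g ∈ twistedF4 K (2 ^ m)) (hx : x ∈ (factsF4.tsys K).H)
    (hxG : x ∈ twistedF4 K (2 ^ m)) (hx' : x' ∈ (factsF4.tsys K).H) (hxG' : x' ∈ twistedF4 K (2 ^ m))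
    (he : g * x * g⁻¹ = x') :
    ∃ n ∈ chevF4.monomialSubgroup K ⊓ twistedF4 K (2 ^ m), n * x * n⁻¹ = x' := by
  obtain ⟨w, hw, u, hu, huG, a, ha, hn, v, hv, hvG, rfl⟩ := S.data.decomp hg
  refine ⟨a * (factsF4.tsys K).nW w, ⟨?_, hn⟩, ?_⟩
  · rw [← factsF4.tsys_N]; exact mul_mem ((factsF4.tsys K).H_le_N ha) ((factsF4.tsys K).nW_mem_N w)
  rw [mul_inv_eq_iff_eq_mul] at he
  have hW := (factsF4.tsys K).nW_H (w := w) hx
  have hv' : x⁻¹ * v * x ∈ (factsF4.tsys K).US (TorusSys.invList w) := by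
    have := (factsF4.tsys K).H_conj_US (inv_mem hx) (fun r hr => ((TorusSys.closed_invList w).mem_pos r hr).2) hv
    simpa using this
  have hu' : x' * u * x'⁻¹ ∈ (factsF4.tsys K).U := (factsF4.tsys K).H_conj_US hx' TorusSys.posL_lt hu
  obtain ⟨-, hb, -⟩ := factsF4.bruhat_unique
    (b := u * (a * ((factsF4.tsys K).nW w * x * ((factsF4.tsys K).nW w)⁻¹))) (b' := x' * u * x'⁻¹ * (x' * a))
    (mul_mem ((factsF4.tsys K).U_le_B hu) ((factsF4.tsys K).H_le_B (mul_mem ha hW)))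
    (mul_mem ((factsF4.tsys K).U_le_B hu') ((factsF4.tsys K).H_le_B (mul_mem hx' ha))) hv' hv
    (calc u * (a * ((factsF4.tsys K).nW w * x * ((factsF4.tsys K).nW w)⁻¹)) * (factsF4.tsys K).nW w * (x⁻¹ * v * x)
          = u * (a * (factsF4.tsys K).nW w) * v * x := by group
        _ = x' * (u * (a * (factsF4.tsys K).nW w) * v) := he
        _ = _ := by group)
  have h1 : u⁻¹ * (x' * u * x'⁻¹) = a * ((factsF4.tsys K).nW w * x * ((factsF4.tsys K).nW w)⁻¹) * (x' * a)⁻¹ := by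
    rw [show x' * u * x'⁻¹ = x' * u * x'⁻¹ * (x' * a) * (x' * a)⁻¹ by group, ← hb]
    group
  have h2 := factsF4.U_inter_H (mul_mem (inv_mem hu) hu') (h1 ▸ mul_mem (mul_mem ha hW) (inv_mem (mul_mem hx' ha)))
  rw [h1, mul_inv_eq_one] at h2
  calc a * (factsF4.tsys K).nW w * x * (a * (factsF4.tsys K).nW w)⁻¹
      = a * ((factsF4.tsys K).nW w * x * ((factsF4.tsys K).nW w)⁻¹) * a⁻¹ := by group
    _ = x' := by rw [h2]; group

include S in
theorem no_eigen {g x : GL chevF4.Idx K} (hg : g ∈ twistedF4 K (2 ^ m)) (hx : x ∈ (factsF4.tsys K).H)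
    (hxG : x ∈ twistedF4 K (2 ^ m)) (h7 : x ^ 7 = 1) {i : ℕ} (hi : i = 2 ∨ i = 4)
    (he : g * x * g⁻¹ = x ^ i) : x = 1 := by
  obtain ⟨n, hn, hne⟩ := fusion S hg hx hxG (pow_mem hx i) (pow_mem hxG i) he
  obtain ⟨φ, -, hker⟩ := S.exists_weyl_hom
  obtain ⟨N1, hN1⟩ : ∃ N1 : ↥(chevF4.monomialSubgroup K ⊓ twistedF4 K (2 ^ m)), N1 = ⟨n, hn⟩ := ⟨_, rfl⟩
  have h16 : N1 ^ 16 ∈ φ.ker := by
    rw [MonoidHom.mem_ker, map_pow, show (16 : ℕ) = Nat.card (DihedralGroup 8) by rw [DihedralGroup.nat_card],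
      pow_card_eq_one']
  rw [hker, Subgroup.mem_subgroupOf, SubgroupClass.coe_pow, hN1] at h16
  have hH : n ^ 16 ∈ (factsF4.tsys K).H := by rw [factsF4.tsys_H]; exact h16.1
  have key : ∀ k : ℕ, n ^ k * x * (n ^ k)⁻¹ = x ^ i ^ k := by
    intro k
    induction k with
    | zero => simp
    | succ k ih =>
      rw [pow_succ' n, show n * n ^ k * x * (n * n ^ k)⁻¹ = n * (n ^ k * x * (n ^ k)⁻¹) * n⁻¹ by group, ih,
        ← conj_pow, hne, ← pow_mul, pow_succ']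
  have h := key 16
  rw [torus_comm S hH (pow_mem hn.2 16) hx hxG, mul_inv_cancel_right] at h
  have h7' : ∀ j : ℕ, x ^ j = x ^ (j % 7) := fun j => pow_eq_pow_mod j h7
  rw [h7' (i ^ 16)] at h
  rcases hi with rfl | rfl <;> norm_num at h
  · exact mul_eq_left.1 ((pow_two x).symm.trans h.symm)
  · have h4 : x ^ 3 = 1 := by
      refine mul_left_cancel (a := x) ?_
      rw [mul_one, ← pow_succ']
      exact h.symm
    calc x = x * (x ^ 3) ^ 2 := by rw [h4, one_pow, mul_one]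
      _ = x ^ 7 := by rw [← pow_mul, ← pow_succ']
      _ = 1 := h7

/-- The twisted torus inside the twisted group. -/
def tor (_ : F4.Setup K m) : Subgroup ↥(twistedF4 K (2 ^ m)) :=
  ((chevF4.diagonalSubgroup K) ⊓ twistedF4 K (2 ^ m)).subgroupOf (twistedF4 K (2 ^ m))

include S in
theorem sylow_le_tor (P : Subgroup ↥(twistedF4 K (2 ^ m))) (hP : IsPGroup 7 P) :
    ∃ c : ↥(twistedF4 K (2 ^ m)), ∀ y ∈ P, c * y * c⁻¹ ∈ tor S := by
  haveI : Fact (Nat.Prime 7) := ⟨by norm_num⟩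
  have hTc : Nat.card ↥(tor S) = (2 ^ (2 * m + 1) - 1) ^ 2 := by
    rw [tor, Nat.card_congr (Subgroup.subgroupOfEquivOfLe inf_le_right).toEquiv, S.card_H]
  have hG : Nat.card ↥(twistedF4 K (2 ^ m)) = (2 ^ (2 * m + 1) - 1) ^ 2 * ((2 ^ (2 * m + 1)) ^ 12 *
      (((2 ^ (2 * m + 1)) ^ 3 + 1) * (2 ^ (2 * m + 1) + 1) * ((2 ^ (2 * m + 1)) ^ 2 + 1) * ((2 ^ (2 * m + 1)) ^ 6 + 1))) := by
    rw [S.card_group]
    generalize 2 ^ (2 * m + 1) = q
    rcases q with _ | n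
    · simp
    rw [show (n + 1) ^ 4 - 1 = n * (n + 2) * ((n + 1) ^ 2 + 1) by
      rw [show (n + 1) ^ 4 = n * (n + 2) * ((n + 1) ^ 2 + 1) + 1 by ring, Nat.add_sub_cancel]]
    simp only [Nat.add_sub_cancel]
    ring
  have hq : ∀ j : ℕ, 2 ^ j % 7 = 1 ∨ 2 ^ j % 7 = 2 ∨ 2 ^ j % 7 = 4 := by
    intro j
    induction j with
    | zero => simp
    | succ j ih => rw [pow_succ, Nat.mul_mod]; rcases ih with h | h | h <;> simp [h]
  have hnd : ¬ 7 ∣ (tor S).index := by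
    have := (tor S).card_mul_index
    rw [hTc, hG] at this
    have h1 : 1 < 2 ^ (2 * m + 1) := Nat.one_lt_two_pow (by omega)
    rw [mul_left_cancel₀ (pow_ne_zero _ (by omega)) this]
    have h := hq (2 * m + 1)
    generalize 2 ^ (2 * m + 1) = q at h
    rw [Nat.dvd_iff_mod_eq_zero]
    rcases h with h | h | h <;> simp [Nat.mul_mod, Nat.add_mod, Nat.pow_mod, h]
  obtain ⟨T7⟩ : Nonempty (Sylow 7 ↥(tor S)) := inferInstance
  have hR : IsPGroup 7 ↥((T7 : Subgroup ↥(tor S)).map (tor S).subtype) := T7.2.map _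
  have hidx : ¬ 7 ∣ ((T7 : Subgroup ↥(tor S)).map (tor S).subtype).index := by
    rw [Subgroup.index_map_subtype]
    intro h
    rcases (Nat.Prime.dvd_mul (by norm_num)).1 h with h | h
    · exact T7.not_dvd_index h
    · exact hnd h
  obtain ⟨Q, hQ⟩ := hP.exists_le_sylow
  obtain ⟨c, hc⟩ := MulAction.exists_smul_eq ↥(twistedF4 K (2 ^ m)) Q (hR.toSylow hidx)
  refine ⟨c, fun y hy => ?_⟩
  have h1 : c * y * c⁻¹ ∈ ((c • Q : Sylow 7 ↥(twistedF4 K (2 ^ m))) : Subgroup ↥(twistedF4 K (2 ^ m))) := by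
    rw [Sylow.coe_subgroup_smul]
    exact Subgroup.mem_map.2 ⟨y, hQ hy, rfl⟩
  rw [hc] at h1
  obtain ⟨z, -, hz⟩ := Subgroup.mem_map.1 h1
  rw [← hz]
  exact z.2

include S in
/-- A 3-element normalising a 7-subgroup centralises it. -/
theorem three_centralises {P : Subgroup ↥(twistedF4 K (2 ^ m))} (hP : IsPGroup 7 P) {t : ↥(twistedF4 K (2 ^ m))}
    {k : ℕ} (ht : t ^ 3 ^ k = 1) (hn : ∀ y ∈ P, t * y * t⁻¹ ∈ P) : ∀ y ∈ P, t * y = y * t := by
  obtain ⟨c, hc⟩ := sylow_le_tor S P hP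
  have hcomm : ∀ a ∈ P, ∀ b ∈ P, a * b = b * a := by
    intro a ha b hb
    have h1 := Subgroup.mem_subgroupOf.1 (hc a ha)
    have h2 := Subgroup.mem_subgroupOf.1 (hc b hb)
    have h : (c * a * c⁻¹) * (c * b * c⁻¹) = (c * b * c⁻¹) * (c * a * c⁻¹) := Subtype.ext (torus_comm S
      (by rw [factsF4.tsys_H]; exact h1.1) h1.2 (by rw [factsF4.tsys_H]; exact h2.1) h2.2)
    rw [show c * a * c⁻¹ * (c * b * c⁻¹) = c * (a * b) * c⁻¹ by group,
      show c * b * c⁻¹ * (c * a * c⁻¹) = c * (b * a) * c⁻¹ by group] at h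
    exact mul_left_cancel (mul_right_cancel h)
  letI : CommGroup ↥P := { (inferInstance : Group ↥P) with mul_comm := fun a b => Subtype.ext (hcomm _ a.2 _ b.2) }
  let f : ↥P →* ↥P := MonoidHom.mk' (fun y => ⟨t * y * t⁻¹, hn _ y.2⟩) fun a b => Subtype.ext (by
    show t * (a.1 * b.1) * t⁻¹ = t * a.1 * t⁻¹ * (t * b.1 * t⁻¹); group)
  have hit : ∀ (n : ℕ) (y : ↥P), (((fun z => f z)^[n] y : ↥P) : ↥(twistedF4 K (2 ^ m))) = t ^ n * y * (t ^ n)⁻¹ := by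
    intro n
    induction n with
    | zero => simp
    | succ n ih =>
      intro y
      rw [Function.iterate_succ_apply', pow_succ']
      show t * _ * t⁻¹ = _
      rw [ih]; group
  intro y hy
  have h := fix_of_three hP k f (fun x => Subtype.ext (by rw [hit, ht]; simp)) (fun n z h7 h => ?_) ⟨y, hy⟩
  · have e : t * y * t⁻¹ = y := congrArg Subtype.val h
    exact mul_inv_eq_iff_eq_mul.1 e
  · obtain ⟨i, hi, he⟩ : ∃ i, (i = 2 ∨ i = 4) ∧ (fun z => f z)^[n] z = z ^ i :=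
      h.elim (fun h => ⟨2, Or.inl rfl, h⟩) fun h => ⟨4, Or.inr rfl, h⟩
    have he' := congrArg Subtype.val he
    rw [hit, SubgroupClass.coe_pow] at he'
    have h7' : (z : ↥(twistedF4 K (2 ^ m))) ^ 7 = 1 := by rw [← SubgroupClass.coe_pow, h7]; rfl
    have h1 := Subgroup.mem_subgroupOf.1 (hc z z.2)
    have h2 : (c * z * c⁻¹ : ↥(twistedF4 K (2 ^ m))) = 1 := by
      have hconj : (c * t ^ n * c⁻¹) * (c * z * c⁻¹) * (c * t ^ n * c⁻¹)⁻¹ = (c * z * c⁻¹) ^ i := by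
        rw [conj_pow, ← he']; group
      have h7c : (c * z * c⁻¹ : ↥(twistedF4 K (2 ^ m))) ^ 7 = 1 := by rw [conj_pow, h7']; simp
      exact Subtype.ext (no_eigen S (c * t ^ n * c⁻¹).2 (by rw [factsF4.tsys_H]; exact h1.1) h1.2
        (congrArg Subtype.val h7c) hi (congrArg Subtype.val hconj))
    exact Subtype.ext (conj_eq_one_iff.1 h2)

end F4

theorem seven_three : ∃ σ τ : Equiv.Perm (Fin 7), Equiv.Perm.sign σ = 1 ∧ Equiv.Perm.sign τ = 1 ∧
    σ ^ 7 = 1 ∧ σ ≠ 1 ∧ τ ^ 3 = 1 ∧ τ * σ * τ⁻¹ = σ ^ 2 := by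
  refine ⟨c[0, 1, 2, 3, 4, 5, 6], c[1, 2, 4] * c[3, 6, 5], ?_⟩
  decide +kernel

theorem alt_frob {r : ℕ} (hr : 7 ≤ r) : ∃ σ τ : ↥(alternatingGroup (Fin r)),
    σ ^ 7 = 1 ∧ σ ≠ 1 ∧ τ ^ 3 = 1 ∧ τ * σ * τ⁻¹ = σ ^ 2 := by
  obtain ⟨σ, τ, h1, h2, h3, h4, h5, h6⟩ := seven_three
  let ι := Equiv.Perm.viaEmbeddingHom (Fin.castLEEmb hr)
  have hs : ∀ p, Equiv.Perm.sign (ι p) = Equiv.Perm.sign p := fun p => by
    show Equiv.Perm.sign (Equiv.Perm.viaEmbedding p _) = _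
    rw [Equiv.Perm.viaEmbedding, Equiv.Perm.sign_extendDomain]
  refine ⟨⟨ι σ, Equiv.Perm.mem_alternatingGroup.2 (by rw [hs, h1])⟩,
    ⟨ι τ, Equiv.Perm.mem_alternatingGroup.2 (by rw [hs, h2])⟩, Subtype.ext ?_, fun h => h4 ?_, Subtype.ext ?_,
    Subtype.ext ?_⟩
  · show ι σ ^ 7 = 1; rw [← map_pow, h3, map_one]
  · exact Equiv.Perm.viaEmbeddingHom_injective _ ((congrArg Subtype.val h).trans (map_one ι).symm)
  · show ι τ ^ 3 = 1; rw [← map_pow, h5, map_one]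
  · show ι τ * ι σ * (ι τ)⁻¹ = ι σ ^ 2; rw [← map_inv, ← map_mul, ← map_mul, h6, map_pow]

theorem no_frob {G : Type*} [Group G] [Finite G] {A : Type*} [Group A] (H : Subgroup G) (π : ↥H →* A)
    (hπ : Function.Surjective π) {σ τ : A} (hs : σ ^ 7 = 1) (hs1 : σ ≠ 1) (ht : τ ^ 3 = 1)
    (hts : τ * σ * τ⁻¹ = σ ^ 2)
    (key : ∀ P : Subgroup G, IsPGroup 7 P → ∀ (t : G) (k : ℕ), t ^ 3 ^ k = 1 → (∀ y ∈ P, t * y * t⁻¹ ∈ P) →
      ∀ y ∈ P, t * y = y * t) : False := by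
  classical
  haveI : Fact (Nat.Prime 7) := ⟨by norm_num⟩
  set L : Subgroup ↥H := (Subgroup.zpowers σ).comap π with hL
  obtain ⟨t0, ht0⟩ := hπ τ
  obtain ⟨P⟩ : Nonempty (Sylow 7 ↥L) := inferInstance
  have hLn : ∀ y : ↥H, y ∈ L → t0 * y * t0⁻¹ ∈ L := fun y hy => by
    obtain ⟨j, hj⟩ := Subgroup.mem_zpowers_iff.1 (show π y ∈ Subgroup.zpowers σ from hy)
    show π (t0 * y * t0⁻¹) ∈ Subgroup.zpowers σ
    rw [map_mul, map_mul, map_inv, ht0, ← hj, ← conj_zpow, hts, ← zpow_natCast, ← zpow_mul]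
    exact Subgroup.zpow_mem_zpowers _ _
  let cn : ↥L →* ↥L := MonoidHom.mk' (fun y => ⟨t0 * y * t0⁻¹, hLn _ y.2⟩) fun a b => Subtype.ext (by
    show t0 * (a.1 * b.1) * t0⁻¹ = t0 * a.1 * t0⁻¹ * (t0 * b.1 * t0⁻¹); group)
  have hcn : Function.Injective cn := fun a b h => by
    have h' : t0 * a.1 * t0⁻¹ = t0 * b.1 * t0⁻¹ := congrArg Subtype.val h
    exact Subtype.ext (by simpa using h')
  let P' : Sylow 7 ↥L := Sylow.ofCard ((P : Subgroup ↥L).map cn) (by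
    rw [← Nat.card_congr (Subgroup.equivMapOfInjective _ cn hcn).toEquiv, Sylow.card_eq_multiplicity])
  obtain ⟨l, hl⟩ := MulAction.exists_smul_eq ↥L P' P
  set t1 : ↥H := l * t0 with ht1
  obtain ⟨j, hj⟩ := Subgroup.mem_zpowers_iff.1 (show π (l : ↥H) ∈ Subgroup.zpowers σ from l.2)
  have hπt : π t1 = σ ^ j * τ := by rw [ht1, map_mul, ← hj, ht0]
  set P0 : Subgroup G := ((P : Subgroup ↥L).map L.subtype).map H.subtype with hP0
  have hn1 : ∀ y ∈ P0, (t1 : G) * y * (t1 : G)⁻¹ ∈ P0 := by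
    rintro _ ⟨y1, ⟨y, hy, rfl⟩, rfl⟩
    refine ⟨t1 * y * t1⁻¹, ⟨l * cn y * l⁻¹, ?_, ?_⟩, rfl⟩
    · have h1 : l * cn y * l⁻¹ ∈ ((l • P' : Sylow 7 ↥L) : Subgroup ↥L) := by
        rw [Sylow.coe_subgroup_smul]
        exact Subgroup.mem_map.2 ⟨cn y, Subgroup.mem_map.2 ⟨y, hy, rfl⟩, rfl⟩
      rwa [hl] at h1
    · show (l : ↥H) * (t0 * y * t0⁻¹) * (l : ↥H)⁻¹ = t1 * y * t1⁻¹
      rw [ht1]; group
  -- the image of σ
  obtain ⟨a, ha, haσ⟩ : ∃ a ∈ (P : Subgroup ↥L), π (a : ↥H) = σ := by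
    have hσo : orderOf σ = 7 := orderOf_eq_prime hs hs1
    let ψ : ↥L →* ↥(Subgroup.zpowers σ) := (π.comp L.subtype).codRestrict _ fun y => y.2
    have hψ : Function.Surjective ψ := by
      rintro ⟨y, hy⟩
      obtain ⟨z, rfl⟩ := hπ y
      exact ⟨⟨z, hy⟩, rfl⟩
    haveI : Finite ↥(Subgroup.zpowers σ) := Finite.of_surjective ψ hψ
    have hz : IsPGroup 7 ↥(Subgroup.zpowers σ) := IsPGroup.of_card (n := 1) (by rw [Nat.card_zpowers, hσo, pow_one])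
    have htop : (P : Subgroup ↥L).map ψ = ⊤ := by
      rw [← Subgroup.index_eq_one]
      have hdvd : ((P : Subgroup ↥L).map ψ).index ∣ (P : Subgroup ↥L).index := Subgroup.index_map_dvd _ hψ
      obtain ⟨n, hn⟩ := hz.index ((P : Subgroup ↥L).map ψ)
      rcases Nat.eq_zero_or_pos n with rfl | hn0
      · simpa using hn
      · exact absurd ((dvd_pow_self 7 hn0.ne').trans (hn ▸ hdvd)) P.not_dvd_index
    obtain ⟨a, ha, hae⟩ := Subgroup.mem_map.1 (show (⟨σ, Subgroup.mem_zpowers σ⟩ : ↥(Subgroup.zpowers σ)) ∈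
      (P : Subgroup ↥L).map ψ by rw [htop]; exact Subgroup.mem_top _)
    exact ⟨a, ha, congrArg Subtype.val hae⟩
  -- a power of t1 of 3-power order
  obtain ⟨e, k, he, hek⟩ : ∃ e k : ℕ, ¬ 3 ∣ e ∧ orderOf t1 = 3 ^ k * e := by
    refine ⟨orderOf t1 / 3 ^ (orderOf t1).factorization 3, (orderOf t1).factorization 3,
      Nat.not_dvd_ordCompl (by norm_num) (orderOf_pos t1).ne', (Nat.ordProj_mul_ordCompl_eq_self _ 3).symm⟩
  set t : G := ((t1 ^ e : ↥H) : G) with ht'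
  have htk : t ^ 3 ^ k = 1 := by
    rw [ht', ← SubgroupClass.coe_pow, ← pow_mul, mul_comm e, ← hek, pow_orderOf_eq_one]; rfl
  have hnt : ∀ i : ℕ, ∀ y ∈ P0, ((t1 : G) ^ i) * y * ((t1 : G) ^ i)⁻¹ ∈ P0 := by
    intro i
    induction i with
    | zero => simp
    | succ i ih =>
      intro y hy
      rw [pow_succ', show (t1 : G) * (t1 : G) ^ i * y * ((t1 : G) * (t1 : G) ^ i)⁻¹ =
        (t1 : G) * ((t1 : G) ^ i * y * ((t1 : G) ^ i)⁻¹) * (t1 : G)⁻¹ by group]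
      exact hn1 _ (ih y hy)
  have hc := key P0 ((P.2.map _).map _) t k htk
    (fun y hy => by rw [ht', SubgroupClass.coe_pow]; exact hnt e y hy) ((a : ↥H) : G)
    ⟨a, ⟨a, ha, rfl⟩, rfl⟩
  have hc' : t1 ^ e * a * (t1 ^ e)⁻¹ = a := by
    rw [mul_inv_eq_iff_eq_mul]; exact Subtype.ext hc
  have hc2 := congrArg π hc'
  rw [map_mul, map_mul, map_inv, map_pow, haσ, hπt] at hc2
  have hconj : ∀ i : ℕ, (σ ^ j * τ) ^ i * σ * ((σ ^ j * τ) ^ i)⁻¹ = σ ^ 2 ^ i := by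
    intro i
    induction i with
    | zero => simp
    | succ i ih =>
      have gen : ∀ u g : A, u * τ * g * σ * (u * τ * g)⁻¹ = u * (τ * (g * σ * g⁻¹) * τ⁻¹) * u⁻¹ := fun u g => by group
      rw [pow_succ' (σ ^ j * τ), gen, ih, ← conj_pow, hts, ← pow_mul, pow_succ',
        ((Commute.refl σ).zpow_left j).pow_right (2 * 2 ^ i) |>.eq, mul_inv_cancel_right]
  rw [hconj] at hc2
  have h7 : σ ^ (2 ^ e % 7) = σ := (pow_eq_pow_mod (2 ^ e) hs).symm.trans hc2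
  have hσo : orderOf σ = 7 := orderOf_eq_prime hs hs1
  have h8 : 2 ^ e % 7 = 1 := by
    refine pow_injOn_Iio_orderOf (x := σ) ?_ ?_ (by simpa using h7) <;>
      simp only [Set.mem_Iio, hσo] <;> omega
  rw [← Nat.div_add_mod e 3, pow_add, pow_mul, Nat.mul_mod, Nat.pow_mod] at h8
  norm_num at h8
  have : e % 3 = 1 ∨ e % 3 = 2 := by omega
  rcases this with h | h <;> rw [h] at h8 <;> norm_num at h8

/-- Alternating sections of ²F₄(q) have degree at most six. -/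
theorem alt_section_le {K : Type*} [Field K] [Fintype K] {m : ℕ} (S : F4.Setup K m) (r : ℕ)
    (H : Subgroup ↥(twistedF4 K (2 ^ m))) (N : Subgroup ↥H) [N.Normal]
    (e : ↥H ⧸ N ≃* ↥(alternatingGroup (Fin r))) : r ≤ 6 := by
  by_contra hc
  obtain ⟨σ, τ, h1, h2, h3, h4⟩ := alt_frob (r := r) (by omega)
  exact no_frob H (e.toMonoidHom.comp (QuotientGroup.mk' N))
    (e.surjective.comp (QuotientGroup.mk'_surjective N)) h1 h2 h3 h4
    fun P hP t k ht hn => three_centralises S hP ht hn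

end Cfsg.Agent.Small.AltSection
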