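import Cfsg.Agent.Lib.Small.Char2Invol.Check

/-!
A cheaper check of the rows of odd commutator terms, from a copy of the chain table.
-/

set_option autoImplicit false

namespace Cfsg.Agent.Small.C2Inv.Cert

open Cfsg.Lie Cfsg.Agent.Lie

/-- A copy of the chain table. -/
abbrev ChTree := Tr (List (ℕ × List (ℕ × ℤ)))

/-- The chain entry from the copy. -/
def entC (D : ChevalleyDatum) (n : ℕ) (ch : ChTree) (r s : ℕ) : List (ℕ × ℤ) :=
  if Nat.ble (r + 1) n then
    match (ch.get r).find? (fun e => Nat.beq e.1 s) with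
    | none => []
    | some e => e.2
  else D.chainEntry r s

/-- Root of a chain entry. -/
def rootC (ent : ℕ → ℕ → List (ℕ × ℤ)) (r s i : ℕ) : Option ℕ := ((ent r s)[i - 1]?).map Prod.fst

/-- Coefficient of a chain entry. -/
def coefC (ent : ℕ → ℕ → List (ℕ × ℤ)) (r s i : ℕ) : ℤ := (((ent r s)[i - 1]?).map Prod.snd).getD 0

/-- The commutator terms from an entry function. -/
def termsC (ent : ℕ → ℕ → List (ℕ × ℤ)) (r s : ℕ) : List (ℕ × ℤ × ℕ × ℕ) :=
  let rs := rootC ent r s 1
  let cands : List (Option ℕ × ℤ × ℕ × ℕ) :=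
    [ (rootC ent r s 1, coefC ent r s 1, 1, 1),
      (rootC ent r s 2, coefC ent r s 2, 2, 1),
      (rootC ent s r 2, coefC ent s r 2, 1, 2),
      (rootC ent r s 3, coefC ent r s 3, 3, 1),
      (rootC ent s r 3, - coefC ent s r 3, 1, 3),
      ((rootC ent r s 3).bind fun k => rootC ent k s 1, (rs.map fun k => coefC ent k r 2 / 3).getD 0, 3, 2),
      ((rootC ent s r 3).bind fun k => rootC ent k r 1, (rs.map fun k => -2 * coefC ent k s 2 / 3).getD 0, 2, 3) ]
  cands.filterMap fun c => c.1.map fun k => (k, c.2)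

theorem termsC_self (D : ChevalleyDatum) (r s : ℕ) : termsC D.chainEntry r s = D.commTerms r s := rfl

/-- The terms, with a shortcut for chains of length one. -/
def termsS (ent : ℕ → ℕ → List (ℕ × ℤ)) (r s : ℕ) : List (ℕ × ℤ × ℕ × ℕ) :=
  match ent r s, ent s r with
  | [e], [_] => [(e.1, e.2, 1, 1)]
  | _, _ => termsC ent r s

theorem termsS_eq (ent : ℕ → ℕ → List (ℕ × ℤ)) (r s : ℕ) : termsS ent r s = termsC ent r s := by
  unfold termsS
  split
  next e e' h1 h2 => simp [termsC, rootC, coefC, h1, h2]
  next => rfl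

/-- The copy agrees with the table. -/
def copyOk (D : ChevalleyDatum) (ch : ChTree) (r : ℕ) : Bool :=
  ch.get r == ((D.chain.getD r #[]).toList.map fun e => (e.1, e.2.toList))

theorem entC_eq {D : ChevalleyDatum} {n : ℕ} {ch : ChTree} (h : ∀ r, r < n → copyOk D ch r = true) :
    entC D n ch = D.chainEntry := by
  funext r s
  unfold entC
  split
  next hr =>
    rw [eq_of_beq (h r (Nat.le_of_ble_eq_true hr)), ChevalleyDatum.chainEntry, List.find?_map]
    have : ((fun e : ℕ × List (ℕ × ℤ) => Nat.beq e.1 s) ∘ fun e : ℕ × Array (ℕ × ℤ) => (e.1, e.2.toList)) =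
        fun e : ℕ × Array (ℕ × ℤ) => decide (e.1 = s) := by
      funext e
      by_cases h' : e.1 = s <;> simp [beq_nat, h']
    rw [this]
    cases List.find? (fun e : ℕ × Array (ℕ × ℤ) => decide (e.1 = s)) (D.chain.getD r #[]).toList <;> rfl
  next => rfl

/-- The partners of a root. -/
def keys (ch : ChTree) (r : ℕ) : ℕ := addBits 0 ((ch.get r).map Prod.fst)

/-- Partners are symmetric. -/
def symOk (ch : ChTree) (r : ℕ) : Bool := (ch.get r).all fun e => has (keys ch e.1) r

/-- The row computed from the partners. -/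
def rowC (D : ChevalleyDatum) (n : ℕ) (ch : ChTree) (p : ℕ) : List Entry :=
  force (D.neg p) fun q =>
  ((ch.get p).map Prod.fst).flatMap fun a =>
    if Nat.beq a p || Nat.beq a q then [] else
      ((termsS (entC D n ch) p a).filter fun c => decide (c.2.1 % 2 ≠ 0)).map
        fun c => (a, c.1, c.2.2.1, c.2.2.2)

/-- Increasing and below the bound. -/
def sortedB (n : ℕ) : List ℕ → Bool
  | [] => true
  | [a] => Nat.ble (a + 1) n
  | a :: b :: l => Nat.ble (a + 1) b && sortedB n (b :: l)

theorem sortedB_spec {n : ℕ} : ∀ {l : List ℕ}, sortedB n l = true →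
    l.Pairwise (· < ·) ∧ ∀ a ∈ l, a < n
  | [], _ => ⟨List.Pairwise.nil, by simp⟩
  | [a], h => ⟨List.pairwise_singleton _ _, fun x hx => by
      rw [List.mem_singleton.1 hx]
      exact Nat.le_of_ble_eq_true h⟩
  | a :: b :: l, h => by
    simp only [sortedB, Bool.and_eq_true] at h
    obtain ⟨h1, h2⟩ := sortedB_spec h.2
    have hab : a < b := Nat.le_of_ble_eq_true h.1
    refine ⟨List.pairwise_cons.2 ⟨fun x hx => ?_, h1⟩, fun x hx => ?_⟩
    · rcases List.mem_cons.1 hx with rfl | hx
      exacts [hab, hab.trans ((List.pairwise_cons.1 h1).1 x hx)]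
    · rcases List.mem_cons.1 hx with rfl | hx
      exacts [hab.trans (h2 b (List.mem_cons_self ..)), h2 x hx]

/-- The row check. -/
def rowCOk (D : ChevalleyDatum) (n : ℕ) (ch : ChTree) (T : Tab) (p : ℕ) : Bool :=
  sortedB n ((ch.get p).map Prod.fst) && T.row.get p == rowC D n ch p

/-- The reflection from an entry function. -/
def reflC (D : ChevalleyDatum) (ent : ℕ → ℕ → List (ℕ × ℤ)) (i s : ℕ) : ℕ :=
  let p := D.simple i
  let A := D.cartan i s
  if s = p then D.neg p
  else if s = D.neg p then p
  else if 0 < A then (rootC ent (D.neg p) s A.toNat).getD s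
  else if A < 0 then (rootC ent p s (-A).toNat).getD s
  else s

/-- The reflection check. -/
def reflCOk (D : ChevalleyDatum) (n : ℕ) (ch : ChTree) (T : Tab) (i : ℕ) : Bool :=
  (List.range n).all fun s => Nat.beq (T.R D i s) (reflC D (entC D n ch) i s)

theorem refl_of_fast {D : ChevalleyDatum} {n : ℕ} {ch : ChTree} {T : Tab} (hn : D.nroots = n)
    (hcopy : ∀ r, r < n → copyOk D ch r = true) {i : ℕ} (h : reflCOk D n ch T i = true) :
    reflOk D T i = true := by
  rw [reflCOk, entC_eq hcopy] at h
  rw [reflOk, hn]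
  simp only [List.all_eq_true, beq_iff_eq] at h ⊢
  exact fun s hs => Nat.eq_of_beq_eq_true (h s hs)

theorem keys_spec {D : ChevalleyDatum} {n : ℕ} {ch : ChTree} (h : ∀ r, r < n → copyOk D ch r = true)
    {r s : ℕ} (hr : r < n) (he : D.chainEntry r s ≠ []) : has (keys ch r) s = true := by
  rw [keys, has_addBits, Bool.or_eq_true, decide_eq_true_eq]
  right
  rw [eq_of_beq (h r hr), List.map_map]
  unfold ChevalleyDatum.chainEntry at he
  split at he
  · exact absurd rfl he
  next e hfe =>
    have h1 := List.find?_some hfe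
    rw [decide_eq_true_eq] at h1
    exact List.mem_map.2 ⟨e, List.mem_of_find?_eq_some hfe, h1⟩

theorem row_of_fast {D : ChevalleyDatum} {n : ℕ} {ch : ChTree} {T : Tab} (hn : D.nroots = n)
    (hcopy : ∀ r, r < n → copyOk D ch r = true) (hsym : ∀ r, r < n → symOk ch r = true)
    {p : ℕ} (hp : p < n) (h : rowCOk D n ch T p = true) : rowOk D T p = true := by
  rw [rowCOk, Bool.and_eq_true, beq_iff_eq] at h
  obtain ⟨hs1, h⟩ := h
  obtain ⟨hsorted, hlt⟩ := sortedB_spec hs1
  rw [rowOk, beq_iff_eq, h, rowC, force_eq, oddRow, entC_eq hcopy, hn]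
  have hfil : ((ch.get p).map Prod.fst) = (List.range n).filter fun a => has (keys ch p) a := by
    refine List.Perm.eq_of_pairwise (le := (· < ·)) (fun a b _ _ hab hba => absurd hba (lt_asymm hab))
      hsorted (List.pairwise_lt_range.filter _) ((List.perm_ext_iff_of_nodup hsorted.nodup
        (List.nodup_range.filter _)).2 fun a => ?_)
    simp only [List.mem_filter, List.mem_range, keys, has_addBits, Bool.or_eq_true, decide_eq_true_eq]
    exact ⟨fun ha => ⟨hlt a ha, Or.inr ha⟩, fun ha => ha.2.resolve_left (by simp [has_eq])⟩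
  rw [hfil]
  simp only [termsS_eq, termsC_self, beq_nat]
  have key : ∀ (P : ℕ → Bool) (f g : ℕ → List Entry) (l : List ℕ), (∀ a ∈ l, P a = true → f a = g a) →
      (∀ a ∈ l, P a = false → g a = []) → (l.filter P).flatMap f = l.flatMap g := by
    intro P f g l
    induction l with
    | nil => simp
    | cons a l ih =>
      intro h1 h2
      have ih' := ih (fun b hb => h1 b (List.mem_cons_of_mem _ hb)) fun b hb => h2 b (List.mem_cons_of_mem _ hb)
      cases ha : P a
      · simp [List.filter_cons, ha, ih', h2 a (List.mem_cons_self ..) ha]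
      · simp [List.filter_cons, ha, ih', h1 a (List.mem_cons_self ..) ha]
  refine key _ _ _ _ (fun a _ _ => rfl) fun a ha hkf => ?_
  have hk : ¬ has (keys ch p) a = true := by simp [hkf]
  rw [List.mem_range] at ha
  have hempty : D.chainEntry p a = [] ∧ D.chainEntry a p = [] := by
    constructor
    · by_contra hc
      exact hk (keys_spec hcopy hp hc)
    · by_contra hc
      have h1 := keys_spec hcopy ha hc
      rw [keys, has_addBits, Bool.or_eq_true, decide_eq_true_eq] at h1
      rcases h1 with h1 | h1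
      · simp [has_eq] at h1
      obtain ⟨e, he, h2⟩ := List.mem_map.1 h1
      have h3 := hsym a ha
      rw [symOk, List.all_eq_true] at h3
      exact hk (h2 ▸ h3 e he)
  have : oddTerms D p a = [] := by
    simp [oddTerms, ChevalleyDatum.commTerms, ChevalleyDatum.chainRoot, hempty.1, hempty.2]
  split <;> simp [this]

end Cfsg.Agent.Small.C2Inv.Cert
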