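import Cfsg.Agent.Lib.Small.Char2Invol.Basic

/-!
Involution classes and their centralizers in G₂ in characteristic two.
Roots: b = 6, a = 7, a+b = 8, 2a+b = 9, 3a+b = 10, 3a+2b = 11.
-/

set_option autoImplicit false

namespace Cfsg.Agent.Small.C2Inv.G2

open Cfsg.Lie Cfsg.Agent.Lie Cfsg.Agent.Small.ChevDomCent
open scoped MatrixGroups

variable {F : Type*} [Field F] [CharP F 2]

/-- A root element. -/
noncomputable abbrev X (r : ℕ) (t : F) : GL chevG2.Idx F := factsG2.xg r t

/-- The normal form of an element of U. -/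
noncomputable def E (a b c d e f : F) : GL chevG2.Idx F :=
  X 6 a * X 7 b * X 8 c * X 9 d * X 10 e * X 11 f

theorem nroots_eq : chevG2.nroots = 12 := by decide +kernel

theorem three_eq : (3 : F) = 1 := by linear_combination (CharTwo.two_eq_zero : (2 : F) = 0)

theorem zero' (r : ℕ) : X r (0 : F) = 1 := factsG2.xg_zero r

theorem swap {r s : ℕ} {L : List (ℕ × ℤ × ℕ × ℕ)} (h : chevG2.commTerms r s = L) (hr : r < 12)
    (hs : s < 12) (h1 : s ≠ r) (h2 : s ≠ chevG2.neg r) (t u : F) :
    X s u * X r t = X r t * X s u *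
      (L.map fun c => X c.1 ((c.2.1 : F) * (-t) ^ c.2.2.1 * u ^ c.2.2.2)).prod := by
  have key := (factsG2.tsys F).x_comm r s (by rw [nroots_eq]; exact hr) (by rw [nroots_eq]; exact hs) h1 h2 t u
  simp only [ChevalleyDatum.commWord, h, List.map_map] at key
  exact key

theorem s67 (t u : F) : X 7 u * X 6 t = X 6 t * X 7 u * (X 8 (t * u) * X 9 (t * u ^ 2) * X 10 (t * u ^ 3)) := by
  have h : chevG2.commTerms 6 7 = [(8, 1, 1, 1), (9, 1, 1, 2), (10, -1, 1, 3), (11, -2, 2, 3)] := by decide +kernel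
  rw [swap h (by norm_num) (by norm_num) (by norm_num) (by decide +kernel)]
  simp [zero', CharTwo.two_eq_zero, CharTwo.neg_eq, mul_assoc]

theorem s78 (t u : F) : X 8 u * X 7 t = X 7 t * X 8 u * (X 10 (t ^ 2 * u) * X 11 (t * u ^ 2)) := by
  have h : chevG2.commTerms 7 8 = [(9, -2, 1, 1), (10, -3, 2, 1), (11, 3, 1, 2)] := by decide +kernel
  rw [swap h (by norm_num) (by norm_num) (by norm_num) (by decide +kernel)]
  simp [zero', CharTwo.two_eq_zero, CharTwo.neg_eq, three_eq, mul_assoc]

theorem s79 (t u : F) : X 9 u * X 7 t = X 7 t * X 9 u * X 10 (t * u) := by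
  have h : chevG2.commTerms 7 9 = [(10, 3, 1, 1)] := by decide +kernel
  rw [swap h (by norm_num) (by norm_num) (by norm_num) (by decide +kernel)]
  simp [CharTwo.neg_eq, three_eq]

theorem s89 (t u : F) : X 9 u * X 8 t = X 8 t * X 9 u * X 11 (t * u) := by
  have h : chevG2.commTerms 8 9 = [(11, 3, 1, 1)] := by decide +kernel
  rw [swap h (by norm_num) (by norm_num) (by norm_num) (by decide +kernel)]
  simp [CharTwo.neg_eq, three_eq]

theorem s60 (t u : F) : X 10 u * X 6 t = X 6 t * X 10 u * X 11 (t * u) := by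
  have h : chevG2.commTerms 6 10 = [(11, 1, 1, 1)] := by decide +kernel
  rw [swap h (by norm_num) (by norm_num) (by norm_num) (by decide +kernel)]
  simp [CharTwo.neg_eq]

theorem comm_nil {r s : ℕ} (h : chevG2.commTerms r s = []) (hr : r < 12) (hs : s < 12) (h1 : s ≠ r)
    (h2 : s ≠ chevG2.neg r) (t u : F) : X s u * X r t = X r t * X s u := by
  rw [swap h hr hs h1 h2]
  simp

theorem c68 (t u : F) : X 8 u * X 6 t = X 6 t * X 8 u :=
  comm_nil (by decide +kernel) (by norm_num) (by norm_num) (by norm_num) (by decide +kernel) t u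
theorem c69 (t u : F) : X 9 u * X 6 t = X 6 t * X 9 u :=
  comm_nil (by decide +kernel) (by norm_num) (by norm_num) (by norm_num) (by decide +kernel) t u
theorem c61 (t u : F) : X 11 u * X 6 t = X 6 t * X 11 u :=
  comm_nil (by decide +kernel) (by norm_num) (by norm_num) (by norm_num) (by decide +kernel) t u
theorem c70 (t u : F) : X 10 u * X 7 t = X 7 t * X 10 u :=
  comm_nil (by decide +kernel) (by norm_num) (by norm_num) (by norm_num) (by decide +kernel) t u
theorem c71 (t u : F) : X 11 u * X 7 t = X 7 t * X 11 u :=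
  comm_nil (by decide +kernel) (by norm_num) (by norm_num) (by norm_num) (by decide +kernel) t u
theorem c80 (t u : F) : X 10 u * X 8 t = X 8 t * X 10 u :=
  comm_nil (by decide +kernel) (by norm_num) (by norm_num) (by norm_num) (by decide +kernel) t u
theorem c81 (t u : F) : X 11 u * X 8 t = X 8 t * X 11 u :=
  comm_nil (by decide +kernel) (by norm_num) (by norm_num) (by norm_num) (by decide +kernel) t u
theorem c90 (t u : F) : X 10 u * X 9 t = X 9 t * X 10 u :=
  comm_nil (by decide +kernel) (by norm_num) (by norm_num) (by norm_num) (by decide +kernel) t u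
theorem c91 (t u : F) : X 11 u * X 9 t = X 9 t * X 11 u :=
  comm_nil (by decide +kernel) (by norm_num) (by norm_num) (by norm_num) (by decide +kernel) t u
theorem c01 (t u : F) : X 11 u * X 10 t = X 10 t * X 11 u :=
  comm_nil (by decide +kernel) (by norm_num) (by norm_num) (by norm_num) (by decide +kernel) t u

theorem add' (r : ℕ) (t u : F) : X r t * X r u = X r (t + u) := (factsG2.xg_add r t u).symm

theorem mul11 (a b c d e f v : F) : E a b c d e f * X 11 v = E a b c d e (f + v) := by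
  simp only [E, mul_assoc, add']

theorem mul10 (a b c d e f v : F) : E a b c d e f * X 10 v = E a b c d (e + v) f := by
  simp only [E, mul_assoc]
  rw [c01, ← mul_assoc (X 10 e), add']

theorem mul9 (a b c d e f v : F) : E a b c d e f * X 9 v = E a b c (d + v) e f := by
  simp only [E, mul_assoc]
  rw [c91, ← mul_assoc (X 10 e), c90, mul_assoc, ← mul_assoc (X 9 d), add']

theorem mul8 (a b c d e f v : F) : E a b c d e f * X 8 v = E a b (c + v) d e (f + v * d) := by
  have h : X 9 d * X 10 e * X 11 f * X 8 v = X 8 v * (X 9 d * X 10 e * X 11 (f + v * d)) := by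
    rw [mul_assoc, c81, ← mul_assoc, mul_assoc (X 9 d) (X 10 e), c80, ← mul_assoc, s89]
    simp only [mul_assoc]
    rw [← mul_assoc (X 11 (v * d)), c01, mul_assoc, add', add_comm (v * d)]
  calc E a b c d e f * X 8 v = X 6 a * X 7 b * X 8 c * (X 9 d * X 10 e * X 11 f * X 8 v) := by
        simp only [E, mul_assoc]
    _ = X 6 a * X 7 b * (X 8 c * X 8 v) * (X 9 d * X 10 e * X 11 (f + v * d)) := by
        rw [h]; simp only [mul_assoc]
    _ = _ := by rw [add']; simp only [E, mul_assoc]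

theorem mul7 (a b c d e f v : F) :
    E a b c d e f * X 7 v = E a (b + v) c d (e + v * d + v ^ 2 * c) (f + v * c ^ 2) := by
  have h : X 8 c * X 9 d * X 10 e * X 11 f * X 7 v =
      X 7 v * X 8 c * (X 10 (v ^ 2 * c) * X 11 (v * c ^ 2)) * X 9 d * X 10 (v * d) * X 10 e * X 11 f := by
    rw [mul_assoc, c71, ← mul_assoc, mul_assoc (X 8 c * X 9 d) (X 10 e), c70, ← mul_assoc,
      mul_assoc (X 8 c) (X 9 d), s79, ← mul_assoc, ← mul_assoc, s78]
  have h2 : X 10 (v ^ 2 * c) * X 11 (v * c ^ 2) * X 9 d * X 10 (v * d) * X 10 e * X 11 f =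
      X 9 d * X 10 (e + v * d + v ^ 2 * c) * X 11 (f + v * c ^ 2) := by
    rw [mul_assoc (X 10 _), c91, ← mul_assoc, c90]
    simp only [mul_assoc]
    rw [← mul_assoc (X 11 (v * c ^ 2)), c01, mul_assoc, ← mul_assoc (X 10 (v ^ 2 * c)), add',
      ← mul_assoc (X 11 _) (X 10 e), c01, mul_assoc, ← mul_assoc (X 10 _) (X 10 e), add', add',
      show v ^ 2 * c + v * d + e = e + v * d + v ^ 2 * c by ring, add_comm (v * c ^ 2)]
  calc E a b c d e f * X 7 v = X 6 a * X 7 b * (X 8 c * X 9 d * X 10 e * X 11 f * X 7 v) := by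
        simp only [E, mul_assoc]
    _ = X 6 a * (X 7 b * X 7 v) * X 8 c *
          (X 10 (v ^ 2 * c) * X 11 (v * c ^ 2) * X 9 d * X 10 (v * d) * X 10 e * X 11 f) := by
        rw [h]; simp only [mul_assoc]
    _ = _ := by rw [h2, add']; simp only [E, mul_assoc]

theorem mul6 (a b c d e f v : F) : E a b c d e f * X 6 v =
    E (a + v) b (c + v * b) (d + v * b ^ 2) (e + v * b ^ 3) (f + v * e + c * v * b ^ 2) := by
  have h : X 7 b * X 8 c * X 9 d * X 10 e * X 11 f * X 6 v =
      X 6 v * X 7 b * (X 8 (v * b) * X 9 (v * b ^ 2) * X 10 (v * b ^ 3)) * X 8 c * X 9 d *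
        X 10 e * X 11 (v * e) * X 11 f := by
    rw [mul_assoc, c61, ← mul_assoc, mul_assoc (X 7 b * X 8 c * X 9 d) (X 10 e), s60, ← mul_assoc,
      ← mul_assoc, mul_assoc (X 7 b * X 8 c) (X 9 d), c69, ← mul_assoc, mul_assoc (X 7 b) (X 8 c), c68,
      ← mul_assoc, s67]
  have h2 : X 9 (v * b ^ 2) * X 10 (v * b ^ 3) * X 8 c =
      X 8 c * (X 9 (v * b ^ 2) * X 11 (c * (v * b ^ 2)) * X 10 (v * b ^ 3)) := by
    rw [mul_assoc, c80, ← mul_assoc, s89]
    simp only [mul_assoc]
  calc E a b c d e f * X 6 v = X 6 a * (X 7 b * X 8 c * X 9 d * X 10 e * X 11 f * X 6 v) := by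
        simp only [E, mul_assoc]
    _ = X 6 (a + v) * X 7 b * X 8 (v * b) * (X 9 (v * b ^ 2) * X 10 (v * b ^ 3) * X 8 c) *
          (X 9 d * X 10 e * X 11 (v * e) * X 11 f) := by
        rw [h, ← add' 6 a v]; simp only [mul_assoc]
    _ = E (a + v) b (v * b + c) 0 0 0 * X 9 (v * b ^ 2) * X 11 (c * (v * b ^ 2)) * X 10 (v * b ^ 3) *
          X 9 d * X 10 e * X 11 (v * e) * X 11 f := by
        rw [h2]; simp only [E, zero', mul_one, mul_assoc]; rw [← mul_assoc (X 8 (v * b)), add']
    _ = _ := by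
        simp only [mul9, mul10, mul11]
        rw [add_comm (v * b) c]
        congr 1 <;> ring

theorem mulE (a b c d e f a' b' c' d' e' f' : F) : E a b c d e f * E a' b' c' d' e' f' =
    E a b c d e f * X 6 a' * X 7 b' * X 8 c' * X 9 d' * X 10 e' * X 11 f' := by
  simp only [E, mul_assoc]

theorem E_one : E (0 : F) 0 0 0 0 0 = 1 := by simp [E, zero']

theorem exists_E {u : GL chevG2.Idx F} (hu : u ∈ (factsG2.tsys F).U) :
    ∃ a b c d e f, u = E a b c d e f := by
  obtain ⟨g, rfl⟩ := (factsG2.tsys F).exists_prodOver factsG2.closedList_posL hu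
  refine ⟨g 6, g 7, g 8, g 9, g 10, g 11, ?_⟩
  rw [show Facts.posL chevG2 = [6, 7, 8, 9, 10, 11] from by decide +kernel]
  simp [CommSys.prodOver, E, mul_assoc, Facts.tsys_x]

theorem E_inj {a b c d e f a' b' c' d' e' f' : F} (h : E a b c d e f = E a' b' c' d' e' f') :
    a = a' ∧ b = b' ∧ c = c' ∧ d = d' ∧ e = e' ∧ f = f' := by
  have hl : Facts.posL chevG2 = [6, 7, 8, 9, 10, 11] := by decide +kernel
  let g : F → F → F → F → F → F → ℕ → F := fun a b c d e f r =>
    if r = 6 then a else if r = 7 then b else if r = 8 then c else if r = 9 then d else if r = 10 then e else f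
  have he : ∀ a b c d e f, (factsG2.tsys F).prodOver (Facts.posL chevG2) (g a b c d e f) = E a b c d e f := by
    intros
    rw [hl]
    simp [CommSys.prodOver, E, mul_assoc, Facts.tsys_x, g]
  rw [← he, ← he] at h
  have k := factsG2.prodOver_inj factsG2.closedList_posL h
  rw [hl] at k
  exact ⟨by simpa [g] using k 6 (by simp), by simpa [g] using k 7 (by simp), by simpa [g] using k 8 (by simp),
    by simpa [g] using k 9 (by simp), by simpa [g] using k 10 (by simp), by simpa [g] using k 11 (by simp)⟩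

theorem X_group (r : ℕ) (t : F) : X r t ∈ chevG2.group F := factsG2.xg_mem_group r t

theorem X_inv (r : ℕ) (t : F) : (X r t)⁻¹ = X r t := by
  rw [← factsG2.xg_neg, CharTwo.neg_eq]

theorem E6 (v : F) : X 6 v = E v 0 0 0 0 0 := by simp [E, zero']
theorem E7 (v : F) : X 7 v = E 0 v 0 0 0 0 := by simp [E, zero']
theorem E8 (v : F) : X 8 v = E 0 0 v 0 0 0 := by simp [E, zero']
theorem E9 (v : F) : X 9 v = E 0 0 0 v 0 0 := by simp [E, zero']
theorem E10 (v : F) : X 10 v = E 0 0 0 0 v 0 := by simp [E, zero']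
theorem E11 (v : F) : X 11 v = E 0 0 0 0 0 v := by simp [E, zero']

theorem cj_X {r : ℕ} (z : F) (u : GL chevG2.Idx F) : CJ chevG2 F u (X r z * u * X r z) := by
  have := cj_conj (X_group r z) u
  rwa [X_inv] at this

theorem sqrt' [Finite F] (a : F) : ∃ z, z ^ 2 = a := by
  have hr : ringChar F = 2 := by rw [ringChar.eq F 2]
  obtain ⟨z, hz⟩ := FiniteField.isSquare_of_char_two hr a
  exact ⟨z, by rw [pow_two]; exact hz.symm⟩

/-- The reflection n_i. -/
noncomputable def N (i : Fin chevG2.rank) : GL chevG2.Idx F := (factsG2.tsys F).nS i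

/-- The first node. -/
def i0 : Fin chevG2.rank := ⟨0, by decide⟩

/-- The second node. -/
def i1 : Fin chevG2.rank := ⟨1, by decide⟩

theorem N_group (i : Fin chevG2.rank) : N (F := F) i ∈ chevG2.group F := by
  refine factsG2.monomial_le_group ?_
  rw [← factsG2.tsys_N]
  exact (factsG2.tsys F).nS_mem_N i

theorem N_conj (i : Fin chevG2.rank) {s : ℕ} (hs : s < 12) (t : F) :
    N i * X s t * (N i)⁻¹ = X (chevG2.reflectRoot i.val s) t := by
  have h := (factsG2.tsys F).nS_conj i (s := s) (by rw [nroots_eq]; exact hs) t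
  rw [factsG2.tsys_x, factsG2.tsys_x] at h
  have hsg : factsG2.sgn F i.val s = 1 := by
    rcases factsG2.eta_sign i.val i.isLt s (by rw [nroots_eq]; exact hs) with he | he <;>
      simp [Facts.sgn, he, CharTwo.neg_eq]
  rw [hsg, one_mul] at h
  exact h

theorem cj_N (i : Fin chevG2.rank) {s s' : ℕ} (hs : s < 12) (h : chevG2.reflectRoot i.val s = s') (t : F) :
    CJ chevG2 F (X s t) (X s' t) := by
  have := cj_conj (N_group (F := F) i) (X s t)
  rwa [N_conj i hs, h] at this

theorem cj_scale {r : ℕ} {i : Fin chevG2.rank} (hr : r < 12) (h : chevG2.cartan i.val r = 1) {v : F}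
    (hv : v ≠ 0) : CJ chevG2 F (X r v) (X r (1 : F)) := by
  refine ⟨torus chevG2 F (Pi.mulSingle i (Units.mk0 v hv)⁻¹), ?_, ?_⟩
  · exact factsG2.borel_le_group (by
      rw [← factsG2.tsys_B]
      exact (factsG2.tsys F).H_le_B (by rw [factsG2.tsys_H, factsG2.diagonalSubgroup_eq F]; exact ⟨_, rfl⟩))
  · rw [X, factsG2.torus_conj _ (by rw [nroots_eq]; exact hr)]
    have : torChar chevG2 (Pi.mulSingle i (Units.mk0 v hv)⁻¹) r = (Units.mk0 v hv)⁻¹ := by
      rw [torChar, Finset.prod_eq_single i]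
      · rw [Pi.mulSingle_eq_same, h, zpow_one]
      · intro j _ hj; rw [Pi.mulSingle_eq_of_ne hj, one_zpow]
      · simp
    rw [this, Units.val_inv_eq_inv_val, Units.val_mk0, inv_mul_cancel₀ hv]

theorem cj9 {v : F} (hv : v ≠ 0) : CJ chevG2 F (X 9 v) (X 9 (1 : F)) :=
  cj_scale (i := i0) (by norm_num) (by decide +kernel) hv

theorem cj11 {v : F} (hv : v ≠ 0) : CJ chevG2 F (X 11 v) (X 11 (1 : F)) :=
  cj_scale (i := i1) (by norm_num) (by decide +kernel) hv

theorem cj7_9 (v : F) : CJ chevG2 F (X 7 v) (X 9 v) :=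
  (cj_N i1 (by norm_num) (show _ = 8 by decide +kernel) v).trans
    (cj_N i0 (by norm_num) (show _ = 9 by decide +kernel) v)

/-- Either class. -/
def Std (u : GL chevG2.Idx F) : Prop := CJ chevG2 F u (X 11 (1 : F)) ∨ CJ chevG2 F u (X 9 (1 : F))

theorem Std.of_cj {u v : GL chevG2.Idx F} (h : CJ chevG2 F u v) (hv : Std v) : Std u :=
  hv.imp h.trans h.trans

theorem case_short [Finite F] {b : F} (hb : b ≠ 0) (c e f : F) : Std (E 0 b c (b * c) e f) := by
  -- clear the coefficient of a+b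
  obtain ⟨e1, f1, h1⟩ : ∃ e1 f1, CJ chevG2 F (E 0 b c (b * c) e f) (E 0 b 0 0 e1 f1) := by
    have h := cj_X (r := 6) (c / b) (E 0 b c (b * c) e f)
    nth_rewrite 1 [E6] at h
    rw [mulE] at h
    simp only [mul7, mul8, mul9, mul10, mul11, mul6] at h
    have e1 : c / b * b = c := div_mul_cancel₀ c hb
    simp only [zero_add, add_zero, mul_zero, zero_mul, ne_eq, OfNat.ofNat_ne_zero, not_false_eq_true,
      zero_pow, CharTwo.add_self_eq_zero, e1] at h
    rw [show c / b * b ^ 2 = b * c by field_simp, CharTwo.add_self_eq_zero] at h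
    exact ⟨_, _, h⟩
  refine Std.of_cj h1 ?_
  -- clear the long coefficients
  obtain ⟨z, hz⟩ := sqrt' (f1 / b)
  have hz' : b * z ^ 2 = f1 := by rw [hz]; field_simp
  have h2 := cj_X (r := 8) z (E 0 b 0 0 e1 f1)
  nth_rewrite 1 [E8] at h2
  rw [mulE] at h2
  simp only [mul6, mul7, mul8, mul9, mul10, mul11] at h2
  simp only [zero_add, add_zero, mul_zero, zero_mul, ne_eq, OfNat.ofNat_ne_zero, not_false_eq_true,
    zero_pow, CharTwo.add_self_eq_zero, hz'] at h2
  set e2 := b ^ 2 * z + e1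
  have h3 := cj_X (r := 9) (e2 / b) (E 0 b 0 0 e2 0)
  nth_rewrite 1 [E9] at h3
  rw [mulE] at h3
  simp only [mul6, mul7, mul8, mul9, mul10, mul11] at h3
  simp only [zero_add, add_zero, mul_zero, zero_mul, ne_eq, OfNat.ofNat_ne_zero, not_false_eq_true,
    zero_pow, CharTwo.add_self_eq_zero, mul_div_cancel₀ e2 hb, ← E7] at h3
  exact Std.of_cj (h2.trans (h3.trans (cj7_9 b))) (Or.inr (cj9 hb))

theorem case_long [Finite F] {a : F} (ha : a ≠ 0) (c d e f : F) (hrel : a * e + c * d = 0) :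
    Std (E a 0 c d e f) := by
  obtain ⟨d1, e1, f1, h1, he1⟩ : ∃ d1 e1 f1, CJ chevG2 F (E a 0 c d e f) (E a 0 0 d1 e1 f1) ∧ e1 = 0 := by
    have h := cj_X (r := 7) (c / a) (E a 0 c d e f)
    nth_rewrite 1 [E7] at h
    rw [mulE] at h
    simp only [mul6, mul7, mul8, mul9, mul10, mul11] at h
    have e1 : a * (c / a) = c := mul_div_cancel₀ c ha
    simp only [zero_add, add_zero, mul_zero, zero_mul, ne_eq, OfNat.ofNat_ne_zero, not_false_eq_true,
      zero_pow, CharTwo.add_self_eq_zero, e1] at h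
    refine ⟨_, _, _, h, ?_⟩
    field_simp
    have h2 := (CharTwo.two_eq_zero : (2 : F) = 0)
    grind
  subst he1
  refine Std.of_cj h1 ?_
  have h2 := cj_X (r := 10) (f1 / a) (E a 0 0 d1 0 f1)
  nth_rewrite 1 [E10] at h2
  rw [mulE] at h2
  simp only [mul6, mul7, mul8, mul9, mul10, mul11] at h2
  simp only [zero_add, add_zero, mul_zero, zero_mul, ne_eq, OfNat.ofNat_ne_zero, not_false_eq_true,
    zero_pow, CharTwo.add_self_eq_zero, mul_div_cancel₀ f1 ha] at h2
  refine Std.of_cj h2 ?_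
  by_cases hd : d1 = 0
  · subst hd
    rw [← E6]
    exact Or.inl (((cj_N i0 (by norm_num) (show _ = 10 by decide +kernel) a).trans
      (cj_N i1 (by norm_num) (show _ = 11 by decide +kernel) a)).trans (cj11 ha))
  -- the short root absorbs the long one
  obtain ⟨z, hz⟩ := sqrt' (a / d1)
  have hz' : d1 * z ^ 2 = a := by rw [hz]; field_simp
  have h94 : chevG2.commTerms 9 4 = [(8, 2, 1, 1), (11, -3, 2, 1), (6, 3, 1, 2)] := by decide +kernel
  have h114 : chevG2.commTerms 11 4 = [] := by decide +kernel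
  have h64 : chevG2.commTerms 6 4 = [] := by decide +kernel
  have sw : X 4 z * X 9 d1 = X 9 d1 * X 4 z * (X 11 (d1 ^ 2 * z) * X 6 (d1 * z ^ 2)) := by
    rw [swap h94 (by norm_num) (by norm_num) (by norm_num) (by decide +kernel)]
    simp [zero', CharTwo.two_eq_zero, CharTwo.neg_eq, three_eq, mul_assoc]
  have sw11 : X 4 z * X 11 (d1 ^ 2 * z) = X 11 (d1 ^ 2 * z) * X 4 z :=
    comm_nil h114 (by norm_num) (by norm_num) (by norm_num) (by decide +kernel) _ _
  have sw6 : X 4 z * X 6 a = X 6 a * X 4 z :=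
    comm_nil h64 (by norm_num) (by norm_num) (by norm_num) (by decide +kernel) _ _
  have h3 : CJ chevG2 F (X 9 d1) (E a 0 0 d1 0 (d1 ^ 2 * z)) := by
    have h := cj_X (r := 4) z (X 9 d1)
    rw [sw, hz'] at h
    have e : X 9 d1 * X 4 z * (X 11 (d1 ^ 2 * z) * X 6 a) * X 4 z =
        X 9 d1 * X 11 (d1 ^ 2 * z) * X 6 a := by
      rw [← mul_assoc, mul_assoc (X 9 d1), sw11, ← mul_assoc, mul_assoc (X 9 d1 * X 11 _), sw6,
        ← mul_assoc, mul_assoc _ (X 4 z), add', CharTwo.add_self_eq_zero, zero', mul_one]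
    rw [e, show X 9 d1 * X 11 (d1 ^ 2 * z) * X 6 a = E a 0 0 d1 0 (d1 ^ 2 * z) from ?_] at h
    · exact h
    · rw [mul_assoc, c61, ← mul_assoc, c69]
      simp [E, zero']
  have h4 := cj_X (r := 10) (d1 ^ 2 * z / a) (E a 0 0 d1 0 (d1 ^ 2 * z))
  nth_rewrite 1 [E10] at h4
  rw [mulE] at h4
  simp only [mul6, mul7, mul8, mul9, mul10, mul11] at h4
  simp only [zero_add, add_zero, mul_zero, zero_mul, ne_eq, OfNat.ofNat_ne_zero, not_false_eq_true,
    zero_pow, CharTwo.add_self_eq_zero, mul_div_cancel₀ (d1 ^ 2 * z) ha] at h4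
  exact Or.inr ((h3.trans h4).symm.trans (cj9 hd))

theorem case_rest [Finite F] (c d e f : F) (hne : E 0 0 c d e f ≠ 1) (hrel : c * d = 0) :
    Std (E 0 0 c d e f) := by
  by_cases hc : c = 0
  swap
  · have hd : d = 0 := (mul_eq_zero.1 hrel).resolve_left hc
    subst hd
    have h := cj_conj (N_group (F := F) i1) (E 0 0 c 0 e f)
    have he : N i1 * E 0 0 c 0 e f * (N i1)⁻¹ = E 0 c 0 0 f e := by
      simp only [E, zero', one_mul, mul_one]
      rw [show N i1 * (X 8 c * X 10 e * X 11 f) * (N i1)⁻¹ =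
        (N i1 * X 8 c * (N i1)⁻¹) * (N i1 * X 10 e * (N i1)⁻¹) * (N i1 * X 11 f * (N i1)⁻¹) by group,
        N_conj i1 (by norm_num), N_conj i1 (by norm_num), N_conj i1 (by norm_num),
        show chevG2.reflectRoot i1.val 8 = 7 by decide +kernel,
        show chevG2.reflectRoot i1.val 10 = 11 by decide +kernel,
        show chevG2.reflectRoot i1.val 11 = 10 by decide +kernel, mul_assoc, c01, ← mul_assoc]
    rw [he] at h
    refine Std.of_cj h ?_
    simpa using case_short hc 0 f e
  subst hc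
  by_cases hd : d = 0
  swap
  · have h1 := cj_X (r := 7) (e / d) (E 0 0 0 d e f)
    nth_rewrite 1 [E7] at h1
    rw [mulE] at h1
    simp only [mul6, mul7, mul8, mul9, mul10, mul11] at h1
    have e1 : e / d * d = e := div_mul_cancel₀ e hd
    simp only [zero_add, add_zero, mul_zero, zero_mul, ne_eq, OfNat.ofNat_ne_zero, not_false_eq_true,
      zero_pow, CharTwo.add_self_eq_zero, e1] at h1
    have h2 := cj_X (r := 8) (f / d) (E 0 0 0 d 0 f)
    nth_rewrite 1 [E8] at h2
    rw [mulE] at h2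
    simp only [mul6, mul7, mul8, mul9, mul10, mul11] at h2
    have e2 : f / d * d = f := div_mul_cancel₀ f hd
    simp only [zero_add, add_zero, mul_zero, zero_mul, ne_eq, OfNat.ofNat_ne_zero, not_false_eq_true,
      zero_pow, CharTwo.add_self_eq_zero, e2, ← E9] at h2
    exact Or.inr ((h1.trans h2).trans (cj9 hd))
  subst hd
  by_cases he : e = 0
  · subst he
    have hf : f ≠ 0 := by rintro rfl; exact hne E_one
    rw [← E11]
    exact Or.inl (cj11 hf)
  have h1 := cj_X (r := 6) (f / e) (E 0 0 0 0 e f)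
  nth_rewrite 1 [E6] at h1
  rw [mulE] at h1
  simp only [mul6, mul7, mul8, mul9, mul10, mul11] at h1
  have e1 : f / e * e = f := div_mul_cancel₀ f he
  simp only [zero_add, add_zero, mul_zero, zero_mul, ne_eq, OfNat.ofNat_ne_zero, not_false_eq_true,
    zero_pow, CharTwo.add_self_eq_zero, e1, ← E10] at h1
  exact Or.inl ((h1.trans (cj_N i1 (by norm_num) (show _ = 11 by decide +kernel) e)).trans (cj11 he))

/-- Every involution is conjugate to one of the two root elements. -/
theorem std_of_involution [Fintype F] {g : GL chevG2.Idx F} (hg : g ∈ chevG2.group F) (hg2 : g * g = 1)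
    (hg1 : g ≠ 1) : Std g := by
  obtain ⟨u, hu, hcj⟩ := exists_cj_U factsG2 hg hg2
  refine Std.of_cj hcj ?_
  obtain ⟨x, -, hx⟩ := hcj
  have hu2 : u * u = 1 := by
    rw [← hx]
    calc x * g * x⁻¹ * (x * g * x⁻¹) = x * (g * g) * x⁻¹ := by group
      _ = 1 := by rw [hg2]; group
  have hu1 : u ≠ 1 := fun h => hg1 (conj_eq_one_iff.1 (hx.trans h))
  obtain ⟨a, b, c, d, e, f, rfl⟩ := exists_E hu
  rw [mulE, ← E_one] at hu2
  simp only [mul6, mul7, mul8, mul9, mul10, mul11] at hu2
  obtain ⟨-, -, hc, hd, he, hf⟩ := E_inj hu2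
  have h2 := (CharTwo.two_eq_zero : (2 : F) = 0)
  have hab : a * b = 0 := by linear_combination hc - c * h2
  by_cases hb : b = 0
  · subst hb
    by_cases ha : a = 0
    · subst ha
      refine case_rest c d e f hu1 ?_
      linear_combination hf - f * h2
    · refine case_long ha c d e f ?_
      grind
  · obtain rfl : a = 0 := (mul_eq_zero.1 hab).resolve_right hb
    have hd' : d = b * c := by
      have h3 : b * (b * c + d) = 0 := by linear_combination he - e * h2
      have h4 := (mul_eq_zero.1 h3).resolve_left hb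
      linear_combination h4 - b * c * h2
    subst hd'
    exact case_short hb c e f

end Cfsg.Agent.Small.C2Inv.G2
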