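import Cfsg.Agent.Lib.Small.Char2Invol.G2
import Cfsg.Agent.Lib.Small.ChevF4RootCent

/-!
The two classes of involutions of G₂ in characteristic two and their centralizers.
-/

set_option autoImplicit false

namespace Cfsg.Agent.Small.C2Inv.G2

open Cfsg.Lie Cfsg.Agent.Lie Cfsg.Agent.Small.ChevDomCent
open scoped MatrixGroups

variable {F : Type*} [Field F] [CharP F 2]

theorem closed911 : ClosedList chevG2 [9, 10, 11] := by
  have h1 : chevG2.commTerms 9 10 = [] := by decide +kernel
  have h2 : chevG2.commTerms 9 11 = [] := by decide +kernel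
  have h3 : chevG2.commTerms 10 11 = [] := by decide +kernel
  have h4 : chevG2.commTerms 10 9 = [] := by decide +kernel
  have h5 : chevG2.commTerms 11 9 = [] := by decide +kernel
  have h6 : chevG2.commTerms 11 10 = [] := by decide +kernel
  refine ⟨by simp, fun r hr => ?_, fun r hr s hs hne c hc => ?_⟩
  · simp only [List.mem_cons, List.not_mem_nil, or_false] at hr
    rw [nroots_eq]
    omega
  · simp only [List.mem_cons, List.not_mem_nil, or_false] at hr hs
    rcases hr with rfl | rfl | rfl <;> rcases hs with rfl | rfl | rfl <;>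
      simp_all

theorem closed11 : ClosedList chevG2 [11] := by
  refine ⟨by simp, fun r hr => ?_, fun r hr s hs hne c hc => ?_⟩
  · simp only [List.mem_cons, List.not_mem_nil, or_false] at hr
    rw [nroots_eq]
    omega
  · simp only [List.mem_cons, List.not_mem_nil, or_false] at hr hs
    exact absurd (hr.trans hs.symm) hne

/-- Conjugates of the short root element by U. -/
theorem conj9 (a b c d e f s : F) : E a b c d e f * X 9 s * (E a b c d e f)⁻¹ =
    E 0 0 0 s (s * b) (s * (a * b + c)) := by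
  rw [mul_inv_eq_iff_eq_mul, mulE, mul9]
  simp only [mul6, mul7, mul8, mul9, mul10, mul11, ne_eq, OfNat.ofNat_ne_zero, not_false_eq_true, zero_pow]
  have h2 := (CharTwo.two_eq_zero : (2 : F) = 0)
  congr 1 <;> grind

/-- The short roots. -/
theorem short_mem (w : factsG2.weyl) :
    (w • (⟨9, by rw [nroots_eq]; norm_num⟩ : Fin chevG2.nroots) : Fin chevG2.nroots).val ∈ [2, 3, 4, 7, 8, 9] := by
  obtain ⟨ω, rfl⟩ := factsG2.refSys.exists_word w
  induction ω with
  | nil => simp
  | cons i ω ih =>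
    rw [RefSystem.pr_cons, mul_smul, show factsG2.refSys.s i = factsG2.wS i from rfl, Facts.wS_smul]
    have hd : ∀ j < 2, ∀ r ∈ [2, 3, 4, 7, 8, 9], chevG2.reflectRoot j r ∈ [2, 3, 4, 7, 8, 9] := by
      decide +kernel
    exact hd i.val i.isLt _ ih

theorem torus_group (k : Fin chevG2.rank → Fˣ) : torus chevG2 F k ∈ (factsG2.tsys F).H := by
  rw [factsG2.tsys_H, factsG2.diagonalSubgroup_eq F]
  exact ⟨k, rfl⟩

theorem comm_911 : ∀ r ∈ [9, 10, 11], ∀ s ∈ [9, 10, 11], ∀ t u : F, Commute (factsG2.xg r t) (factsG2.xg s u) := by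
  intro r hr s hs t u
  have h90 : ∀ t u : F, Commute (X 9 t) (X 10 u) := fun t u => (c90 t u).symm
  have h91 : ∀ t u : F, Commute (X 9 t) (X 11 u) := fun t u => (c91 t u).symm
  have h01 : ∀ t u : F, Commute (X 10 t) (X 11 u) := fun t u => (c01 t u).symm
  have hsame : ∀ (k : ℕ) (t u : F), Commute (X k t) (X k u) := fun k t u => by
    show _ = _
    rw [add', add', add_comm]
  simp only [List.mem_cons, List.not_mem_nil, or_false] at hr hs
  rcases hr with rfl | rfl | rfl <;> rcases hs with rfl | rfl | rfl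
  exacts [hsame _ _ _, h90 _ _, h91 _ _, (h90 _ _).symm, hsame _ _ _, h01 _ _, (h91 _ _).symm,
    (h01 _ _).symm, hsame _ _ _]

/-- If a Weyl representative carries a conjugate of the short root element into US L, L holds the image. -/
theorem short_image {L : List ℕ} (hL : ClosedList chevG2 L) (w : factsG2.weyl) {b r : F}
    (h : (factsG2.tsys F).nW w * E 0 0 0 1 b r * ((factsG2.tsys F).nW w)⁻¹ ∈ (factsG2.tsys F).US L) :
    (w • (⟨9, by rw [nroots_eq]; norm_num⟩ : Fin chevG2.nroots) : Fin chevG2.nroots).val ∈ L := by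
  refine image_coef factsG2 hL (ps := [(9, (1 : F)), (10, b), (11, r)]) (by simp) (fun p hp => ?_)
    (fun r hr s hs => comm_911 r (by simpa using hr) s (by simpa using hs)) ?_ (p := (9, 1)) (by simp)
    (by rw [nroots_eq]; norm_num) one_ne_zero
  · simp only [List.mem_cons, List.not_mem_nil, or_false] at hp
    rw [nroots_eq]
    rcases hp with rfl | rfl | rfl <;> norm_num
  · simpa [E, zero', mul_assoc] using h

theorem mem_US911 {t p r : F} : E 0 0 0 t p r ∈ (factsG2.tsys F).US [9, 10, 11] := by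
  simp only [E, zero', one_mul]
  exact mul_mem (mul_mem ((factsG2.tsys F).x_mem_US (by simp) t) ((factsG2.tsys F).x_mem_US (by simp) p))
    ((factsG2.tsys F).x_mem_US (by simp) r)

/-- The two classes are different. -/
theorem not_cj : ¬ CJ chevG2 F (X 9 (1 : F)) (X 11 (1 : F)) := by
  rintro ⟨g, hg, he⟩
  obtain ⟨b, hb, w, u, hu, rfl⟩ := factsG2.mem_bnu hg
  obtain ⟨v, hv, a, ha, rfl⟩ := (factsG2.tsys F).mem_B.1 hb
  have huU : u ∈ (factsG2.tsys F).U :=
    CommSys.US_mono _ (fun r hr => Facts.mem_posL.2 ((TorusSys.closed_invList w).mem_pos r hr)) hu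
  obtain ⟨a', b', c', d', e', f', rfl⟩ := exists_E huU
  obtain ⟨a2, b2, c2, d2, e2, f2, rfl⟩ := exists_E hv
  have h1 : (factsG2.tsys F).nW w * E 0 0 0 1 b' (a' * b' + c') * ((factsG2.tsys F).nW w)⁻¹ =
      a⁻¹ * ((E a2 b2 c2 d2 e2 f2)⁻¹ * X 11 1 * E a2 b2 c2 d2 e2 f2) * a := by
    have := conj9 a' b' c' d' e' f' (1 : F)
    rw [one_mul, one_mul] at this
    rw [← this, ← he]
    group
  have h11 : (E a2 b2 c2 d2 e2 f2)⁻¹ * X 11 1 * E a2 b2 c2 d2 e2 f2 = X 11 1 := by
    rw [mul_assoc, inv_mul_eq_iff_eq_mul, E11, mulE, mulE]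
    simp only [mul6, mul7, mul8, mul9, mul10, mul11, ne_eq, OfNat.ofNat_ne_zero, not_false_eq_true, zero_pow]
    congr 1 <;> simp [add_comm]
  rw [h11] at h1
  have hmem : (factsG2.tsys F).nW w * E 0 0 0 1 b' (a' * b' + c') * ((factsG2.tsys F).nW w)⁻¹ ∈
      (factsG2.tsys F).US [11] := by
    rw [h1]
    have := (factsG2.tsys F).H_conj_US (inv_mem ha) (L := [11]) (by
      intro r hr; rw [List.mem_singleton] at hr; rw [nroots_eq, hr]; norm_num)
      ((factsG2.tsys F).x_mem_US (r := 11) (by simp) (1 : F))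
    rwa [inv_inv] at this
  have h3 := short_image closed11 w hmem
  have h4 := short_mem w
  simp only [List.mem_cons, List.not_mem_nil, or_false] at h3 h4
  omega

/-- The generated subgroup in the centralizer of the short root element. -/
noncomputable def K : Subgroup (GL chevG2.Idx F) :=
  chevG2.rootSubgroup F 9 ⊔ chevG2.rootSubgroup F 10 ⊔ chevG2.rootSubgroup F 11 ⊔ chevG2.rootSubgroup F 6 ⊔
    chevG2.rootSubgroup F 5

theorem X_mem_root (r : ℕ) (t : F) : X r t ∈ chevG2.rootSubgroup F r := by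
  rw [ChevRootPairs.rootSubgroup_eq factsG2]
  exact CommSys.x_mem_X _ r t

theorem K_le : (K : Subgroup (GL chevG2.Idx F)) ≤
    chevG2.group F ⊓ Subgroup.centralizer ({X 9 (1 : F)} : Set (GL chevG2.Idx F)) := by
  have key : ∀ r, r < 12 → (r = 9 ∨ ∀ t : F, Commute (X r t) (X 9 (1 : F))) →
      chevG2.rootSubgroup F r ≤
        chevG2.group F ⊓ Subgroup.centralizer ({X 9 (1 : F)} : Set (GL chevG2.Idx F)) := by
    intro r hr h g hg
    rw [ChevRootPairs.rootSubgroup_eq factsG2] at hg
    obtain ⟨t, rfl⟩ := CommSys.mem_X _ |>.1 hg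
    refine ⟨X_group r t, Subgroup.mem_centralizer_singleton_iff.2 ?_⟩
    rcases h with rfl | h
    · show X 9 t * X 9 1 = X 9 1 * X 9 t
      rw [add', add', add_comm]
    · exact (h t).eq
  refine sup_le (sup_le (sup_le (sup_le (key 9 (by norm_num) (Or.inl rfl))
    (key 10 (by norm_num) (Or.inr fun t => c90 1 t))) (key 11 (by norm_num) (Or.inr fun t => c91 1 t)))
    (key 6 (by norm_num) (Or.inr fun t => (c69 t 1).symm))) (key 5 (by norm_num) (Or.inr fun t => ?_))
  exact (comm_nil (by decide +kernel) (by norm_num) (by norm_num) (by norm_num) (by decide +kernel) t 1).symm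

theorem n1_mem_K : ∀ t : F, factsG2.ng (chevG2.simple 1) t ∈ (K : Subgroup (GL chevG2.Idx F)) := by
  intro t
  rw [show chevG2.simple 1 = 6 from by decide +kernel, factsG2.ng_eq]
  have h5 : ∀ u : F, X 5 u ∈ (K : Subgroup (GL chevG2.Idx F)) := fun u => Subgroup.mem_sup_right (X_mem_root 5 u)
  have h6 : ∀ u : F, X 6 u ∈ (K : Subgroup (GL chevG2.Idx F)) := fun u =>
    Subgroup.mem_sup_left (Subgroup.mem_sup_right (X_mem_root 6 u))
  have : nElt chevG2 factsG2.xg 6 t = X 6 t * X 5 (-t⁻¹) * X 6 t := by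
    rw [nElt, show chevG2.neg 6 = 5 from by decide +kernel]
  first
  | exact mul_mem (mul_mem (h6 _) (by rw [show chevG2.neg 6 = 5 from by decide +kernel]; exact h5 _)) (h6 _)
  | exact this ▸ mul_mem (mul_mem (h6 _) (h5 _)) (h6 _)

theorem cent_short : chevG2.group F ⊓ Subgroup.centralizer ({X 9 (1 : F)} : Set (GL chevG2.Idx F)) = K := by
  refine le_antisymm (fun g hg => ?_) K_le
  obtain ⟨hgG, hgC⟩ := hg
  obtain ⟨b, hb, w, u, hu, rfl⟩ := factsG2.mem_bnu hgG
  obtain ⟨v, hv, a, ha, rfl⟩ := (factsG2.tsys F).mem_B.1 hb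
  have huU : u ∈ (factsG2.tsys F).U :=
    CommSys.US_mono _ (fun r hr => Facts.mem_posL.2 ((TorusSys.closed_invList w).mem_pos r hr)) hu
  have hcm := Subgroup.mem_centralizer_singleton_iff.1 hgC
  -- the Weyl part
  have h9 : w • (⟨9, by rw [nroots_eq]; norm_num⟩ : Fin chevG2.nroots) = ⟨9, by rw [nroots_eq]; norm_num⟩ := by
    obtain ⟨a', b', c', d', e', f', hu'⟩ := exists_E huU
    obtain ⟨a2, b2, c2, d2, e2, f2, hv'⟩ := exists_E (inv_mem hv)
    have h1 : (factsG2.tsys F).nW w * (u * X 9 1 * u⁻¹) * ((factsG2.tsys F).nW w)⁻¹ =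
        a⁻¹ * (v⁻¹ * X 9 1 * v) * a := by
      calc (factsG2.tsys F).nW w * (u * X 9 1 * u⁻¹) * ((factsG2.tsys F).nW w)⁻¹
          = a⁻¹ * v⁻¹ * (v * a * (factsG2.tsys F).nW w * u * X 9 1) * u⁻¹ * ((factsG2.tsys F).nW w)⁻¹ := by group
        _ = a⁻¹ * v⁻¹ * (X 9 1 * (v * a * (factsG2.tsys F).nW w * u)) * u⁻¹ * ((factsG2.tsys F).nW w)⁻¹ := by
          rw [hcm]
        _ = _ := by group
    rw [show v⁻¹ * X 9 1 * v = v⁻¹ * X 9 1 * v⁻¹⁻¹ by group, hv', hu', conj9, conj9, one_mul, one_mul,
      one_mul, one_mul] at h1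
    have hmem : (factsG2.tsys F).nW w * E 0 0 0 1 b' (a' * b' + c') * ((factsG2.tsys F).nW w)⁻¹ ∈
        (factsG2.tsys F).US [9, 10, 11] := by
      rw [h1]
      have := (factsG2.tsys F).H_conj_US (inv_mem ha) (L := [9, 10, 11]) (fun r hr => (closed911.mem_pos r hr).2)
        (mem_US911 (t := (1 : F)) (p := b2) (r := a2 * b2 + c2))
      rwa [inv_inv] at this
    have h3 := short_image closed911 w hmem
    have h4 := short_mem w
    refine Fin.ext ?_
    simp only [List.mem_cons, List.not_mem_nil, or_false] at h3 h4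
    show _ = 9
    omega
  obtain ⟨ω, hω, hlen, hlet⟩ := fix_letters factsG2 (h := 9) (by rw [nroots_eq]; norm_num)
    (by decide +kernel) (by decide +kernel) (by decide +kernel) _ w rfl h9
  have hall : ∀ i ∈ ω, i = i1 := fun i hi => by
    have h := hlet i hi
    refine Fin.ext ?_
    have hd : ∀ j < 2, chevG2.cartan j 9 = 0 → j = 1 := by decide +kernel
    exact hd i.val i.isLt h
  have hcases : ω = [] ∨ ω = [i1] := by
    match ω, hall, hlen, hω with
    | [], _, _, _ => exact Or.inl rfl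
    | [x], h, _, _ => exact Or.inr (by rw [h x (by simp)])
    | x :: y :: rest, h, hl, hp =>
      exfalso
      have hx := h x (by simp)
      have hy := h y (by simp)
      subst hx hy
      rw [RefSystem.pr_cons, RefSystem.pr_cons, ← mul_assoc, factsG2.refSys.sq, one_mul] at hp
      have := factsG2.refSys.len_pr_le rest
      rw [hp] at this
      simp only [List.length_cons] at hl
      omega
  have hnw : (factsG2.tsys F).nw ω ∈ (K : Subgroup (GL chevG2.Idx F)) := by
    rcases hcases with rfl | rfl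
    · rw [TorusSys.nw_nil]; exact one_mem _
    · rw [TorusSys.nw_singleton, factsG2.tsys_nS]; exact n1_mem_K 1
  have huK : u ∈ (K : Subgroup (GL chevG2.Idx F)) := by
    refine CommSys.US_le _ (H := K) (fun r hr t => ?_) hu
    obtain ⟨hr', hri⟩ := TorusSys.mem_invList.1 hr
    rw [RefSystem.mem_inv] at hri
    rcases hcases with rfl | rfl
    · rw [← hω, RefSystem.pr_nil, one_smul] at hri
      exact absurd hri.1 hri.2
    · rw [← hω, RefSystem.pr_singleton] at hri
      have h1 : chevG2.nroots / 2 ≤ r := by simpa [Facts.refSys] using hri.1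
      have h2 : ¬ chevG2.nroots / 2 ≤ chevG2.reflectRoot 1 r := by
        have := hri.2
        simpa [Facts.refSys, Facts.wS_smul, i1] using this
      have hd : ∀ r < 12, chevG2.nroots / 2 ≤ r → ¬ chevG2.nroots / 2 ≤ chevG2.reflectRoot 1 r → r = 6 := by
        decide +kernel
      rw [hd r (nroots_eq ▸ hr') h1 h2]
      exact Subgroup.mem_sup_left (Subgroup.mem_sup_right (X_mem_root 6 t))
  obtain ⟨c, hc, hceq⟩ := (factsG2.tsys F).nw_eq (ω := ω) (w := w) hω
  have hsplit : v * a * (factsG2.tsys F).nW w * u = v * (a * c⁻¹) * (factsG2.tsys F).nw ω * u := by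
    rw [hceq]; group
  rw [hsplit] at hcm ⊢
  have hva : v * (a * c⁻¹) * X 9 1 = X 9 1 * (v * (a * c⁻¹)) := by
    have h1 := Subgroup.mem_centralizer_singleton_iff.1 (K_le (F := F) (mul_mem hnw huK)).2
    refine mul_right_cancel (b := (factsG2.tsys F).nw ω * u) ?_
    calc v * (a * c⁻¹) * X 9 1 * ((factsG2.tsys F).nw ω * u)
        = v * (a * c⁻¹) * ((factsG2.tsys F).nw ω * u * X 9 1) := by rw [h1]; group
      _ = v * (a * c⁻¹) * (factsG2.tsys F).nw ω * u * X 9 1 := by group
      _ = X 9 1 * (v * (a * c⁻¹) * (factsG2.tsys F).nw ω * u) := hcm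
      _ = _ := by group
  refine mul_mem (mul_mem ?_ hnw) huK
  have hh := mul_mem ha (inv_mem hc)
  rw [factsG2.tsys_H, factsG2.diagonalSubgroup_eq F] at hh
  obtain ⟨k, hk⟩ := hh
  rw [← hk] at hva ⊢
  obtain ⟨a', b', c', d', e', f', hv'⟩ := exists_E hv
  rw [hv'] at hva ⊢
  have h1 : E a' b' c' d' e' f' * X 9 ((torChar chevG2 k 9 : Fˣ) : F) * (E a' b' c' d' e' f')⁻¹ = X 9 1 := by
    have := factsG2.torus_conj k (s := 9) (by rw [nroots_eq]; norm_num) (1 : F)
    rw [mul_one] at this
    rw [X, ← this]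
    calc _ = E a' b' c' d' e' f' * torus chevG2 F k * X 9 1 * (E a' b' c' d' e' f' * torus chevG2 F k)⁻¹ := by
          group
      _ = _ := by rw [hva, mul_inv_cancel_right]
  rw [conj9, E9] at h1
  obtain ⟨-, -, -, hs, hb', hc'⟩ := E_inj h1
  rw [hs, one_mul] at hb' hc'
  rw [hb', mul_zero, zero_add] at hc'
  subst hb' hc'
  refine mul_mem ?_ ?_
  · simp only [E, zero', mul_one]
    refine mul_mem (mul_mem (mul_mem ?_ ?_) ?_) ?_
    · exact Subgroup.mem_sup_left (Subgroup.mem_sup_right (X_mem_root 6 _))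
    · exact Subgroup.mem_sup_left (Subgroup.mem_sup_left (Subgroup.mem_sup_left (Subgroup.mem_sup_left (X_mem_root 9 _))))
    · exact Subgroup.mem_sup_left (Subgroup.mem_sup_left (Subgroup.mem_sup_left (Subgroup.mem_sup_right (X_mem_root 10 _))))
    · exact Subgroup.mem_sup_left (Subgroup.mem_sup_left (Subgroup.mem_sup_right (X_mem_root 11 _)))
  · have hk0 : k i0 = 1 := by
      have hc9 : chevG2.cartan 0 9 = 1 ∧ chevG2.cartan 1 9 = 0 := by decide +kernel
      have h := hs
      rw [torChar, Finset.prod_eq_single i0] at h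
      · rw [show chevG2.cartan i0.val 9 = 1 from hc9.1, zpow_one] at h
        exact Units.ext h
      · intro j _ hj
        have hj1 : j.val = 1 := by
          have h2 : j.val < 2 := j.isLt
          have h3 : j.val ≠ 0 := fun e => hj (Fin.ext e)
          omega
        rw [hj1, hc9.2, zpow_zero]
      · simp
    refine Subgroup.pi_mem_of_mulSingle_mem (H := (K : Subgroup (GL chevG2.Idx F)).comap (torus chevG2 F)) k fun i => ?_
    rw [Subgroup.mem_comap]
    have hi : i = i0 ∨ i = i1 := by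
      have h2 : i.val < 2 := i.isLt
      rcases (show i.val = 0 ∨ i.val = 1 by omega) with h | h
      exacts [Or.inl (Fin.ext h), Or.inr (Fin.ext h)]
    rcases hi with rfl | rfl
    · rw [hk0, Pi.mulSingle_one, map_one]; exact one_mem _
    · rw [factsG2.torus_single, factsG2.hg_eq]
      exact mul_mem (n1_mem_K _) (n1_mem_K _)

theorem okDom11 : okDom chevG2 [11] [4] = true := by decide +kernel

theorem cent_long (z : GL chevG2.Idx F) (hz : (z : Matrix chevG2.Idx chevG2.Idx F) = chevG2.x F 11 1) :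
    chevG2.group F ⊓ Subgroup.centralizer {z} = chevG2.posUnipotent F ⊔ chevG2.rootSubgroup F 4 := by
  rw [ChevF4RootCent.single factsG2 okDom11 z hz, cand]
  congr 1
  unfold ChevalleyDatum.rootSubgroup
  congr 1
  ext g
  simp

end Cfsg.Agent.Small.C2Inv.G2
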