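import Cfsg.Agent.Lib.Small.Char2Invol.Basic

/-!
Sets of positive roots as bit masks, closed under the commutator formula modulo two, and the
coefficient at an indecomposable root of a product of root elements.
-/

set_option autoImplicit false

namespace Cfsg.Agent.Small.C2Inv.Cert

open Cfsg.Lie Cfsg.Agent.Lie
open scoped MatrixGroups

/-- Bit test. -/
def has (m i : ℕ) : Bool := Nat.beq (Nat.land (Nat.shiftRight m i) 1) 1

theorem has_eq (m i : ℕ) : has m i = m.testBit i := by
  rw [Nat.testBit, has]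
  show Nat.beq ((m >>> i) &&& 1) 1 = (1 &&& m >>> i != 0)
  rw [Nat.land_comm]
  rcases Nat.mod_two_eq_zero_or_one (m >>> i) with h | h <;> rw [Nat.one_and_eq_mod_two, h] <;> rfl

/-- Remove a bit. -/
def rem (m i : ℕ) : ℕ := if has m i then Nat.xor m (2 ^ i) else m

theorem has_rem (m i j : ℕ) : has (rem m i) j = (!(decide (i = j)) && has m j) := by
  unfold rem
  rw [has_eq, has_eq, has_eq]
  split
  next h =>
    show Nat.testBit (m ^^^ 2 ^ i) j = _
    rw [Nat.testBit_xor, Nat.testBit_two_pow]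
    by_cases e : i = j
    · subst e; simp [h]
    · simp [e]
  next h =>
    by_cases e : i = j
    · subst e; simp [h]
    · simp [e]

theorem has_rem_iff {m i j : ℕ} : has (rem m i) j = true ↔ i ≠ j ∧ has m j = true := by
  simp [has_rem]

/-- Inclusion of masks. -/
def sub (m m' : ℕ) : Bool := Nat.beq (Nat.land m m') m

theorem has_of_sub {m m' i : ℕ} (h : sub m m' = true) (hi : has m i = true) : has m' i = true := by
  have h1 : m &&& m' = m := Nat.eq_of_beq_eq_true h
  rw [has_eq] at hi ⊢
  have h2 := congrArg (fun n => Nat.testBit n i) h1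
  simp only [Nat.testBit_and, hi, Bool.true_and] at h2
  exact h2

/-- Odd terms of the commutator formula. -/
def oddTerms (D : ChevalleyDatum) (r s : ℕ) : List (ℕ × ℤ × ℕ × ℕ) :=
  (D.commTerms r s).filter fun c => decide (c.2.1 % 2 ≠ 0)

/-- A mask of positive roots closed modulo two. -/
structure Closed (D : ChevalleyDatum) (L : ℕ) : Prop where
  pos : ∀ r, has L r = true → D.nroots / 2 ≤ r ∧ r < D.nroots
  closed : ∀ r s, has L r = true → has L s = true → r ≠ s → ∀ c ∈ oddTerms D r s, has L c.1 = true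

/-- A root which is no odd term of two roots of the mask. -/
def Indec (D : ChevalleyDatum) (L k : ℕ) : Prop :=
  ∀ r s, has L r = true → has L s = true → r ≠ s → ∀ c ∈ oddTerms D r s, c.1 ≠ k

theorem Closed.remove {D : ChevalleyDatum} {L k : ℕ} (h : Closed D L) (hk : Indec D L k) :
    Closed D (rem L k) := by
  refine ⟨fun r hr => h.pos r (has_rem_iff.1 hr).2, fun r s hr hs hne c hc => ?_⟩
  exact has_rem_iff.2 ⟨(hk r s (has_rem_iff.1 hr).2 (has_rem_iff.1 hs).2 hne c hc).symm,
    h.closed r s (has_rem_iff.1 hr).2 (has_rem_iff.1 hs).2 hne c hc⟩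

/-- The roots of a mask in increasing order. -/
def lst (D : ChevalleyDatum) (L : ℕ) : List ℕ := (Facts.posL D).filter fun r => has L r

theorem mem_lst {D : ChevalleyDatum} {L r : ℕ} :
    r ∈ lst D L ↔ (D.nroots / 2 ≤ r ∧ r < D.nroots) ∧ has L r = true := by
  rw [lst, List.mem_filter, Facts.mem_posL]

theorem lst_sorted {D : ChevalleyDatum} (hF : Facts D) (L : ℕ) : (lst D L).Pairwise (· < ·) :=
  hF.closedList_posL.sorted.filter _

variable {D : ChevalleyDatum} {F : Type*} [Field F] [CharP F 2] (hF : Facts D)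

/-- The subgroup of a mask. -/
noncomputable def UL (L : ℕ) : Subgroup (GL D.Idx F) := (hF.sys F).US (lst D L)

omit [CharP F 2] in
theorem xg_mem_UL {L r : ℕ} (h1 : D.nroots / 2 ≤ r) (h2 : r < D.nroots) (h : has L r = true) (t : F) :
    hF.xg r t ∈ UL hF L :=
  (hF.sys F).x_mem_US (mem_lst.2 ⟨⟨h1, h2⟩, h⟩) t

theorem cast_odd {m : ℤ} (h : m % 2 ≠ 0) : (m : F) = 1 := by
  obtain ⟨k, rfl⟩ : ∃ k, m = 2 * k + 1 := ⟨m / 2, by omega⟩
  push_cast
  rw [CharTwo.two_eq_zero]
  ring

theorem cast_even {m : ℤ} (h : m % 2 = 0) : (m : F) = 0 := by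
  obtain ⟨k, rfl⟩ : ∃ k, m = 2 * k := ⟨m / 2, by omega⟩
  push_cast
  rw [CharTwo.two_eq_zero]
  ring

/-- The conjugate of a root element in characteristic two. -/
theorem xconj {r s : ℕ} (hr : r < D.nroots) (hs : s < D.nroots) (h1 : s ≠ r) (h2 : s ≠ D.neg r) (t u : F) :
    hF.xg r t * hF.xg s u * hF.xg r t =
      hF.xg s u * ((oddTerms D r s).map fun c => hF.xg c.1 (t ^ c.2.2.1 * u ^ c.2.2.2)).prod := by
  have h := (hF.sys F).toCommSys.x_conj r s hr hs h1 h2 t u
  have hinv : (hF.xg r t)⁻¹ = hF.xg r t := by rw [← hF.xg_neg, CharTwo.neg_eq]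
  simp only [Facts.sys_x, hinv] at h
  rw [h]
  congr 1
  simp only [ChevalleyDatum.commWord, List.map_map, oddTerms]
  generalize D.commTerms r s = l
  induction l with
  | nil => rfl
  | cons c l ih =>
    simp only [List.map_cons, List.prod_cons, ih, Function.comp_apply, List.filter_cons]
    by_cases hc : c.2.1 % 2 ≠ 0
    · simp [hc, cast_odd hc, CharTwo.neg_eq]
    · rw [cast_even (not_not.1 hc)]
      simp [not_not.1 hc, hF.xg_zero]

/-- Conjugation by a root element keeps the subgroup when the odd terms stay inside. -/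
theorem conj_mem_UL {L r : ℕ} (hr : r < D.nroots)
    (h : ∀ s, has L s = true → s ≠ D.neg r ∧ (s ≠ r → ∀ c ∈ oddTerms D r s, has L c.1 = true))
    (hpos : ∀ s, has L s = true → D.nroots / 2 ≤ s ∧ s < D.nroots) (t : F) {g : GL D.Idx F}
    (hg : g ∈ UL hF L) : hF.xg r t * g * hF.xg r t ∈ UL hF L := by
  have hinv : (hF.xg r t)⁻¹ = hF.xg r t := by rw [← hF.xg_neg, CharTwo.neg_eq]
  suffices UL hF L ≤ (UL hF L).comap (MulAut.conj (hF.xg r t)).toMonoidHom by
    have h1 : hF.xg r t * g * (hF.xg r t)⁻¹ ∈ UL hF L := this hg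
    rwa [hinv] at h1
  refine CommSys.US_le _ fun s hs u => ?_
  obtain ⟨hs1, hsL⟩ := mem_lst.1 hs
  show hF.xg r t * hF.xg s u * (hF.xg r t)⁻¹ ∈ UL hF L
  rw [hinv]
  obtain ⟨hn, hc⟩ := h s hsL
  by_cases he : s = r
  · subst he
    rw [← hF.xg_add, ← hF.xg_add]
    exact xg_mem_UL hF hs1.1 hs1.2 hsL _
  · rw [xconj hF hr hs1.2 he hn]
    refine mul_mem (xg_mem_UL hF hs1.1 hs1.2 hsL u) (Subgroup.list_prod_mem _ fun x hx => ?_)
    obtain ⟨c, hc', rfl⟩ := List.mem_map.1 hx
    exact xg_mem_UL hF (hpos _ (hc he c hc')).1 (hpos _ (hc he c hc')).2 (hc he c hc') _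

theorem Closed.self_conj {L r : ℕ} (hL : Closed D L) (hr : has L r = true) (t : F) {g : GL D.Idx F}
    (hg : g ∈ UL hF L) : hF.xg r t * g * hF.xg r t ∈ UL hF L := by
  refine conj_mem_UL hF (hL.pos r hr).2 (fun s hs => ⟨fun e => ?_, fun hne c hc =>
    hL.closed r s hr hs (Ne.symm hne) c hc⟩) hL.pos t hg
  have h1 := (hL.pos r hr)
  have h2 := (hL.pos s hs).1
  rw [e, hF.neg_eq r h1.2] at h2
  have := hF.even
  omega

/-- Coefficients vanishing outside a mask. -/
def Supp (D : ChevalleyDatum) (L : ℕ) (c : ℕ → F) : Prop :=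
  ∀ r, D.nroots / 2 ≤ r → r < D.nroots → has L r = false → c r = 0

/-- The element with given coefficients. -/
noncomputable def el (c : ℕ → F) : GL D.Idx F := (hF.sys F).prodOver (Facts.posL D) c

omit [CharP F 2] in
theorem el_mem {L : ℕ} {c : ℕ → F} (hc : Supp D L c) : el hF c ∈ UL hF L := by
  refine Subgroup.list_prod_mem _ fun g hg => ?_
  obtain ⟨r, hr, rfl⟩ := List.mem_map.1 hg
  obtain ⟨h1, h2⟩ := Facts.mem_posL.1 hr
  cases h : has L r
  · rw [hc r h1 h2 h, (hF.sys F).toCommSys.x_zero]; exact one_mem _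
  · exact xg_mem_UL hF h1 h2 h _

omit [CharP F 2] in
theorem prodOver_lst (L : ℕ) (g : ℕ → F) :
    (hF.sys F).prodOver (lst D L) g = el hF fun r => if has L r = true then g r else 0 := by
  unfold el lst CommSys.prodOver
  generalize Facts.posL D = M
  induction M with
  | nil => rfl
  | cons a M ih =>
    cases h : has L a <;> simp [h, ih, (hF.sys F).toCommSys.x_zero]

omit [CharP F 2] in
theorem el_zero : el hF (fun _ => (0 : F)) = 1 :=
  List.prod_eq_one fun g hg => by
    obtain ⟨r, -, rfl⟩ := List.mem_map.1 hg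
    exact (hF.sys F).toCommSys.x_zero r

omit [CharP F 2] in
theorem el_single {r : ℕ} (h1 : D.nroots / 2 ≤ r) (h2 : r < D.nroots) (t : F) :
    el hF (fun s => if s = r then t else 0) = hF.xg r t := by
  have key : ∀ M : List ℕ, M.Nodup →
      (M.map fun s => hF.xg s (if s = r then t else 0)).prod = if r ∈ M then hF.xg r t else 1 := by
    intro M hM
    induction M with
    | nil => simp
    | cons a M ih =>
      rw [List.nodup_cons] at hM
      rw [List.map_cons, List.prod_cons, ih hM.2]
      by_cases h : a = r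
      · subst h; simp [hM.1]
      · simp [h, Ne.symm h, hF.xg_zero]
  have h3 := key _ hF.closedList_posL.sorted.nodup
  rw [if_pos (Facts.mem_posL.2 ⟨h1, h2⟩)] at h3
  exact h3

/-- Every element of the subgroup of a closed mask has coefficients on the mask. -/
theorem exists_supp {L : ℕ} (hL : Closed D L) {g : GL D.Idx F} (hg : g ∈ UL hF L) :
    ∃ c : ℕ → F, Supp D L c ∧ g = el hF c := by
  have key : ∀ M : List ℕ, M.Pairwise (· < ·) → (∀ r ∈ M, has L r = true) →
      (∀ r ∈ M, ∀ s ∈ M, r ≠ s → ∀ c ∈ oddTerms D r s, c.1 ∈ M) →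
      ∀ g ∈ (hF.sys F).US M, ∃ t : ℕ → F, g = (hF.sys F).prodOver M t := by
    intro M
    induction M with
    | nil =>
      intro _ _ _ g hg
      refine ⟨fun _ => 0, ?_⟩
      have : (hF.sys F).US [] = ⊥ := by simp [CommSys.US]
      rw [this, Subgroup.mem_bot] at hg
      simp [hg, CommSys.prodOver]
    | cons m M ih =>
      intro hsort hin hcl g hg
      obtain ⟨hlt, hsort'⟩ := List.pairwise_cons.1 hsort
      have hpm := hL.pos m (hin m (List.mem_cons_self ..))
      have hcl' : ∀ r ∈ M, ∀ s ∈ M, r ≠ s → ∀ c ∈ oddTerms D r s, c.1 ∈ M := by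
        intro r hr s hs hne c hc
        have h1 := hL.pos r (hin r (List.mem_cons_of_mem _ hr))
        have h2 := hL.pos s (hin s (List.mem_cons_of_mem _ hs))
        have hgt := (hF.commTerms_gt h1.2 h2.2 h1.1 h2.1 (List.mem_filter.1 hc).1).2.1
        have hmr := hlt r hr
        rcases List.mem_cons.1 (hcl r (List.mem_cons_of_mem _ hr) s (List.mem_cons_of_mem _ hs) hne c hc)
          with h | h
        · omega
        · exact h
      have hnorm : ∀ (t : F) (u : GL D.Idx F), u ∈ (hF.sys F).US M →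
          hF.xg m t * u * hF.xg m t ∈ (hF.sys F).US M := by
        intro t u hu
        have hinv : (hF.xg m t)⁻¹ = hF.xg m t := by rw [← hF.xg_neg, CharTwo.neg_eq]
        suffices (hF.sys F).US M ≤ ((hF.sys F).US M).comap (MulAut.conj (hF.xg m t)).toMonoidHom by
          have h1 : hF.xg m t * u * (hF.xg m t)⁻¹ ∈ (hF.sys F).US M := this hu
          rwa [hinv] at h1
        refine CommSys.US_le _ fun s hs v => ?_
        show hF.xg m t * hF.xg s v * (hF.xg m t)⁻¹ ∈ (hF.sys F).US M
        rw [hinv]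
        have hps := hL.pos s (hin s (List.mem_cons_of_mem _ hs))
        have hsm := hlt s hs
        rw [xconj hF hpm.2 hps.2 (by omega) (by
          rw [hF.neg_eq m hpm.2]
          have := hF.even
          omega)]
        refine mul_mem ((hF.sys F).x_mem_US hs v) (Subgroup.list_prod_mem _ fun x hx => ?_)
        obtain ⟨c, hc, rfl⟩ := List.mem_map.1 hx
        have hgt := (hF.commTerms_gt hpm.2 hps.2 hpm.1 hps.1 (List.mem_filter.1 hc).1).2.1
        rcases List.mem_cons.1 (hcl m (List.mem_cons_self ..) s (List.mem_cons_of_mem _ hs) (by omega) c hc)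
          with h | h
        · omega
        · exact (hF.sys F).x_mem_US h _
      have hkey : ∃ a, ∃ u : GL D.Idx F, u ∈ (hF.sys F).US M ∧ g = hF.xg m a * u := by
        induction hg using Subgroup.closure_induction with
        | mem g hg =>
          obtain ⟨r, hr, a, rfl⟩ := hg
          rcases List.mem_cons.1 hr with rfl | hr
          · exact ⟨a, 1, one_mem _, by simp [Facts.sys_x]⟩
          · exact ⟨0, _, (hF.sys F).x_mem_US hr a, by simp [hF.xg_zero]⟩
        | one => exact ⟨0, 1, one_mem _, by simp [hF.xg_zero]⟩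
        | mul p q _ _ hp hq =>
          obtain ⟨a, u, hu, rfl⟩ := hp
          obtain ⟨b, v, hv, rfl⟩ := hq
          refine ⟨a + b, hF.xg m b * u * hF.xg m b * v, mul_mem (hnorm b u hu) hv, ?_⟩
          have hb : hF.xg m b * hF.xg m b = 1 := by
            rw [← hF.xg_add, CharTwo.add_self_eq_zero, hF.xg_zero]
          calc hF.xg m a * u * (hF.xg m b * v)
              = hF.xg m a * (hF.xg m b * hF.xg m b) * u * (hF.xg m b * v) := by rw [hb, mul_one]
            _ = _ := by rw [hF.xg_add]; group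
        | inv p _ hp =>
          obtain ⟨a, u, hu, rfl⟩ := hp
          refine ⟨a, hF.xg m a * u⁻¹ * hF.xg m a, hnorm a _ (inv_mem hu), ?_⟩
          have hb : hF.xg m a * hF.xg m a = 1 := by
            rw [← hF.xg_add, CharTwo.add_self_eq_zero, hF.xg_zero]
          have hinv : (hF.xg m a)⁻¹ = hF.xg m a := by rw [← hF.xg_neg, CharTwo.neg_eq]
          rw [_root_.mul_inv_rev, hinv, ← mul_assoc, ← mul_assoc, hb, one_mul]
      obtain ⟨a, u, hu, rfl⟩ := hkey
      obtain ⟨t, rfl⟩ := ih hsort' (fun r hr => hin r (List.mem_cons_of_mem _ hr)) hcl' u hu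
      refine ⟨Function.update t m a, ?_⟩
      rw [CommSys.prodOver, CommSys.prodOver, List.map_cons, List.prod_cons, Function.update_self]
      congr 1
      congr 1
      refine List.map_congr_left fun r hr => ?_
      rw [Function.update_of_ne (ne_of_gt (hlt r hr))]
  obtain ⟨t, rfl⟩ := key _ (lst_sorted hF L) (fun r hr => (mem_lst.1 hr).2) (fun r hr s hs hne c hc => by
    have h := hL.closed r s (mem_lst.1 hr).2 (mem_lst.1 hs).2 hne c hc
    exact mem_lst.2 ⟨hL.pos _ h, h⟩) g hg
  exact ⟨fun r => if has L r = true then t r else 0, fun r _ _ h => by simp [h], prodOver_lst hF L t⟩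

omit [CharP F 2] in
theorem el_inj {c c' : ℕ → F} (h : el hF c = el hF c') :
    ∀ r, D.nroots / 2 ≤ r → r < D.nroots → c r = c' r := fun r h1 h2 =>
  hF.prodOver_inj hF.closedList_posL h r (Facts.mem_posL.2 ⟨h1, h2⟩)

/-- A root element in the subgroup of a mask not holding its root is trivial. -/
theorem xg_mem_UL_zero {L r : ℕ} (hL : Closed D L) (h1 : D.nroots / 2 ≤ r) (h2 : r < D.nroots)
    (hr : has L r = false) {t : F} (h : hF.xg r t ∈ UL hF L) : t = 0 := by
  obtain ⟨c, hc, he⟩ := exists_supp hF hL h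
  rw [← el_single hF h1 h2 t] at he
  have := el_inj hF he r h1 h2
  rw [if_pos rfl, hc r h1 h2 hr] at this
  exact this

/-- The coefficient at an indecomposable root of a product of root elements. -/
theorem coef_word {L r : ℕ} (hL : Closed D L) (hr : has L r = true) (hi : Indec D L r)
    {w : List (ℕ × F)}
    (hw : ∀ p ∈ w, has L p.1 = true ∨ p.2 = 0) {c : ℕ → F} (hc : Supp D L c)
    (he : (w.map fun p => hF.xg p.1 p.2).prod = el hF c) : c r = coef w r := by
  have hN := hL.remove hi
  have hp := hL.pos r hr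
  have step : ∀ v : List (ℕ × F), (∀ p ∈ v, has L p.1 = true ∨ p.2 = 0) →
      ∃ n ∈ UL hF (rem L r), (v.map fun p => hF.xg p.1 p.2).prod = hF.xg r (coef v r) * n := by
    intro v hv
    induction v with
    | nil => exact ⟨1, one_mem _, by simp [coef, hF.xg_zero]⟩
    | cons p v ih =>
      obtain ⟨n, hn, hvn⟩ := ih fun q hq => hv q (List.mem_cons_of_mem _ hq)
      rw [List.map_cons, List.prod_cons, hvn]
      by_cases hpr : p.1 = r
      · refine ⟨n, hn, ?_⟩
        have : coef (p :: v) r = p.2 + coef v r := by simp [coef, hpr]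
        rw [this, hF.xg_add, hpr, mul_assoc]
      · refine ⟨hF.xg r (coef v r) * hF.xg p.1 p.2 * hF.xg r (coef v r) * n, mul_mem ?_ hn, ?_⟩
        · rcases hv p (List.mem_cons_self ..) with hin | h0
          · refine conj_mem_UL hF hp.2 (fun s hs => ⟨fun e => ?_, fun hne k hk => ?_⟩) hN.pos _
              (xg_mem_UL hF (hL.pos _ hin).1 (hL.pos _ hin).2 (has_rem_iff.2 ⟨Ne.symm hpr, hin⟩) _)
            · have h2 := (hL.pos s (has_rem_iff.1 hs).2).1
              rw [e, hF.neg_eq r hp.2] at h2
              have := hF.even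
              omega
            · exact has_rem_iff.2 ⟨(hi r s hr (has_rem_iff.1 hs).2 (Ne.symm hne) k hk).symm,
                hL.closed r s hr (has_rem_iff.1 hs).2 (Ne.symm hne) k hk⟩
          · rw [h0, hF.xg_zero, mul_one, ← hF.xg_add, CharTwo.add_self_eq_zero, hF.xg_zero]
            exact one_mem _
        · have : coef (p :: v) r = coef v r := by simp [coef, hpr]
          rw [this]
          have hb : hF.xg r (coef v r) * hF.xg r (coef v r) = 1 := by
            rw [← hF.xg_add, CharTwo.add_self_eq_zero, hF.xg_zero]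
          calc hF.xg p.1 p.2 * (hF.xg r (coef v r) * n)
              = (hF.xg r (coef v r) * hF.xg r (coef v r)) * hF.xg p.1 p.2 * hF.xg r (coef v r) * n := by
                rw [hb, one_mul, mul_assoc]
            _ = _ := by group
  obtain ⟨n, hn, h1⟩ := step w hw
  obtain ⟨n', hn', h2⟩ := step ((Facts.posL D).map fun s => (s, c s)) fun p hp' => by
    obtain ⟨s, hs, rfl⟩ := List.mem_map.1 hp'
    cases h : has L s
    · exact Or.inr (hc s (Facts.mem_posL.1 hs).1 (Facts.mem_posL.1 hs).2 h)
    · exact Or.inl rfl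
  have h3 : coef ((Facts.posL D).map fun s => (s, c s)) r = c r :=
    coef_of_nodup (p := (r, c r)) (by
      rw [List.map_map]
      exact (List.map_id' (Facts.posL D)).symm ▸ hF.closedList_posL.sorted.nodup)
      (List.mem_map.2 ⟨r, Facts.mem_posL.2 hp, rfl⟩)
  rw [List.map_map] at h2
  have h4 : el hF c = hF.xg r (c r) * n' := by
    rw [← h3]
    exact h2
  rw [h1, h4] at he
  have hmem : hF.xg r (c r + coef w r) ∈ UL hF (rem L r) := by
    have e : hF.xg r (c r + coef w r) = hF.xg r (c r) * (hF.xg r (coef w r) * n) * n⁻¹ := by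
      rw [hF.xg_add]; group
    rw [e, he, ← mul_assoc, ← hF.xg_add, CharTwo.add_self_eq_zero, hF.xg_zero, one_mul]
    exact mul_mem hn' (inv_mem hn)
  have h5 := xg_mem_UL_zero hF hN hp.1 hp.2 (by simp [has_rem]) hmem
  exact CharTwo.add_eq_zero.1 h5

end Cfsg.Agent.Small.C2Inv.Cert
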