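import Cfsg.Agent.Lib.Small.Char2Invol.Check
import Cfsg.Agent.Lib.Lie.XMat
import Cfsg.Agent.Lib.Lie.FieldFix
import Mathlib.LinearAlgebra.Matrix.Rank

/-!
The representatives of the classes: scaling to parameter one, and the rank of u − 1 computed
with bit vectors.
-/

set_option autoImplicit false

namespace Cfsg.Agent.Small.C2Inv.Cert

open Cfsg.Lie Cfsg.Agent.Lie
open scoped MatrixGroups

variable {D : ChevalleyDatum} {F : Type*} [Field F]

/-- The product of the root elements with parameter one. -/
noncomputable def repEl (hF : Facts D) (R : List ℕ) : GL D.Idx F := (R.map fun r => hF.xg r (1 : F)).prod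

theorem repEl_mem (hF : Facts D) (R : List ℕ) : repEl hF R ∈ D.group F :=
  Subgroup.list_prod_mem _ fun g hg => by
    obtain ⟨r, -, rfl⟩ := List.mem_map.1 hg
    exact hF.xg_mem_group r 1

theorem coe_repEl (hF : Facts D) (R : List ℕ) :
    ((repEl hF R : GL D.Idx F) : Matrix D.Idx D.Idx F) = (R.map fun r => D.x F r 1).prod := by
  induction R with
  | nil => simp [repEl]
  | cons r R ih =>
    simp only [repEl, List.map_cons, List.prod_cons, Units.val_mul, Facts.coe_xg] at ih ⊢
    rw [ih]

/-- Check of a set of representatives: distinct commuting positive roots and scaling cocharacters. -/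
def repOk (D : ChevalleyDatum) (R : List ℕ) (lam : ℕ → ℕ → ℤ) (e : ℕ) : Bool :=
  decide R.Nodup &&
  (R.all fun x => decide (D.nroots / 2 ≤ x) && decide (x < D.nroots) && R.all fun y =>
    (x == y || (oddTerms D x y).isEmpty) &&
    (((List.range D.rank).map fun i => lam x i * D.cartan i y).sum == if x == y then 2 ^ e else 0))

theorem zpow_list_sum {G : Type*} [Group G] (z : G) : ∀ l : List ℤ, (l.map fun n => z ^ n).prod = z ^ l.sum
  | [] => by simp
  | n :: l => by rw [List.map_cons, List.prod_cons, zpow_list_sum z l, List.sum_cons, zpow_add]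

variable [CharP F 2]

theorem sqrt_iter [Finite F] : ∀ (e : ℕ) (a : F), ∃ z, z ^ (2 ^ e) = a
  | 0, a => ⟨a, by simp⟩
  | e + 1, a => by
    obtain ⟨b, hb⟩ := sqrt2 a
    obtain ⟨z, hz⟩ := sqrt_iter e b
    exact ⟨z, by rw [pow_succ, pow_mul, hz, hb]⟩

theorem rep_comm (hF : Facts D) {R : List ℕ} {lam : ℕ → ℕ → ℤ} {e : ℕ} (h : repOk D R lam e = true)
    {x y : ℕ} (hx : x ∈ R) (hy : y ∈ R) (t u : F) : Commute (hF.xg x t) (hF.xg y u) := by
  simp only [repOk, Bool.and_eq_true, List.all_eq_true, decide_eq_true_eq, Bool.or_eq_true, beq_iff_eq] at h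
  obtain ⟨⟨hx1, hx2⟩, hx3⟩ := h.2 x hx
  obtain ⟨⟨hy1, hy2⟩, -⟩ := h.2 y hy
  rcases (hx3 y hy).1 with rfl | hnil
  · show _ = _
    rw [← hF.xg_add, ← hF.xg_add, add_comm]
  by_cases hxy : x = y
  · subst hxy
    show _ = _
    rw [← hF.xg_add, ← hF.xg_add, add_comm]
  have hne : y ≠ D.neg x := by
    rw [hF.neg_eq x hx2]
    have := hF.even
    omega
  have key := xconj hF hx2 hy2 (Ne.symm hxy) hne t u
  rw [List.isEmpty_iff.1 hnil, List.map_nil, List.prod_nil, mul_one] at key
  have hinv : (hF.xg x t)⁻¹ = hF.xg x t := by rw [← hF.xg_neg, CharTwo.neg_eq]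
  show _ = _
  calc hF.xg x t * hF.xg y u = hF.xg x t * hF.xg y u * (hF.xg x t * (hF.xg x t)⁻¹) := by group
    _ = hF.xg x t * hF.xg y u * hF.xg x t * hF.xg x t := by rw [hinv]; group
    _ = _ := by rw [key]

/-- A product over a representative set is conjugate to the standard element. -/
theorem cj_rep [Finite F] (hF : Facts D) {R : List ℕ} {lam : ℕ → ℕ → ℤ} {e : ℕ}
    (h : repOk D R lam e = true) {c : ℕ → F} (hc : Supp D (addBits 0 R) c) (hne : ∀ x ∈ R, c x ≠ 0) :
    CJ D F (el hF c) (repEl hF R) := by
  classical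
  have h' := h
  simp only [repOk, Bool.and_eq_true, List.all_eq_true, decide_eq_true_eq, Bool.or_eq_true, beq_iff_eq] at h'
  obtain ⟨hnd, hR⟩ := h'
  set ps := R.map fun r => (r, c r) with hps
  have hel : el hF c = (R.map fun r => hF.xg r (c r)).prod := by
    have h1 := prod_eq_prodOver hF hF.closedList_posL.sorted.nodup (ps := ps) (fun p hp => by
      obtain ⟨r, hr, rfl⟩ := List.mem_map.1 hp
      exact Facts.mem_posL.2 (hR r hr).1) fun p hp r t hr => by
      obtain ⟨a, ha, rfl⟩ := List.mem_map.1 hp
      obtain ⟨q, hq, rfl⟩ := List.mem_map.1 hr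
      obtain ⟨b, hb, rfl⟩ := List.mem_map.1 hq
      exact rep_comm hF h ha hb _ _
    rw [hps, List.map_map] at h1
    refine Eq.trans ?_ h1.symm
    refine CommSys.prodOver_congr _ fun r hr => ?_
    by_cases hrR : r ∈ R
    · exact (coef_of_nodup (p := (r, c r)) (by rw [List.map_map]; simpa [Function.comp_def] using hnd)
        (List.mem_map.2 ⟨r, hrR, rfl⟩)).symm
    · rw [hc r (Facts.mem_posL.1 hr).1 (Facts.mem_posL.1 hr).2 (by rw [has_addBits]; simp [has_eq, hrR])]
      rw [coef, List.filter_eq_nil_iff.2 fun q hq => ?_]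
      · simp
      · obtain ⟨b, hb, rfl⟩ := List.mem_map.1 hq
        simp only [beq_iff_eq]
        exact fun e' => hrR (e' ▸ hb)
  choose z hz using fun x => sqrt_iter (F := F) e (c x)⁻¹
  have hz0 : ∀ x ∈ R, z x ≠ 0 := fun x hx h0 => by
    have := hz x
    rw [h0, zero_pow (pow_ne_zero e two_ne_zero)] at this
    exact inv_ne_zero (hne x hx) this.symm
  let zu : ℕ → Fˣ := fun x => if h0 : z x ≠ 0 then Units.mk0 _ h0 else 1
  let k : Fin D.rank → Fˣ := fun i => (R.map fun x => zu x ^ lam x i.val).prod
  have hchar : ∀ y ∈ R, (torChar D k y : F) * c y = 1 := by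
    intro y hy
    have hk : torChar D k y = (R.map fun x => zu x ^ (if x = y then (2 : ℤ) ^ e else 0)).prod := by
      have h1 : ∀ x ∈ R, (if x = y then (2 : ℤ) ^ e else 0) =
          ((List.range D.rank).map fun i => lam x i * D.cartan i y).sum := fun x hx => by
        rw [((hR x hx).2 y hy).2]
      rw [List.map_congr_left fun x hx => by rw [h1 x hx], torChar]
      have h2 : ∀ x, zu x ^ ((List.range D.rank).map fun i => lam x i * D.cartan i y).sum =
          ∏ i : Fin D.rank, (zu x ^ lam x i.val) ^ D.cartan i.val y := by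
        intro x
        rw [← zpow_list_sum, List.map_map, ← Fin.prod_univ_fun_getElem]
        refine Finset.prod_bij' (fun i _ => Fin.cast (by simp) i) (fun i _ => Fin.cast (by simp) i)
          (by simp) (by simp) (by simp) (by simp) fun i _ => ?_
        simp [zpow_mul]
      rw [List.map_congr_left fun x _ => h2 x]
      simp only [k]
      clear hel hps ps hnd hne hc hR h hz hz0 h1 hy
      induction R with
      | nil => simp
      | cons x R ih =>
        simp only [List.map_cons, List.prod_cons]
        rw [← ih, ← Finset.prod_mul_distrib]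
        exact Finset.prod_congr rfl fun i _ => mul_zpow ..
    have h3 : (R.map fun x => zu x ^ (if x = y then (2 : ℤ) ^ e else 0)).prod = zu y ^ (2 : ℤ) ^ e := by
      rw [List.prod_map_eq_pow_single y, List.count_eq_one_of_mem hnd hy, pow_one, if_pos rfl]
      intro b hb _
      rw [if_neg hb, zpow_zero]
    rw [hk, h3, show ((2 : ℤ) ^ e) = (((2 : ℕ) ^ e : ℕ) : ℤ) by push_cast; rfl, zpow_natCast,
      Units.val_pow_eq_pow_val]
    simp only [zu, dif_pos (hz0 y hy), Units.val_mk0, hz]
    exact inv_mul_cancel₀ (hne y hy)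
  refine ⟨torus D F k, hF.torus_mem_group k, ?_⟩
  rw [hel, repEl, ← MulAut.conj_apply, map_list_prod, List.map_map]
  congr 1
  refine List.map_congr_left fun r hr => ?_
  show torus D F k * hF.xg r (c r) * (torus D F k)⁻¹ = hF.xg r 1
  rw [hF.torus_conj k (hR r hr).1.2, hchar r hr]

/-- The target of the checker for checked representatives. -/
def target [Finite F] (hF : Facts D) (reps : List (List ℕ)) (lam : ℕ → ℕ → ℕ → ℤ) (es : ℕ → ℕ)
    (h : ∀ j, j < reps.length → repOk D (reps.getD j []) (lam j) (es j) = true) : Target D F hF reps where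
  Std u := ∃ j, j < reps.length ∧ CJ D F u (repEl hF (reps.getD j []))
  of_cj := fun huv ⟨j, hj, hcj⟩ => ⟨j, hj, huv.trans hcj⟩
  of_rep := fun j hj _ hc hne => ⟨j, hj, cj_rep hF (h j hj) hc hne⟩

theorem repEl_sq (hF : Facts D) {R : List ℕ} {lam : ℕ → ℕ → ℤ} {e : ℕ} (h : repOk D R lam e = true) :
    repEl hF R * repEl hF R = (1 : GL D.Idx F) := by
  have key : ∀ S : List ℕ, (∀ x ∈ S, x ∈ R) →
      (S.map fun r => hF.xg r (1 : F)).prod * (S.map fun r => hF.xg r (1 : F)).prod = 1 := by
    intro S hS
    induction S with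
    | nil => simp
    | cons x S ih =>
      rw [List.map_cons, List.prod_cons]
      have hc : Commute (hF.xg x (1 : F)) (S.map fun r => hF.xg r (1 : F)).prod := by
        refine Commute.list_prod_right _ _ fun g hg => ?_
        obtain ⟨y, hy, rfl⟩ := List.mem_map.1 hg
        exact rep_comm hF h (hS x (List.mem_cons_self ..)) (hS y (List.mem_cons_of_mem _ hy)) _ _
      rw [hc.symm.mul_mul_mul_comm, ih fun y hy => hS y (List.mem_cons_of_mem _ hy), mul_one, ← hF.xg_add,
        CharTwo.add_self_eq_zero, hF.xg_zero]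
  exact key R fun x hx => hx

/-- A bit vector. -/
def vec (D : ChevalleyDatum) (F : Type*) [Field F] (v : ℕ) : D.Idx → F :=
  fun p => if has v (idxEquiv D p : ℕ) = true then 1 else 0

omit [CharP F 2] in
theorem vec_zero : vec D F 0 = 0 := by
  funext p
  simp [vec, has_eq]

theorem vec_xor (a b : ℕ) : vec D F (Nat.xor a b) = vec D F a + vec D F b := by
  funext p
  simp only [vec, Pi.add_apply, has_eq]
  show (if (a ^^^ b).testBit _ = true then (1 : F) else 0) = _
  rw [Nat.testBit_xor]
  cases a.testBit (idxEquiv D p : ℕ) <;> cases b.testBit (idxEquiv D p : ℕ) <;>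
    simp [CharTwo.add_self_eq_zero]

/-- x_r(1) on bit vectors. -/
def app (D : ChevalleyDatum) (n : ℕ) (r v : ℕ) : ℕ :=
  force v fun v => (ent D r).foldl
    (fun acc m => if decide (m.c % 2 ≠ 0) && has v m.col && Nat.ble (m.col + 1) n then
      Nat.xor acc (2 ^ m.row) else acc) v

theorem mulVec_app {n : ℕ} (hn : n = D.rank + D.nroots) (r v : ℕ) :
    (D.x F r 1).mulVec (vec D F v) = vec D F (app D n r v) := by
  rw [x_eq D F r 1 1, Matrix.add_mulVec, Matrix.one_mulVec, app, force_eq]
  have key : ∀ (L : List Tm) (acc : ℕ), vec D F acc + (ev D F 1 1 L).mulVec (vec D F v) =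
      vec D F (L.foldl (fun acc m => if decide (m.c % 2 ≠ 0) && has v m.col && Nat.ble (m.col + 1) n then
        Nat.xor acc (2 ^ m.row) else acc) acc) := by
    intro L
    induction L with
    | nil => intro acc; simp [ev]
    | cons m L ih =>
      intro acc
      rw [List.foldl_cons, ← ih, ev, evL_cons, Matrix.add_mulVec, ← add_assoc]
      congr 1
      have hterm : (m.ev (idxEquiv D) (1 : F) 1).mulVec (vec D F v) =
          if decide (m.c % 2 ≠ 0) && has v m.col && Nat.ble (m.col + 1) n then vec D F (2 ^ m.row) else 0 := by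
        funext p
        simp only [Matrix.mulVec, dotProduct, tm_ev_apply, one_pow, mul_one]
        by_cases hcol : m.col + 1 ≤ n
        · obtain ⟨q, hq⟩ : ∃ q : D.Idx, (idxEquiv D q : ℕ) = m.col :=
            ⟨(idxEquiv D).symm ⟨m.col, by omega⟩, by simp⟩
          rw [Finset.sum_eq_single q]
          · rw [hq, show Nat.ble (m.col + 1) n = true from Nat.ble_eq_true_of_le hcol, Bool.and_true]
            simp only [and_true, vec, hq]
            by_cases hv : has v m.col = true
            · by_cases hc : m.c % 2 = 0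
              · simp [hv, hc, cast_even hc]
              · simp [hv, hc, cast_odd hc, has_two_pow, vec, eq_comm]
            · simp [hv]
          · intro b _ hb
            have : (idxEquiv D b : ℕ) ≠ m.col := fun e' => hb ((idxEquiv D).injective (Fin.ext (e'.trans hq.symm)))
            simp [this]
          · simp
        · rw [show Nat.ble (m.col + 1) n = false from by
            rw [Bool.eq_false_iff]; exact fun h' => hcol (Nat.le_of_ble_eq_true h'), Bool.and_false]
          refine (Finset.sum_eq_zero fun b _ => ?_).trans (by simp)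
          have h1 := (idxEquiv D b).isLt
          have : (idxEquiv D b : ℕ) ≠ m.col := by omega
          simp [this]
      rw [hterm]
      split
      · rw [vec_xor]
      · rw [add_zero]
  exact key (ent D r) v

/-- The odd entries of x_r(1) − 1. -/
def oddEnt (D : ChevalleyDatum) (n r : ℕ) : List (ℕ × ℕ) :=
  ((ent D r).filter fun m => decide (m.c % 2 ≠ 0) && Nat.ble (m.col + 1) n).map fun m => (m.row, m.col)

/-- Accumulate the odd entries. -/
def accE (v : ℕ) : List (ℕ × ℕ) → ℕ → ℕ
  | [], acc => acc
  | m :: L, acc => bif has v m.2 then force (Nat.xor acc (2 ^ m.1)) (accE v L) else accE v L acc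

theorem accE_eq (v : ℕ) : ∀ (L : List (ℕ × ℕ)) (acc : ℕ),
    accE v L acc = L.foldl (fun acc m => if has v m.2 then Nat.xor acc (2 ^ m.1) else acc) acc
  | [], _ => rfl
  | m :: L, acc => by
    rw [accE, List.foldl_cons]
    cases h : has v m.2 <;> simp [force_eq, accE_eq v L]

/-- Chunks of entries with the masks of their columns. -/
abbrev EntTable := List (ℕ × List (ℕ × ℕ))

/-- Accumulate chunk by chunk, skipping those away from the vector. -/
def accC (v : ℕ) : EntTable → ℕ → ℕ
  | [], acc => acc
  | g :: G, acc => bif Nat.beq (Nat.land v g.1) 0 then accC v G acc else force (accE v g.2 acc) (accC v G)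

/-- x_r(1) on bit vectors, from the chunks. -/
def appE (L : EntTable) (v : ℕ) : ℕ :=
  force v fun v => accC v L v

/-- The chunks are the odd entries. -/
def tableOk (D : ChevalleyDatum) (n r : ℕ) (G : EntTable) : Bool :=
  G.flatMap Prod.snd == oddEnt D n r && G.all fun g => Nat.beq g.1 (addBits 0 (g.2.map Prod.snd))

theorem accC_eq (v : ℕ) : ∀ (G : EntTable) (acc : ℕ),
    (∀ g ∈ G, g.1 = addBits 0 (g.2.map Prod.snd)) → accC v G acc = accE v (G.flatMap Prod.snd) acc
  | [], _, _ => rfl
  | g :: G, acc, h => by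
    have hG : ∀ g' ∈ G, g'.1 = addBits 0 (g'.2.map Prod.snd) := fun g' hg => h g' (List.mem_cons_of_mem _ hg)
    rw [accC, List.flatMap_cons, accE_eq _ (g.2 ++ _), List.foldl_append, ← accE_eq, ← accE_eq]
    cases h0 : Nat.beq (Nat.land v g.1) 0
    · simp [force_eq, accC_eq v G _ hG]
    · rw [cond_true, accC_eq v G acc hG]
      congr 1
      rw [accE_eq]
      have hno : ∀ m ∈ g.2, has v m.2 = false := by
        intro m hm
        cases hv : has v m.2
        · rfl
        · exfalso
          have h1 : v &&& g.1 = 0 := Nat.eq_of_beq_eq_true h0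
          have h2 : has g.1 m.2 = true := by
            rw [h g (List.mem_cons_self ..), has_addBits, decide_eq_true (List.mem_map.2 ⟨m, hm, rfl⟩),
              Bool.or_true]
          rw [has_eq] at hv h2
          have h3 : (v &&& g.1).testBit m.2 = true := by rw [Nat.testBit_and, hv, h2]; rfl
          rw [h1, Nat.zero_testBit] at h3
          cases h3
      generalize g.2 = L at hno
      induction L generalizing acc with
      | nil => rfl
      | cons m L ih =>
        rw [List.foldl_cons, hno m (List.mem_cons_self ..)]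
        exact ih acc fun x hx => hno x (List.mem_cons_of_mem _ hx)

theorem appE_eq {n r : ℕ} {G : EntTable} (h : tableOk D n r G = true) (v : ℕ) : appE G v = app D n r v := by
  simp only [tableOk, Bool.and_eq_true, List.all_eq_true, beq_iff_eq] at h
  rw [appE, app, force_eq, force_eq, accC_eq v G v fun g hg => Nat.eq_of_beq_eq_true (h.2 g hg), h.1, accE_eq,
    oddEnt]
  generalize ent D r = L
  suffices ∀ acc, ((L.filter fun m => decide (m.c % 2 ≠ 0) && Nat.ble (m.col + 1) n).map
      fun m => (m.row, m.col)).foldl (fun acc m => if has v m.2 then Nat.xor acc (2 ^ m.1) else acc) acc =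
      L.foldl (fun acc m => if decide (m.c % 2 ≠ 0) && has v m.col && Nat.ble (m.col + 1) n then
        Nat.xor acc (2 ^ m.row) else acc) acc from this v
  induction L with
  | nil => intro acc; rfl
  | cons m L ih =>
    intro acc
    rw [List.filter_cons, List.foldl_cons]
    by_cases h1 : (decide (m.c % 2 ≠ 0) && Nat.ble (m.col + 1) n) = true
    · rw [if_pos h1, List.map_cons, List.foldl_cons, ih]
      simp only [Bool.and_eq_true] at h1
      rw [h1.1, h1.2, Bool.true_and, Bool.and_true]
    · rw [if_neg h1, ih]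
      have : (decide (m.c % 2 ≠ 0) && has v m.col && Nat.ble (m.col + 1) n) = false := by
        revert h1
        cases decide (m.c % 2 ≠ 0) <;> cases has v m.col <;> cases Nat.ble (m.col + 1) n <;> simp
      rw [this]
      simp

/-- A product of x_r(1) on bit vectors. -/
def appW : List EntTable → ℕ → ℕ
  | [], v => v
  | L :: Ls, v => force (appW Ls v) (appE L)

/-- The column of u − 1. -/
def dcol (Ls : List EntTable) (c : ℕ) : ℕ :=
  force (2 ^ c) fun b => Nat.xor (appW Ls b) b

/-- The tables of a list of roots are right. -/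
def tablesOk (D : ChevalleyDatum) (n : ℕ) : List ℕ → List EntTable → Bool
  | [], [] => true
  | r :: R, G :: Gs => tableOk D n r G && tablesOk D n R Gs
  | _, _ => false

/-- Exclusive or of a list. -/
def xorAll : List ℕ → ℕ
  | [] => 0
  | a :: l => Nat.xor a (xorAll l)

theorem vec_xorAll : ∀ l : List ℕ, vec D F (xorAll l) = (l.map (vec D F)).sum
  | [] => by simp [xorAll, vec_zero]
  | a :: l => by rw [xorAll, vec_xor, vec_xorAll l, List.map_cons, List.sum_cons]

/-- A certificate for the rank: reduced echelon rows with pivots and combinations. -/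
abbrev RankCert := List (ℕ × ℕ × List ℕ)

/-- Check of a rank certificate. -/
def rankOk (D : ChevalleyDatum) (n : ℕ) (R : List ℕ) (Ls : List EntTable) (cols : Tr ℕ)
    (cert : RankCert) : Bool :=
  Nat.beq n (D.rank + D.nroots) && tablesOk D n R Ls &&
  ((List.range n).all fun c => force c fun c => Nat.beq (cols.get c) (dcol Ls c)) &&
  (cert.all fun w => Nat.ble (w.2.1 + 1) n && (w.2.2.all fun c => Nat.ble (c + 1) n) &&
    Nat.beq w.1 (xorAll (w.2.2.map cols.get))) &&
  ((List.range cert.length).all fun i => (List.range cert.length).all fun j =>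
    has (cert.getD i (0, 0, [])).1 (cert.getD j (0, 0, [])).2.1 == Nat.beq i j) &&
  (List.range n).all fun c => force (cols.get c) fun d =>
    Nat.beq d (xorAll ((cert.filter fun w => has d w.2.1).map Prod.fst))

/-- The rank of u − 1. -/
theorem rank_repEl (hF : Facts D) {n : ℕ} {R : List ℕ} {Ls : List EntTable} {cols : Tr ℕ}
    {cert : RankCert} (h : rankOk D n R Ls cols cert = true) :
    (((repEl hF R : GL D.Idx F) : Matrix D.Idx D.Idx F) - 1).rank = cert.length := by
  classical
  simp only [rankOk, Bool.and_eq_true, List.all_eq_true, force_eq, List.mem_range, beq_iff_eq] at h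
  obtain ⟨⟨⟨⟨⟨hn, hLs⟩, hcols⟩, hw⟩, hpiv⟩, hcol⟩ := h
  have hn' : n = D.rank + D.nroots := Nat.eq_of_beq_eq_true hn
  set y : Matrix D.Idx D.Idx F := ((repEl hF R : GL D.Idx F) : Matrix D.Idx D.Idx F) with hy
  have happ : ∀ v, y.mulVec (vec D F v) = vec D F (appW Ls v) := by
    rw [hy, coe_repEl]
    clear hw hpiv hcol hcols hy y
    induction R generalizing Ls with
    | nil =>
      cases Ls with
      | nil => intro v; simp [appW]
      | cons G Gs => simp [tablesOk] at hLs
    | cons r R ih =>
      cases Ls with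
      | nil => simp [tablesOk] at hLs
      | cons G Gs =>
        simp only [tablesOk, Bool.and_eq_true] at hLs
        intro v
        rw [List.map_cons, List.prod_cons, ← Matrix.mulVec_mulVec, ih hLs.2, mulVec_app hn', appW, force_eq,
          appE_eq hLs.1]
  have hM : ∀ c, c < n → (y - 1).mulVecLin (vec D F (2 ^ c)) = vec D F (cols.get c) := by
    intro c hc
    rw [Nat.eq_of_beq_eq_true (hcols c hc), Matrix.mulVecLin_apply, Matrix.sub_mulVec, Matrix.one_mulVec,
      happ, dcol, force_eq, vec_xor,
      sub_eq_add_neg]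
    congr 1
    funext p
    simp [CharTwo.neg_eq]
  let W : Fin cert.length → (D.Idx → F) := fun i => vec D F (cert.getD i.val (0, 0, [])).1
  have hspan : LinearMap.range (y - 1).mulVecLin = Submodule.span F (Set.range W) := by
    refine le_antisymm ?_ (Submodule.span_le.2 ?_)
    · rintro v ⟨x, rfl⟩
      rw [pi_eq_sum_univ x, map_sum]
      refine Submodule.sum_mem _ fun p _ => ?_
      rw [LinearMap.map_smul]
      refine Submodule.smul_mem _ _ ?_
      have hp : (fun q : D.Idx => if p = q then (1 : F) else 0) = vec D F (2 ^ (idxEquiv D p : ℕ)) := by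
        funext q
        simp only [vec, has_two_pow, decide_eq_true_eq]
        by_cases e' : p = q
        · subst e'; simp
        · rw [if_neg e', if_neg fun e2 => e' ((idxEquiv D).injective (Fin.ext e2))]
      rw [hp, hM _ (hn' ▸ (idxEquiv D p).isLt), Nat.eq_of_beq_eq_true (hcol _ (hn' ▸ (idxEquiv D p).isLt)), vec_xorAll, List.map_map]
      refine list_sum_mem fun z hz => ?_
      obtain ⟨w, hwm, rfl⟩ := List.mem_map.1 hz
      obtain ⟨i, hi, rfl⟩ := List.getElem_of_mem (List.mem_filter.1 hwm).1
      refine Submodule.subset_span ⟨⟨i, hi⟩, ?_⟩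
      simp [W, List.getD_eq_getElem _ _ hi]
    · rintro v ⟨i, rfl⟩
      have hmem : cert.getD i.val (0, 0, []) ∈ cert := by
        rw [List.getD_eq_getElem _ _ i.isLt]; exact List.getElem_mem _
      show W i ∈ _
      simp only [W]
      rw [Nat.eq_of_beq_eq_true (hw _ hmem).2, vec_xorAll, List.map_map]
      refine list_sum_mem fun z hz => ?_
      obtain ⟨c, hc, rfl⟩ := List.mem_map.1 hz
      exact ⟨_, hM c (Nat.le_of_ble_eq_true ((hw _ hmem).1.2 c hc))⟩
  have hli : LinearIndependent F W := by
    rw [Fintype.linearIndependent_iff]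
    intro g hg i
    have hp := (hw _ (show cert.getD i.val (0, 0, []) ∈ cert by
      rw [List.getD_eq_getElem _ _ i.isLt]; exact List.getElem_mem _)).1.1
    set p := (cert.getD i.val (0, 0, [])).2.1
    have h1 := congrFun hg ((idxEquiv D).symm ⟨p, hn' ▸ Nat.le_of_ble_eq_true hp⟩)
    simp only [Finset.sum_apply, Pi.smul_apply, smul_eq_mul, W, vec, Equiv.apply_symm_apply, Pi.zero_apply] at h1
    rw [Finset.sum_eq_single i] at h1
    · rw [hpiv _ i.isLt _ i.isLt] at h1
      simpa using h1
    · intro j _ hj
      rw [hpiv _ j.isLt _ i.isLt]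
      have : Nat.beq j.val i.val = false := by
        rw [Bool.eq_false_iff]; exact fun e' => hj (Fin.ext (Nat.eq_of_beq_eq_true e'))
      simp [this]
    · simp
  rw [Matrix.rank, hspan, finrank_span_eq_card hli, Fintype.card_fin]

omit [CharP F 2] in
theorem rank_of_cj {a b : GL D.Idx F} (h : CJ D F a b) :
    ((a : Matrix D.Idx D.Idx F) - 1).rank = ((b : Matrix D.Idx D.Idx F) - 1).rank := by
  obtain ⟨g, -, rfl⟩ := h
  have e1 : ((g * a * g⁻¹ : GL D.Idx F) : Matrix D.Idx D.Idx F) - 1 =
      (g : Matrix D.Idx D.Idx F) * (((a : Matrix D.Idx D.Idx F) - 1) * ((g⁻¹ : GL D.Idx F) : Matrix D.Idx D.Idx F)) := by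
    rw [Matrix.sub_mul, Matrix.one_mul, Matrix.mul_sub, ← Units.val_mul g g⁻¹, mul_inv_cancel, Units.val_one,
      Units.val_mul, Units.val_mul, Matrix.mul_assoc]
  have e2 : (a : Matrix D.Idx D.Idx F) - 1 = ((g⁻¹ : GL D.Idx F) : Matrix D.Idx D.Idx F) *
      ((((g * a * g⁻¹ : GL D.Idx F) : Matrix D.Idx D.Idx F) - 1) * (g : Matrix D.Idx D.Idx F)) := by
    rw [e1, Matrix.mul_assoc, ← Matrix.mul_assoc _ (g : Matrix D.Idx D.Idx F), ← Units.val_mul g⁻¹ g,
      inv_mul_cancel, Units.val_one, Matrix.one_mul, Matrix.mul_assoc, ← Units.val_mul g⁻¹ g, inv_mul_cancel,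
      Units.val_one, Matrix.mul_one]
  refine le_antisymm ?_ ?_
  · conv_lhs => rw [e2]
    exact (Matrix.rank_mul_le_right _ _).trans (Matrix.rank_mul_le_left _ _)
  · conv_lhs => rw [e1]
    exact (Matrix.rank_mul_le_right _ _).trans (Matrix.rank_mul_le_left _ _)

end Cfsg.Agent.Small.C2Inv.Cert
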