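import Cfsg.Agent.Lib.Small.Char2Invol.Mask
import Mathlib.GroupTheory.QuotientGroup.Basic

/-!
Conjugation and squaring steps on coefficients, with tables for the commutator formula modulo two.
-/

set_option autoImplicit false

namespace Cfsg.Agent.Small.C2Inv.Cert

open Cfsg.Lie Cfsg.Agent.Lie
open scoped MatrixGroups

/-- A binary tree indexed by the bits of a number. -/
inductive Tr (α : Type) where
  | leaf (v : α)
  | node (l r : Tr α)

/-- Evaluate the number before use. -/
def force {α : Type} : ℕ → (ℕ → α) → α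
  | 0, f => f 0
  | n + 1, f => f (n + 1)

theorem force_eq {α : Type} (x : ℕ) (f : ℕ → α) : force x f = f x := by cases x <;> rfl

/-- Look up. -/
def Tr.get {α : Type} : Tr α → ℕ → α
  | .leaf v, _ => v
  | .node l r, i => if Nat.beq (i % 2) 0 then force (i / 2) l.get else force (i / 2) r.get

theorem beq_nat (a b : ℕ) : Nat.beq a b = (a == b) := by
  rw [Bool.eq_iff_iff, beq_iff_eq]
  exact ⟨Nat.eq_of_beq_eq_true, fun h => h ▸ Nat.beq_refl a⟩

/-- A partner, the resulting root and the two exponents. -/
abbrev Entry := ℕ × ℕ × ℕ × ℕ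

/-- The odd terms of a root with all others. -/
def oddRow (D : ChevalleyDatum) (p : ℕ) : List Entry :=
  (List.range D.nroots).flatMap fun a =>
    if a == p || a == D.neg p then [] else (oddTerms D p a).map fun c => (a, c.1, c.2.2.1, c.2.2.2)

/-- Tables for a datum. -/
structure Tab where
  row : Tr (List Entry)
  dec : Tr (List ℕ)
  refl : Tr ℕ

/-- The image of a root under a simple reflection. -/
def Tab.R (T : Tab) (D : ChevalleyDatum) (i s : ℕ) : ℕ := force (D.rank * s + i) T.refl.get

/-- Boolean check of the rows. -/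
def rowOk (D : ChevalleyDatum) (T : Tab) (p : ℕ) : Bool := T.row.get p == oddRow D p

theorem beq_fun (a : ℕ) : (fun b => Nat.beq b a) = fun b => b == a := funext fun b => beq_nat b a

/-- A list has an entry with given partner and root. -/
def hasPair (a k : ℕ) : List Entry → Bool
  | [] => false
  | e :: es => (Nat.beq e.1 a && Nat.beq e.2.1 k) || hasPair a k es

theorem hasPair_eq (a k : ℕ) : ∀ l : List Entry, hasPair a k l = l.any fun e => e.1 == a && e.2.1 == k
  | [] => rfl
  | e :: es => by rw [hasPair, hasPair_eq a k es, List.any_cons, beq_nat, beq_nat]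

/-- Boolean check of decompositions, symmetry and reflections. -/
def posOk (D : ChevalleyDatum) (T : Tab) (p : ℕ) : Bool :=
  ((T.row.get p).all fun e => decide (e.1 < D.nroots / 2) ||
    ((T.dec.get e.2.1).contains (Nat.lor (2 ^ p) (2 ^ e.1)) &&
      hasPair p e.2.1 (T.row.get e.1))) &&
  (List.range D.rank).all fun i => p == D.simple i ||
    (T.row.get p).all fun e => decide (e.1 < D.nroots / 2) || e.1 == D.simple i ||
      force (T.R D i e.1) fun a' => force (T.R D i e.2.1) fun k' =>
        hasPair a' k' (T.row.get (T.R D i p))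

/-- Boolean check of the reflection table. -/
def reflOk (D : ChevalleyDatum) (T : Tab) (i : ℕ) : Bool :=
  (List.range D.nroots).all fun s => T.R D i s == D.reflectRoot i s

/-- The tables are right. -/
structure TabOk (D : ChevalleyDatum) (T : Tab) : Prop where
  row_eq : ∀ p, p < D.nroots → rowOk D T p = true
  pos_ok : ∀ p, D.nroots / 2 ≤ p → p < D.nroots → posOk D T p = true
  refl_ok : ∀ i, i < D.rank → reflOk D T i = true

variable {D : ChevalleyDatum} {T : Tab}

theorem TabOk.row' (hT : TabOk D T) {p : ℕ} (hp : p < D.nroots) : T.row.get p = oddRow D p :=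
  eq_of_beq (hT.row_eq p hp)

theorem TabOk.refl' (hT : TabOk D T) {i s : ℕ} (hi : i < D.rank) (hs : s < D.nroots) :
    T.R D i s = D.reflectRoot i s := by
  have h := hT.refl_ok i hi
  rw [reflOk, List.all_eq_true] at h
  exact eq_of_beq (h s (List.mem_range.2 hs))

theorem mem_oddRow {p : ℕ} {e : Entry} :
    e ∈ oddRow D p ↔ e.1 < D.nroots ∧ e.1 ≠ p ∧ e.1 ≠ D.neg p ∧
      ∃ c ∈ oddTerms D p e.1, e = (e.1, c.1, c.2.2.1, c.2.2.2) := by
  simp only [oddRow, List.mem_flatMap, List.mem_range]
  constructor
  · rintro ⟨a, ha, h⟩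
    split at h
    · simp at h
    next hne =>
      obtain ⟨c, hc, rfl⟩ := List.mem_map.1 h
      simp only [Bool.or_eq_true, beq_iff_eq, not_or] at hne
      exact ⟨ha, hne.1, hne.2, c, hc, rfl⟩
  · rintro ⟨h1, h2, h3, c, hc, he⟩
    refine ⟨e.1, h1, ?_⟩
    rw [if_neg (by simp [h2, h3])]
    exact List.mem_map.2 ⟨c, hc, he.symm⟩

/-- An odd term of two positive roots gives an entry. -/
theorem entry_of_term (hF : Facts D) (hT : TabOk D T) {r s : ℕ} (hr : D.nroots / 2 ≤ r) (hr' : r < D.nroots)
    (hs : D.nroots / 2 ≤ s) (hs' : s < D.nroots) (hne : r ≠ s) {c : ℕ × ℤ × ℕ × ℕ}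
    (hc : c ∈ oddTerms D r s) : (s, c.1, c.2.2.1, c.2.2.2) ∈ T.row.get r := by
  rw [hT.row' hr']
  refine mem_oddRow.2 ⟨hs', fun e => hne e.symm, fun e => ?_, c, hc, rfl⟩
  simp only at e
  rw [e, hF.neg_eq r hr'] at hs
  have := hF.even
  omega

theorem pos_entry (hF : Facts D) (hT : TabOk D T) {p : ℕ} (hp : D.nroots / 2 ≤ p) (hp' : p < D.nroots)
    {e : Entry} (he : e ∈ T.row.get p) (ha : D.nroots / 2 ≤ e.1) :
    D.nroots / 2 ≤ e.2.1 ∧ e.2.1 < D.nroots := by
  rw [hT.row' hp'] at he
  obtain ⟨h1, -, -, c, hc, hec⟩ := mem_oddRow.1 he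
  have h := hF.commTerms_gt hp' h1 hp ha (List.mem_filter.1 hc).1
  rw [hec]
  exact ⟨le_trans hp h.2.1.le, h.1⟩

theorem has_or {a b i : ℕ} : has (Nat.lor a b) i = (has a i || has b i) := by
  simp only [has_eq]
  show Nat.testBit (a ||| b) i = _
  rw [Nat.testBit_or]

theorem has_two_pow {a i : ℕ} : has (2 ^ a) i = decide (a = i) := by
  rw [has_eq, Nat.testBit_two_pow]

/-- Indecomposable, by the table. -/
def indecB (T : Tab) (L k : ℕ) : Bool := (T.dec.get k).all fun m => !(sub m L)

theorem indec_of_indecB (hF : Facts D) (hT : TabOk D T) {L k : ℕ} (hL : Closed D L)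
    (h : indecB T L k = true) : Indec D L k := by
  intro r s hr hs hne c hc hk
  have hpr := hL.pos r hr
  have hps := hL.pos s hs
  have he := entry_of_term hF hT hpr.1 hpr.2 hps.1 hps.2 hne hc
  have h1 := hT.pos_ok r hpr.1 hpr.2
  simp only [posOk, hasPair_eq, force_eq, Bool.and_eq_true, List.all_eq_true] at h1
  have h2 := h1.1 _ he
  rw [Bool.or_eq_true, decide_eq_true_eq] at h2
  rcases h2 with h2 | h2
  · exact absurd h2 (not_lt.2 hps.1)
  rw [Bool.and_eq_true, List.contains_iff_mem] at h2
  rw [indecB, List.all_eq_true] at h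
  have h3 := h _ (hk ▸ h2.1)
  have h4 : sub (Nat.lor (2 ^ r) (2 ^ s)) L = true := by
    rw [sub]
    have : (2 ^ r ||| 2 ^ s) &&& L = 2 ^ r ||| 2 ^ s := by
      refine Nat.eq_of_testBit_eq fun i => ?_
      rw [Nat.testBit_and, Nat.testBit_or, Nat.testBit_two_pow, Nat.testBit_two_pow]
      by_cases e1 : r = i
      · subst e1; rw [← has_eq, hr]; simp
      · by_cases e2 : s = i
        · subst e2; rw [← has_eq, hs]; simp
        · simp [e1, e2]
    show Nat.beq ((2 ^ r ||| 2 ^ s) &&& L) (2 ^ r ||| 2 ^ s) = true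
    rw [this]
    exact Nat.beq_refl _
  rw [h4] at h3
  simp at h3

/-- Add roots to a mask. -/
def addBits (L : ℕ) : List ℕ → ℕ
  | [] => L
  | x :: xs => Nat.lor (addBits L xs) (2 ^ x)

theorem has_addBits {L i : ℕ} : ∀ {xs : List ℕ}, has (addBits L xs) i = (has L i || decide (i ∈ xs))
  | [] => by simp [addBits]
  | x :: xs => by
    rw [addBits, has_or, has_addBits, has_two_pow]
    by_cases e : x = i
    · subst e; simp
    · simp [e, Ne.symm e]

/-- The extension by the given roots is closed. -/
def extB (D : ChevalleyDatum) (T : Tab) (L : ℕ) (new : List ℕ) : Bool :=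
  new.all fun x => decide (D.nroots / 2 ≤ x) && decide (x < D.nroots) &&
    (T.row.get x).all fun e => !(has (addBits L new) e.1) || has (addBits L new) e.2.1

theorem closed_ext (hF : Facts D) (hT : TabOk D T) {L : ℕ} {new : List ℕ} (hL : Closed D L)
    (h : extB D T L new = true) : Closed D (addBits L new) := by
  simp only [extB, List.all_eq_true, Bool.and_eq_true, decide_eq_true_eq, Bool.or_eq_true,
    Bool.not_eq_true'] at h
  have hpos : ∀ r, has (addBits L new) r = true → D.nroots / 2 ≤ r ∧ r < D.nroots := by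
    intro r hr
    rw [has_addBits, Bool.or_eq_true, decide_eq_true_eq] at hr
    rcases hr with hr | hr
    exacts [hL.pos r hr, (h r hr).1]
  refine ⟨hpos, fun r s hr hs hne c hc => ?_⟩
  have hpr := hpos r hr
  have hps := hpos s hs
  have he := entry_of_term hF hT hpr.1 hpr.2 hps.1 hps.2 hne hc
  have key : ∀ x, x ∈ new → ∀ e ∈ T.row.get x, has (addBits L new) e.1 = true →
      has (addBits L new) e.2.1 = true := by
    intro x hx e he' ha
    rcases (h x hx).2 e he' with h' | h'
    · rw [ha] at h'; cases h'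
    · exact h'
  by_cases h1 : r ∈ new
  · exact key r h1 _ he hs
  by_cases h2 : s ∈ new
  · have h3 := hT.pos_ok r hpr.1 hpr.2
    simp only [posOk, hasPair_eq, force_eq, Bool.and_eq_true, List.all_eq_true] at h3
    have h4 := h3.1 _ he
    rw [Bool.or_eq_true, decide_eq_true_eq] at h4
    rcases h4 with h4 | h4
    · exact absurd h4 (not_lt.2 hps.1)
    simp only [Bool.and_eq_true, List.any_eq_true, beq_iff_eq] at h4
    obtain ⟨e', he', h5, h6⟩ := h4.2
    have := key s h2 e' he' (h5 ▸ hr)
    rwa [h6] at this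
  rw [has_addBits, decide_eq_false (p := r ∈ new) h1, Bool.or_false] at hr
  rw [has_addBits, decide_eq_false (p := s ∈ new) h2, Bool.or_false] at hs
  rw [has_addBits, hL.closed r s hr hs hne c hc, Bool.true_or]

/-- Entries with partner in the mask. -/
def entries (T : Tab) (p L : ℕ) : List Entry := (T.row.get p).filter fun e => has L e.1

/-- Those with a given resulting root. -/
def at' (E : List Entry) (s : ℕ) : List Entry := E.filter fun e => Nat.beq e.2.1 s

variable {F : Type*} [Field F]

/-- The value of the entries at a root. -/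
def valAt (E : List Entry) (t : F) (c : ℕ → F) (s : ℕ) : F :=
  ((at' E s).map fun e => t ^ e.2.2.1 * c e.1 ^ e.2.2.2).sum

theorem coef_append (a b : List (ℕ × F)) (s : ℕ) : coef (a ++ b) s = coef a s + coef b s := by
  simp [coef, List.filter_append]

theorem coef_flatMap {α : Type*} (l : List α) (f : α → List (ℕ × F)) (s : ℕ) :
    coef (l.flatMap f) s = (l.map fun a => coef (f a) s).sum := by
  induction l with
  | nil => simp [coef]
  | cons a l ih => rw [List.flatMap_cons, coef_append, ih, List.map_cons, List.sum_cons]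

variable (hF : Facts D)

include hF in
theorem term_exp {r s : ℕ} (hr : r < D.nroots) (hs : s < D.nroots) {c : ℕ × ℤ × ℕ × ℕ}
    (hc : c ∈ oddTerms D r s) : 1 ≤ c.2.2.1 ∧ 1 ≤ c.2.2.2 :=
  ⟨(hF.commTerms_psi hr hs (List.mem_filter.1 hc).1).1, (hF.commTerms_psi hr hs (List.mem_filter.1 hc).1).2.1⟩

variable [CharP F 2]

/-- Conjugation by a root element. -/
theorem conj_step (hT : TabOk D T) {p L L' : ℕ} (hp : p < D.nroots) (hneg : has L (D.neg p) = false)
    (hL : Closed D L) (hL' : Closed D L') (hsub : ∀ r, has L r = true → has L' r = true)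
    (hext : ∀ e ∈ entries T p L, has L' e.2.1 = true) {c : ℕ → F} (hc : Supp D L c) (t : F) :
    ∃ c' : ℕ → F, Supp D L' c' ∧ hF.xg p t * el hF c * hF.xg p t = el hF c' ∧
      ∀ s, has L' s = true → Indec D L' s → c' s = c s + valAt (entries T p L) t c s := by
  classical
  set P := Facts.posL D with hP
  let img : ℕ → List (ℕ × F) := fun a => (a, c a) ::
    (if has L a = true ∧ a ≠ p then
      (oddTerms D p a).map fun k => (k.1, t ^ k.2.2.1 * c a ^ k.2.2.2) else [])
  set W := P.flatMap img with hW
  have hgg : ∀ v : F, hF.xg p v * hF.xg p v = 1 := fun v => by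
    rw [← hF.xg_add, CharTwo.add_self_eq_zero, hF.xg_zero]
  have himg : ∀ a ∈ P, hF.xg p t * hF.xg a (c a) * hF.xg p t =
      ((img a).map fun q => hF.xg q.1 q.2).prod := by
    intro a ha
    obtain ⟨ha1, ha2⟩ := Facts.mem_posL.1 ha
    cases hla : has L a
    · simp [img, hla, hc a ha1 ha2 hla, hF.xg_zero, hgg]
    · by_cases hap : a = p
      · subst hap
        simp only [img, ne_eq, not_true, and_false, if_false, List.map_cons, List.map_nil, List.prod_cons,
          List.prod_nil, mul_one]
        rw [← hF.xg_add, ← hF.xg_add]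
        congr 1
        rw [add_comm t (c a), add_assoc, CharTwo.add_self_eq_zero, add_zero]
      · have hne : a ≠ D.neg p := fun e => by rw [e] at hla; rw [hla] at hneg; cases hneg
        rw [xconj hF hp ha2 hap hne]
        simp only [img, hla, ne_eq, hap, not_false_eq_true, and_self, if_true, List.map_cons,
          List.prod_cons, List.map_map]
        rfl
  have hprod : hF.xg p t * el hF c * hF.xg p t = (W.map fun q => hF.xg q.1 q.2).prod := by
    rw [el, CommSys.prodOver, hW]
    have : ∀ M : List ℕ, (∀ a ∈ M, a ∈ P) →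
        hF.xg p t * (M.map fun a => hF.xg a (c a)).prod * hF.xg p t =
          ((M.flatMap img).map fun q => hF.xg q.1 q.2).prod := by
      intro M hM
      induction M with
      | nil => simpa using hgg t
      | cons a M ih =>
        rw [List.map_cons, List.prod_cons, List.flatMap_cons, List.map_append, List.prod_append,
          ← himg a (hM a (List.mem_cons_self ..)), ← ih fun b hb => hM b (List.mem_cons_of_mem _ hb)]
        calc hF.xg p t * (hF.xg a (c a) * (M.map fun a => hF.xg a (c a)).prod) * hF.xg p t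
            = hF.xg p t * hF.xg a (c a) * (hF.xg p t * hF.xg p t) *
                (M.map fun a => hF.xg a (c a)).prod * hF.xg p t := by rw [hgg]; group
          _ = _ := by group
    exact this P fun a ha => ha
  have hWmem : ∀ q ∈ W, has L' q.1 = true ∨ q.2 = 0 := by
    intro q hq
    obtain ⟨a, ha, hqa⟩ := List.mem_flatMap.1 hq
    obtain ⟨ha1, ha2⟩ := Facts.mem_posL.1 ha
    rcases List.mem_cons.1 hqa with rfl | hq'
    · cases hla : has L a
      · exact Or.inr (hc a ha1 ha2 hla)
      · exact Or.inl (hsub a hla)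
    · split at hq'
      next h =>
        obtain ⟨k, hk, rfl⟩ := List.mem_map.1 hq'
        refine Or.inl (hext (a, k.1, k.2.2.1, k.2.2.2) (List.mem_filter.2 ⟨?_, h.1⟩))
        rw [hT.row' hp]
        have hne' : a ≠ D.neg p := fun e => by rw [e] at h; rw [h.1] at hneg; cases hneg
        exact mem_oddRow.2 ⟨ha2, h.2, hne', k, hk, rfl⟩
      · simp at hq'
  have hmem : hF.xg p t * el hF c * hF.xg p t ∈ UL hF L' := by
    rw [hprod]
    refine Subgroup.list_prod_mem _ fun g hg => ?_
    obtain ⟨q, hq, rfl⟩ := List.mem_map.1 hg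
    rcases hWmem q hq with h | h
    · exact xg_mem_UL hF (hL'.pos _ h).1 (hL'.pos _ h).2 h _
    · rw [h, hF.xg_zero]; exact one_mem _
  obtain ⟨c', hc', he⟩ := exists_supp hF hL' hmem
  refine ⟨c', hc', he, fun s hs hi => ?_⟩
  rw [coef_word hF hL' hs hi hWmem hc' (hprod.symm.trans he), hW, coef_flatMap]
  have hsp := hL'.pos s hs
  have hsplit : ∀ a ∈ P, coef (img a) s = (if a = s then c a else 0) +
      (if has L a = true then
        (((T.row.get p).filter fun e => e.1 == a && Nat.beq e.2.1 s).map
          fun e => t ^ e.2.2.1 * c e.1 ^ e.2.2.2).sum else 0) := by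
    intro a ha
    obtain ⟨ha1, ha2⟩ := Facts.mem_posL.1 ha
    have hhead : ∀ l : List (ℕ × F), coef ((a, c a) :: l) s = (if a = s then c a else 0) + coef l s := by
      intro l
      by_cases e : a = s <;> simp [coef, e]
    simp only [img, hhead]
    congr 1
    have hrow : ∀ (h : a ≠ D.neg p), (T.row.get p).filter (fun e => e.1 == a && Nat.beq e.2.1 s) =
        if a = p then [] else ((oddTerms D p a).map fun k => (a, k.1, k.2.2.1, k.2.2.2)).filter
          fun e : Entry => Nat.beq e.2.1 s := by
      intro h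
      rw [hT.row' hp, oddRow, List.filter_flatMap]
      have key : ∀ M : List ℕ, M.Nodup → (M.flatMap fun b =>
          List.filter (fun e : Entry => e.1 == a && Nat.beq e.2.1 s)
            (if b == p || b == D.neg p then [] else
              (oddTerms D p b).map fun k => (b, k.1, k.2.2.1, k.2.2.2))) =
          if a ∈ M ∧ a ≠ p then ((oddTerms D p a).map fun k => (a, k.1, k.2.2.1, k.2.2.2)).filter
            fun e : Entry => Nat.beq e.2.1 s else [] := by
        intro M hM
        induction M with
        | nil => simp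
        | cons b M ih =>
          rw [List.nodup_cons] at hM
          rw [List.flatMap_cons, ih hM.2]
          by_cases e : b = a
          · subst e
            by_cases hbp : b = p
            · simp [hbp]
            · simp [hbp, h, hM.1, List.filter_map, Function.comp_def]
          · have : List.filter (fun e : Entry => e.1 == a && Nat.beq e.2.1 s)
                (if b == p || b == D.neg p then [] else
                  (oddTerms D p b).map fun k => (b, k.1, k.2.2.1, k.2.2.2)) = [] := by
              refine List.filter_eq_nil_iff.2 fun x hx => ?_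
              split at hx
              · simp at hx
              · obtain ⟨k, -, rfl⟩ := List.mem_map.1 hx
                simp [e]
            rw [this, List.nil_append]
            simp [Ne.symm e]
      rw [key _ List.nodup_range]
      by_cases e : a = p <;> simp [e, List.mem_range.2 ha2, hp]
    cases hla : has L a
    · simp [coef]
    · have hne : a ≠ D.neg p := fun e => by rw [e] at hla; rw [hla] at hneg; cases hneg
      rw [if_pos rfl, hrow hne]
      by_cases hap : a = p
      · simp [hap, coef]
      · simp only [hap, if_false, true_and, ne_eq, not_false_eq_true, if_true]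
        rw [coef, List.filter_map, List.filter_map, List.map_map, List.map_map]
        simp only [Function.comp_def, beq_nat]
  rw [List.map_congr_left hsplit, List.sum_map_add]
  congr 1
  · rw [List.sum_map_eq_nsmul_single s, List.count_eq_one_of_mem hF.closedList_posL.sorted.nodup
      (Facts.mem_posL.2 hsp), one_smul, if_pos rfl]
    intro b hb _
    simp [hb]
  · have hE : ∀ e ∈ entries T p L, e.1 ∈ P := fun e he =>
      Facts.mem_posL.2 (hL.pos _ (List.mem_filter.1 he).2)
    have hN : P.Nodup := hF.closedList_posL.sorted.nodup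
    rw [valAt, at', entries]
    rw [entries] at hE
    generalize T.row.get p = E at hE ⊢
    induction E with
    | nil => simp
    | cons e E ih =>
      have ih' := ih fun x hx => hE x (by
        rw [List.filter_cons]
        split
        · exact List.mem_cons_of_mem _ hx
        · exact hx)
      have hval : ∀ a, (if has L a = true then
          (((e :: E).filter fun e => e.1 == a && Nat.beq e.2.1 s).map
            fun e => t ^ e.2.2.1 * c e.1 ^ e.2.2.2).sum else 0) =
          (if e.1 = a then (if has L a = true ∧ Nat.beq e.2.1 s = true then t ^ e.2.2.1 * c e.1 ^ e.2.2.2 else 0)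
            else 0) + (if has L a = true then
          ((E.filter fun e => e.1 == a && Nat.beq e.2.1 s).map
            fun e => t ^ e.2.2.1 * c e.1 ^ e.2.2.2).sum else 0) := by
        intro a
        by_cases h1 : e.1 = a <;> by_cases h2 : has L a = true <;>
          by_cases h3 : Nat.beq e.2.1 s = true <;> simp [List.filter_cons, h1, h2, h3]
      rw [List.map_congr_left fun a _ => hval a, List.sum_map_add, ih']
      by_cases h2 : has L e.1 = true
      · rw [List.sum_map_eq_nsmul_single e.1, List.count_eq_one_of_mem hN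
          (hE e (List.mem_filter.2 ⟨List.mem_cons_self .., h2⟩)), one_smul, if_pos rfl]
        · by_cases h3 : Nat.beq e.2.1 s = true <;> simp [List.filter_cons, h2, h3]
        · intro b hb _
          simp [Ne.symm hb]
      · rw [List.sum_eq_zero]
        · simp [List.filter_cons, h2]
        · intro x hx
          obtain ⟨a, -, rfl⟩ := List.mem_map.1 hx
          by_cases h1 : e.1 = a
          · subst h1; simp [h2]
          · simp [h1]

/-- Conjugation by a simple reflection. -/
theorem refl_step (hT : TabOk D T) {i L L' : ℕ} (hi : i < D.rank) (hsimple : has L (D.simple i) = false)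
    (hL : Closed D L) (himg : ∀ s, D.nroots / 2 ≤ s → s < D.nroots → has L' s = has L (T.R D i s))
    (hpos : ∀ s, has L' s = true → D.nroots / 2 ≤ s ∧ s < D.nroots) {c : ℕ → F} (hc : Supp D L c) :
    Closed D L' ∧ ∃ c' : ℕ → F, Supp D L' c' ∧
      hF.ng (D.simple i) (1 : F) * el hF c * (hF.ng (D.simple i) 1)⁻¹ = el hF c' ∧
      ∀ s, has L' s = true → Indec D L' s → c' s = c (T.R D i s) := by
  classical
  have hsneg : ∀ s, s < D.nroots → D.nroots / 2 ≤ s → D.reflectRoot i s = D.simple i → False := by
    intro s hs hsp e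
    have h1 := hF.refl_refl i hi s hs
    rw [e, Facts.refl_simple i] at h1
    have h2 := hF.neg_eq _ (hF.simple_lt i hi)
    have h3 := hF.simple_ge i hi
    have := hF.even
    rw [h1] at h2
    omega
  have hne : ∀ s, has L' s = true → s ≠ D.simple i := by
    intro s hs e
    have hp := hpos s hs
    have h1 : has L (T.R D i s) = true := by rw [← himg s hp.1 hp.2]; exact hs
    rw [e, hT.refl' hi (hF.simple_lt i hi), Facts.refl_simple i] at h1
    have := (hL.pos _ h1).1
    rw [hF.neg_eq _ (hF.simple_lt i hi)] at this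
    have h3 := hF.simple_ge i hi
    have := hF.even
    omega
  have hclosed : Closed D L' := by
    refine ⟨hpos, fun r s hr hs hrs k hk => ?_⟩
    have hpr := hpos r hr
    have hps := hpos s hs
    have he := entry_of_term hF hT hpr.1 hpr.2 hps.1 hps.2 hrs hk
    have h1 := hT.pos_ok r hpr.1 hpr.2
    simp only [posOk, hasPair_eq, force_eq, Bool.and_eq_true, List.all_eq_true, List.mem_range, Bool.or_eq_true, beq_iff_eq,
      decide_eq_true_eq, List.any_eq_true] at h1
    obtain ⟨e', he', h2, h3⟩ : ∃ e' ∈ T.row.get (T.R D i r), e'.1 = T.R D i s ∧ e'.2.1 = T.R D i k.1 := by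
      rcases h1.2 i hi with h | h
      · exact absurd h (hne r hr)
      rcases h _ he with (h | h) | h
      · exact absurd h (not_lt.2 hps.1)
      · exact absurd h (hne s hs)
      · exact h
    have hr' : has L (T.R D i r) = true := by rw [← himg r hpr.1 hpr.2]; exact hr
    have hs' : has L (T.R D i s) = true := by rw [← himg s hps.1 hps.2]; exact hs
    have hp' := hL.pos _ hr'
    rw [hT.row' hp'.2] at he'
    obtain ⟨-, h4, -, k', hk', hek⟩ := mem_oddRow.1 he'
    have hcl := hL.closed _ e'.1 hr' (h2.symm ▸ hs') (Ne.symm h4) k' hk'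
    have : k'.1 = e'.2.1 := by rw [hek]
    rw [this, h3] at hcl
    have hgt := hF.commTerms_gt hpr.2 hps.2 hpr.1 hps.1 (List.mem_filter.1 hk).1
    rw [himg k.1 (le_trans hpr.1 hgt.2.1.le) hgt.1]
    exact hcl
  refine ⟨hclosed, ?_⟩
  set P := Facts.posL D with hP
  set g := hF.ng (D.simple i) (1 : F) with hg
  let W : List (ℕ × F) := P.map fun a => (D.reflectRoot i a, c a)
  have hprod : g * el hF c * g⁻¹ = (W.map fun q => hF.xg q.1 q.2).prod := by
    rw [el, CommSys.prodOver, ← MulAut.conj_apply, map_list_prod, List.map_map, List.map_map]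
    congr 1
    refine List.map_congr_left fun a ha => ?_
    show g * hF.xg a (c a) * g⁻¹ = hF.xg (D.reflectRoot i a) (c a)
    rw [hg, hF.ng_conj i hi a (Facts.mem_posL.1 ha).2]
    congr 1
    rcases hF.eta_sign i hi a (Facts.mem_posL.1 ha).2 with he | he <;>
      simp [Facts.sgn, he, CharTwo.neg_eq]
  have hWmem : ∀ q ∈ W, has L' q.1 = true ∨ q.2 = 0 := by
    intro q hq
    obtain ⟨a, ha, rfl⟩ := List.mem_map.1 hq
    obtain ⟨ha1, ha2⟩ := Facts.mem_posL.1 ha
    cases hla : has L a
    · exact Or.inr (hc a ha1 ha2 hla)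
    · left
      have hane : a ≠ D.simple i := fun e => by rw [e, hsimple] at hla; cases hla
      have h1 := hF.refl_pos i hi a ha2 ha1 hane
      have h2 := hF.refl_lt i hi a ha2
      show has L' (D.reflectRoot i a) = true
      rw [himg _ h1 h2, hT.refl' hi h2, hF.refl_refl i hi a ha2, hla]
  have hmem : g * el hF c * g⁻¹ ∈ UL hF L' := by
    rw [hprod]
    refine Subgroup.list_prod_mem _ fun x hx => ?_
    obtain ⟨q, hq, rfl⟩ := List.mem_map.1 hx
    rcases hWmem q hq with h | h
    · exact xg_mem_UL hF (hclosed.pos _ h).1 (hclosed.pos _ h).2 h _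
    · rw [h, hF.xg_zero]; exact one_mem _
  obtain ⟨c', hc', he⟩ := exists_supp hF hclosed hmem
  refine ⟨c', hc', he, fun s hs hind => ?_⟩
  rw [coef_word hF hclosed hs hind hWmem hc' (hprod.symm.trans he)]
  have hsp := hclosed.pos s hs
  rw [hT.refl' hi hsp.2]
  have hnd : (W.map Prod.fst).Nodup := by
    rw [List.map_map]
    refine List.Nodup.map_on (fun a ha b hb hab => ?_) hF.closedList_posL.sorted.nodup
    have := congrArg (D.reflectRoot i) hab
    simp only [Function.comp_apply] at this
    rwa [hF.refl_refl i hi a (Facts.mem_posL.1 ha).2, hF.refl_refl i hi b (Facts.mem_posL.1 hb).2] at this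
  have hmemW : (s, c (D.reflectRoot i s)) ∈ W :=
    List.mem_map.2 ⟨D.reflectRoot i s, Facts.mem_posL.2 ⟨hF.refl_pos i hi s hsp.2 hsp.1 (hne s hs),
      hF.refl_lt i hi s hsp.2⟩, by rw [hF.refl_refl i hi s hsp.2]⟩
  exact coef_of_nodup hnd hmemW

omit [CharP F 2] in
theorem sum_single_le {a : F} {l : List F} (h : ∀ x ∈ l, x = 0) : a + l.sum = a := by
  rw [List.sum_eq_zero h, add_zero]

/-- The square of an involution forces a product of two coefficients to vanish. -/
theorem square_step (hT : TabOk D T) {L a b s : ℕ} (hL : Closed D L) (ha : has L a = true)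
    (hb : has L b = true) (hs : has L s = true) (hab : a < b) (hia : Indec D L a) (hib : Indec D L b)
    (hdec : ∀ r r', has L r = true → has L r' = true → r ≠ r' → ∀ k ∈ oddTerms D r r', k.1 = s →
      (r = a ∧ r' = b) ∨ (r = b ∧ r' = a))
    {e : Entry} (hone : (at' (T.row.get a) s).filter (fun e => Nat.beq e.1 b) = [e])
    {c : ℕ → F} (hc : Supp D L c) (hsq : el hF c * el hF c = 1) : c a = 0 ∨ c b = 0 := by
  classical
  have hpa := hL.pos a ha
  have hpb := hL.pos b hb
  have hps := hL.pos s hs
  have heE : e ∈ T.row.get a ∧ e.2.1 = s ∧ e.1 = b := by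
    have : e ∈ (at' (T.row.get a) s).filter (fun e => Nat.beq e.1 b) := by
      rw [hone]; exact List.mem_singleton_self _
    obtain ⟨h1, h2⟩ := List.mem_filter.1 this
    obtain ⟨h3, h4⟩ := List.mem_filter.1 h1
    exact ⟨h3, Nat.eq_of_beq_eq_true h4, Nat.eq_of_beq_eq_true h2⟩
  have hrow := heE.1
  rw [hT.row' hpa.2] at hrow
  obtain ⟨-, -, -, k0, hk0, hek0⟩ := mem_oddRow.1 hrow
  rw [heE.2.2] at hk0 hek0
  have hk0s : k0.1 = s := by rw [← heE.2.1, hek0]
  have hgt := hF.commTerms_gt hpa.2 hpb.2 hpa.1 hpb.1 (List.mem_filter.1 hk0).1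
  rw [hk0s] at hgt
  set M := rem (rem (rem L a) b) s with hM
  have hMiff : ∀ r, has M r = true ↔ r ≠ a ∧ r ≠ b ∧ r ≠ s ∧ has L r = true := by
    intro r
    simp only [hM, has_rem_iff]
    constructor
    · rintro ⟨h1, h2, h3, h4⟩; exact ⟨Ne.symm h3, Ne.symm h2, Ne.symm h1, h4⟩
    · rintro ⟨h1, h2, h3, h4⟩; exact ⟨Ne.symm h3, Ne.symm h2, Ne.symm h1, h4⟩
  -- terms of pairs other than {a, b} lie in M
  have hterm : ∀ r r', has L r = true → has L r' = true → r ≠ r' → ∀ k ∈ oddTerms D r r',
      k.1 ≠ s → has M k.1 = true := fun r r' hr hr' hne k hk hks =>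
    (hMiff _).2 ⟨hia r r' hr hr' hne k hk, hib r r' hr hr' hne k hk, hks, hL.closed r r' hr hr' hne k hk⟩
  have hMc : Closed D M := by
    refine ⟨fun r hr => hL.pos r ((hMiff r).1 hr).2.2.2, fun r r' hr hr' hne k hk => ?_⟩
    obtain ⟨h1, h2, h3, h4⟩ := (hMiff r).1 hr
    obtain ⟨h1', h2', h3', h4'⟩ := (hMiff r').1 hr'
    refine hterm r r' h4 h4' hne k hk fun hks => ?_
    rcases hdec r r' h4 h4' hne k hk hks with ⟨rfl, -⟩ | ⟨rfl, -⟩
    exacts [h1 rfl, h2 rfl]
  set N := UL hF (F := F) M with hN
  have hnorm : ∀ q, has L q = true → ∀ (v : F) (n : GL D.Idx F), n ∈ N →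
      hF.xg q v * n * hF.xg q v ∈ N := by
    intro q hq v n hn
    refine conj_mem_UL hF (hL.pos q hq).2 (fun r hr => ?_) hMc.pos v hn
    obtain ⟨h1, h2, h3, h4⟩ := (hMiff r).1 hr
    refine ⟨fun e' => ?_, fun hne k hk => ?_⟩
    · have h5 := (hL.pos r h4).1
      rw [e', hF.neg_eq q (hL.pos q hq).2] at h5
      have := (hL.pos q hq)
      have := hF.even
      omega
    · refine hterm q r hq h4 (Ne.symm hne) k hk fun hks => ?_
      rcases hdec q r hq h4 (Ne.symm hne) k hk hks with ⟨-, rfl⟩ | ⟨-, rfl⟩
      exacts [h2 rfl, h1 rfl]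
  have hNle : UL hF (F := F) L ≤ Subgroup.normalizer (N : Set (GL D.Idx F)) := by
    refine CommSys.US_le _ fun q hq v => ?_
    obtain ⟨-, hqL⟩ := mem_lst.1 hq
    have hinv : (hF.xg q v)⁻¹ = hF.xg q v := by rw [← hF.xg_neg, CharTwo.neg_eq]
    show hF.xg q v ∈ Subgroup.normalizer (N : Set (GL D.Idx F))
    rw [Subgroup.mem_normalizer_iff]
    intro n
    rw [hinv]
    refine ⟨fun h => hnorm q hqL v n h, fun h => ?_⟩
    have h' := hnorm q hqL v _ h
    have hb2 : hF.xg q v * hF.xg q v = 1 := by
      rw [← hF.xg_add, CharTwo.add_self_eq_zero, hF.xg_zero]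
    rwa [show hF.xg q v * (hF.xg q v * n * hF.xg q v) * hF.xg q v =
      (hF.xg q v * hF.xg q v) * n * (hF.xg q v * hF.xg q v) by group, hb2, one_mul, mul_one] at h'
  set H := Subgroup.normalizer (N : Set (GL D.Idx F)) with hH
  let π : H →* H ⧸ (N.subgroupOf H) := QuotientGroup.mk' _
  have hxH : ∀ q, has L q = true → ∀ v : F, hF.xg q v ∈ H := fun q hq v =>
    hNle (xg_mem_UL hF (hL.pos q hq).1 (hL.pos q hq).2 hq v)
  let y : ∀ q, has L q = true → F → H ⧸ (N.subgroupOf H) := fun q hq v => π ⟨hF.xg q v, hxH q hq v⟩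
  have hπ : ∀ x : H, π x = 1 ↔ (x : GL D.Idx F) ∈ N := fun x => by
    show QuotientGroup.mk' _ x = 1 ↔ _
    rw [QuotientGroup.mk'_apply, QuotientGroup.eq_one_iff, Subgroup.mem_subgroupOf]
  have hy1 : ∀ q (hq : has L q = true) (v : F), q ≠ a → q ≠ b → q ≠ s → y q hq v = 1 := fun q hq v h1 h2 h3 =>
    (hπ _).2 (xg_mem_UL hF (hL.pos q hq).1 (hL.pos q hq).2 ((hMiff q).2 ⟨h1, h2, h3, hq⟩) v)
  -- u modulo N
  obtain ⟨huH, hu⟩ : ∃ h : el hF c ∈ H, π ⟨el hF c, h⟩ = y a ha (c a) * y b hb (c b) * y s hs (c s) := by
    have key : ∀ M' : List ℕ, M'.Pairwise (· < ·) → (∀ r ∈ M', D.nroots / 2 ≤ r ∧ r < D.nroots) →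
        ∃ h : (M'.map fun r => hF.xg r (c r)).prod ∈ H, π ⟨_, h⟩ =
          (if a ∈ M' then y a ha (c a) else 1) * (if b ∈ M' then y b hb (c b) else 1) *
            (if s ∈ M' then y s hs (c s) else 1) := by
      intro M' hsort hp'
      induction M' with
      | nil =>
        refine ⟨one_mem _, ?_⟩
        simp only [List.not_mem_nil, if_false, mul_one]
        exact map_one π
      | cons r M' ih =>
        obtain ⟨hlt, hsort'⟩ := List.pairwise_cons.1 hsort
        obtain ⟨h, hh⟩ := ih hsort' fun x hx => hp' x (List.mem_cons_of_mem _ hx)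
        have hrH : hF.xg r (c r) ∈ H := by
          cases hlr : has L r
          · rw [hc r (hp' r (List.mem_cons_self ..)).1 (hp' r (List.mem_cons_self ..)).2 hlr, hF.xg_zero]
            exact one_mem _
          · exact hxH r hlr _
        refine ⟨by rw [List.map_cons, List.prod_cons]; exact mul_mem hrH h, ?_⟩
        have hm : π ⟨((r :: M').map fun r => hF.xg r (c r)).prod,
            by rw [List.map_cons, List.prod_cons]; exact mul_mem hrH h⟩ =
            π ⟨hF.xg r (c r), hrH⟩ * π ⟨_, h⟩ := by
          rw [← map_mul]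
          congr 1
        rw [hm, hh]
        have hra : a ∈ M' → r < a := hlt a
        have hrb : b ∈ M' → r < b := hlt b
        have hrs : s ∈ M' → r < s := hlt s
        by_cases e1 : r = a
        · subst e1
          have n1 : r ∉ M' := fun h' => lt_irrefl r (hlt r h')
          simp only [n1, if_false, one_mul, List.mem_cons, true_or, if_true, mul_assoc]
          have e2 : b ≠ r := by omega
          have e3 : s ≠ r := by omega
          simp only [e2, e3, false_or]
          rfl
        by_cases e2 : r = b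
        · subst e2
          have n1 : r ∉ M' := fun h' => lt_irrefl r (hlt r h')
          have n2 : a ∉ M' := fun h' => by have := hlt a h'; omega
          have e3 : s ≠ r := by omega
          simp only [n1, n2, if_false, one_mul, List.mem_cons, true_or, if_true, e3, Ne.symm e1, false_or]
          rfl
        by_cases e3 : r = s
        · subst e3
          have n1 : r ∉ M' := fun h' => lt_irrefl r (hlt r h')
          have n2 : a ∉ M' := fun h' => by have := hlt a h'; omega
          have n3 : b ∉ M' := fun h' => by have := hlt b h'; omega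
          simp only [n1, n2, n3, if_false, one_mul, mul_one, List.mem_cons, true_or, if_true, Ne.symm e1,
            Ne.symm e2, false_or]
          rfl
        have h1 : π ⟨hF.xg r (c r), hrH⟩ = 1 := by
          cases hlr : has L r
          · refine (hπ _).2 ?_
            show hF.xg r (c r) ∈ N
            rw [hc r (hp' r (List.mem_cons_self ..)).1 (hp' r (List.mem_cons_self ..)).2 hlr, hF.xg_zero]
            exact one_mem _
          · exact hy1 r hlr _ e1 e2 e3
        rw [h1, one_mul]
        simp only [List.mem_cons, Ne.symm e1, Ne.symm e2, Ne.symm e3, false_or]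
    obtain ⟨h, hh⟩ := key _ hF.closedList_posL.sorted fun r hr => Facts.mem_posL.1 hr
    rw [if_pos (Facts.mem_posL.2 hpa), if_pos (Facts.mem_posL.2 hpb), if_pos (Facts.mem_posL.2 hps)] at hh
    exact ⟨h, hh⟩
  have hinvo : ∀ q (hq : has L q = true) (v : F), y q hq v * y q hq v = 1 := fun q hq v => by
    show π _ * π _ = 1
    rw [← map_mul]
    refine (hπ _).2 ?_
    show hF.xg q v * hF.xg q v ∈ N
    rw [← hF.xg_add, CharTwo.add_self_eq_zero, hF.xg_zero]
    exact one_mem _
  -- the commutator of two of them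
  have hswap : ∀ q q' (hq : has L q = true) (hq' : has L q' = true), q ≠ q' → ∀ v v' : F,
      ∃ z : H, π z * y q' hq' v' = y q hq v * y q' hq' v' * y q hq v ∧
        (z : GL D.Idx F) = hF.xg q v * hF.xg q' v' * hF.xg q v * hF.xg q' v' := by
    intro q q' hq hq' _ v v'
    refine ⟨⟨_, mul_mem (mul_mem (mul_mem (hxH q hq v) (hxH q' hq' v')) (hxH q hq v)) (hxH q' hq' v')⟩,
      ?_, rfl⟩
    show π _ * π _ = π _ * π _ * π _
    simp only [← map_mul]
    congr 1
    refine Subtype.ext ?_
    show hF.xg q v * hF.xg q' v' * hF.xg q v * hF.xg q' v' * hF.xg q' v' =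
      hF.xg q v * hF.xg q' v' * hF.xg q v
    rw [mul_assoc (hF.xg q v * hF.xg q' v' * hF.xg q v), ← hF.xg_add, CharTwo.add_self_eq_zero,
      hF.xg_zero, mul_one]
  have hconj : ∀ q q' (hq : has L q = true) (hq' : has L q' = true), q ≠ q' → ∀ v v' : F,
      hF.xg q v * hF.xg q' v' * hF.xg q v * hF.xg q' v' =
        hF.xg q' v' * ((oddTerms D q q').map fun k => hF.xg k.1 (v ^ k.2.2.1 * v' ^ k.2.2.2)).prod *
          hF.xg q' v' := by
    intro q q' hq hq' hne v v'
    have hp1 := hL.pos q hq
    have hp2 := hL.pos q' hq'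
    rw [xconj hF hp1.2 hp2.2 hne.symm (by
      rw [hF.neg_eq q hp1.2]
      have := hF.even
      omega)]
  have hcs : ∀ q (hq : has L q = true) (v v' : F), y q hq v * y s hs v' = y s hs v' * y q hq v := by
    intro q hq v v'
    by_cases hqs : q = s
    · subst hqs
      show π _ * π _ = π _ * π _
      rw [← map_mul, ← map_mul]
      congr 1
      refine Subtype.ext ?_
      show hF.xg q v * hF.xg q v' = hF.xg q v' * hF.xg q v
      rw [← hF.xg_add, ← hF.xg_add, add_comm]
    obtain ⟨z, hz, hzv⟩ := hswap q s hq hs hqs v v'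
    have hz1 : π z = 1 := by
      refine (hπ z).2 ?_
      rw [hzv, hconj q s hq hs hqs]
      refine hnorm s hs v' _ (Subgroup.list_prod_mem _ fun x hx => ?_)
      obtain ⟨k, hk, rfl⟩ := List.mem_map.1 hx
      refine xg_mem_UL hF ?_ ?_ (hterm q s hq hs hqs k hk fun hks => ?_) _
      · exact (hL.pos _ (hL.closed q s hq hs hqs k hk)).1
      · exact (hL.pos _ (hL.closed q s hq hs hqs k hk)).2
      · rcases hdec q s hq hs hqs k hk hks with ⟨-, e'⟩ | ⟨-, e'⟩ <;> omega
    rw [hz1, one_mul] at hz
    calc y q hq v * y s hs v' = y q hq v * (y q hq v * y s hs v' * y q hq v) := by rw [← hz]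
      _ = (y q hq v * y q hq v) * y s hs v' * y q hq v := by group
      _ = _ := by rw [hinvo q hq v, one_mul]
  set A := y a ha (c a) with hA
  set B := y b hb (c b) with hB
  set S := y s hs (c s) with hS
  have hsq' : (A * B * S) * (A * B * S) = 1 := by
    rw [← hu, ← map_mul]
    exact (hπ _).2 (by show el hF c * el hF c ∈ N; rw [hsq]; exact one_mem _)
  have hAB : (A * B) * (A * B) = 1 := by
    have h1 : S * A = A * S := (hcs a ha _ _).symm
    have h2 : S * B = B * S := (hcs b hb _ _).symm
    calc (A * B) * (A * B) = (A * B) * (A * B) * (S * S) := by rw [hinvo s hs (c s), mul_one]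
      _ = (A * B * S) * (A * B * S) := by
        simp only [mul_assoc]
        rw [← mul_assoc S A, h1, mul_assoc, ← mul_assoc S B, h2, mul_assoc]
      _ = 1 := hsq'
  obtain ⟨z, hz, hzv⟩ := hswap a b ha hb (by omega) (c a) (c b)
  have hz1 : π z = 1 := by
    have h3 : π z * B * B = A * B * A * B := by rw [hz]
    rw [mul_assoc, hinvo b hb (c b), mul_one] at h3
    rw [h3, mul_assoc]
    exact hAB
  have hzN := (hπ z).1 hz1
  rw [hzv, hconj a b ha hb (by omega)] at hzN
  have hzN' : ((oddTerms D a b).map fun k => hF.xg k.1 (c a ^ k.2.2.1 * c b ^ k.2.2.2)).prod ∈ N := by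
    have h' := hnorm b hb (c b) _ hzN
    have hb2 : hF.xg b (c b) * hF.xg b (c b) = 1 := by
      rw [← hF.xg_add, CharTwo.add_self_eq_zero, hF.xg_zero]
    generalize ((oddTerms D a b).map fun k => hF.xg k.1 (c a ^ k.2.2.1 * c b ^ k.2.2.2)).prod = Z at h' ⊢
    rwa [show hF.xg b (c b) * (hF.xg b (c b) * Z * hF.xg b (c b)) * hF.xg b (c b) =
      (hF.xg b (c b) * hF.xg b (c b)) * Z * (hF.xg b (c b) * hF.xg b (c b)) by group, hb2, one_mul,
      mul_one] at h'
  -- its coefficient at s
  set W : List (ℕ × F) := (oddTerms D a b).map fun k => (k.1, c a ^ k.2.2.1 * c b ^ k.2.2.2) with hWdef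
  have hWm : ∀ q ∈ W, has L q.1 = true ∨ q.2 = 0 := fun q hq => by
    obtain ⟨k, hk, rfl⟩ := List.mem_map.1 hq
    exact Or.inl (hL.closed a b ha hb (by omega) k hk)
  obtain ⟨d, hd, hde⟩ := exists_supp hF hMc hzN'
  set L2 := rem (rem L a) b with hL2
  have hL2c : Closed D L2 := (hL.remove hia).remove fun r r' hr hr' => hib r r' (has_rem_iff.1 hr).2 (has_rem_iff.1 hr').2
  have hsL2 : has L2 s = true := has_rem_iff.2 ⟨by omega, has_rem_iff.2 ⟨by omega, hs⟩⟩
  have his : Indec D L2 s := by
    intro r r' hr hr' hne k hk hks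
    obtain ⟨n2, hr⟩ := has_rem_iff.1 hr
    obtain ⟨n1, hr⟩ := has_rem_iff.1 hr
    rcases hdec r r' hr (has_rem_iff.1 (has_rem_iff.1 hr').2).2 hne k hk hks with ⟨rfl, -⟩ | ⟨rfl, -⟩
    exacts [n1 rfl, n2 rfl]
  have hd2 : Supp D L2 d := fun r h1 h2 hr => hd r h1 h2 (by
    cases hm : has M r
    · rfl
    · obtain ⟨h3, h4, -, h5⟩ := (hMiff r).1 hm
      rw [has_rem_iff.2 ⟨Ne.symm h4, has_rem_iff.2 ⟨Ne.symm h3, h5⟩⟩] at hr
      cases hr)
  have hWm2 : ∀ q ∈ W, has L2 q.1 = true ∨ q.2 = 0 := fun q hq => by
    obtain ⟨k, hk, rfl⟩ := List.mem_map.1 hq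
    exact Or.inl (has_rem_iff.2 ⟨(hib a b ha hb (by omega) k hk).symm,
      has_rem_iff.2 ⟨(hia a b ha hb (by omega) k hk).symm, hL.closed a b ha hb (by omega) k hk⟩⟩)
  have hds := coef_word hF hL2c hsL2 his hWm2 hd2 (by
    rw [hWdef, List.map_map]
    exact hde)
  rw [hd s hps.1 hps.2 (by simp [hM, has_rem])] at hds
  have hsum : coef W s = c a ^ e.2.2.1 * c b ^ e.2.2.2 := by
    have hfil : ((oddTerms D a b).map fun k => (b, k.1, k.2.2.1, k.2.2.2)).filter
        (fun x : Entry => Nat.beq x.2.1 s) = [e] := by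
      rw [← hone, at', hT.row' hpa.2, oddRow, List.filter_filter, List.filter_flatMap]
      have key : ∀ M' : List ℕ, M'.Nodup → (M'.flatMap fun r =>
          List.filter (fun x : Entry => Nat.beq x.1 b && Nat.beq x.2.1 s)
            (if r == a || r == D.neg a then [] else
              (oddTerms D a r).map fun k => (r, k.1, k.2.2.1, k.2.2.2))) =
          if b ∈ M' then ((oddTerms D a b).map fun k => (b, k.1, k.2.2.1, k.2.2.2)).filter
            (fun x : Entry => Nat.beq x.2.1 s) else [] := by
        intro M' hM'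
        induction M' with
        | nil => simp
        | cons r M' ih =>
          rw [List.nodup_cons] at hM'
          rw [List.flatMap_cons, ih hM'.2]
          by_cases e' : r = b
          · subst e'
            have h1 : r ≠ a := by omega
            have h2 : r ≠ D.neg a := by
              rw [hF.neg_eq a hpa.2]
              have := hF.even
              omega
            simp [h1, h2, hM'.1, List.filter_map, Function.comp_def]
          · have : List.filter (fun x : Entry => Nat.beq x.1 b && Nat.beq x.2.1 s)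
                (if r == a || r == D.neg a then [] else
                  (oddTerms D a r).map fun k => (r, k.1, k.2.2.1, k.2.2.2)) = [] := by
              refine List.filter_eq_nil_iff.2 fun x hx => ?_
              split at hx
              · simp at hx
              · obtain ⟨k, -, rfl⟩ := List.mem_map.1 hx
                simp [e']
            rw [this, List.nil_append]
            simp [Ne.symm e']
      rw [key _ List.nodup_range, if_pos (List.mem_range.2 hpb.2)]
    have h2 := congrArg (List.map fun x : Entry => c a ^ x.2.2.1 * c b ^ x.2.2.2) hfil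
    rw [List.filter_map, List.map_map, List.map_singleton] at h2
    rw [coef, hWdef, List.filter_map, List.map_map]
    have h3 : ((oddTerms D a b).filter fun k => k.1 == s) =
        (oddTerms D a b).filter ((fun x : Entry => Nat.beq x.2.1 s) ∘ fun k => (b, k.1, k.2.2.1, k.2.2.2)) :=
      List.filter_congr fun k _ => by simp [Function.comp, beq_nat]
    show (((oddTerms D a b).filter fun k => k.1 == s).map fun k => c a ^ k.2.2.1 * c b ^ k.2.2.2).sum = _
    rw [h3]
    have : ((oddTerms D a b).filter ((fun x : Entry => Nat.beq x.2.1 s) ∘ fun k => (b, k.1, k.2.2.1, k.2.2.2))).map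
        (fun k => c a ^ k.2.2.1 * c b ^ k.2.2.2) = [c a ^ e.2.2.1 * c b ^ e.2.2.2] := h2
    rw [this, List.sum_singleton]
  rw [hsum, eq_comm, mul_eq_zero] at hds
  rcases hds with h | h
  · exact Or.inl (eq_zero_of_pow_eq_zero h)
  · exact Or.inr (eq_zero_of_pow_eq_zero h)

end Cfsg.Agent.Small.C2Inv.Cert
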